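import Cfsg.Agent.R2.H28.SL2.ExtZ

/-!
# Splitting of modules, II (helper28)

* `compl_of_ext0` : `W` has an invariant complement if `Ext0 S c b` for all `b ∈ cf W`, `c ∈ cf (V / W)`;
* `semisimple_of_ext0`, `block`;
* `exists_dul`, `ext0_symm`, `ext0_of_lft` for `SL(2, q)`.
-/

set_option autoImplicit false
set_option linter.unusedSectionVars false

namespace Cfsg.Agent.R2.H28.SL2

open Matrix Cfsg.Agent.H943.SL2Rel Cfsg.Agent.H943.SL2Mod Cfsg.Agent.H943.RepAdd

universe u v w

section General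

variable {k : Type u} [Field k] {G : Type w} [Group G]

/-- complements are isomorphic to the quotient -/
theorem eqv_of_compl {V : Type*} [AddCommGroup V] [Module k V] {ρ : Representation k G V} {W X : Submodule k V}
    (hW : ∀ g, ∀ x ∈ W, ρ g x ∈ W) (hX : ∀ g, ∀ x ∈ X, ρ g x ∈ X) (h : IsCompl W X) :
    Eqv (subRep ρ X hX) (quotRep ρ W hW) := by
  have hi : Function.Injective (W.mkQ ∘ₗ X.subtype) := by
    rw [← LinearMap.ker_eq_bot, LinearMap.ker_eq_bot']
    intro y hy
    have h1 : (y : V) ∈ W ⊓ X := ⟨(Submodule.Quotient.mk_eq_zero _).1 hy, y.2⟩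
    rw [h.inf_eq_bot, Submodule.mem_bot] at h1
    exact Subtype.ext h1
  have hs : Function.Surjective (W.mkQ ∘ₗ X.subtype) := by
    intro z
    obtain ⟨y, rfl⟩ := Submodule.mkQ_surjective _ z
    have h1 : y ∈ W ⊔ X := by
      rw [h.sup_eq_top]
      trivial
    obtain ⟨a, ha, z, hz, e⟩ := Submodule.mem_sup.1 h1
    refine ⟨⟨z, hz⟩, ?_⟩
    show W.mkQ z = _
    rw [← e, map_add, (Submodule.Quotient.mk_eq_zero _).2 ha |> fun h => (show W.mkQ a = 0 from h), zero_add]
  exact ⟨LinearEquiv.ofBijective _ ⟨hi, hs⟩, fun g x => rfl⟩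

/-- every representation has a dual one (on the same space) -/
theorem exists_dul {V : Type*} [AddCommGroup V] [Module k V] [FiniteDimensional k V] (ρ : Representation k G V) :
    ∃ (ρ' : Representation k G V) (B : V →ₗ[k] V →ₗ[k] k), Dul ρ ρ' B := by
  let e : V ≃ₗ[k] Module.Dual k V := (Module.finBasis k V).toDualEquiv
  let ρ' : Representation k G V :=
    { toFun := fun g => (e.symm : Module.Dual k V →ₗ[k] V) ∘ₗ (Representation.dual ρ g) ∘ₗ (e : V →ₗ[k] Module.Dual k V)
      map_one' := by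
        refine LinearMap.ext fun x => ?_
        show e.symm (Representation.dual ρ 1 (e x)) = x
        rw [map_one, Module.End.one_apply, e.symm_apply_apply]
      map_mul' := fun g g' => by
        refine LinearMap.ext fun x => ?_
        show e.symm (Representation.dual ρ (g * g') (e x)) =
          e.symm (Representation.dual ρ g (e (e.symm (Representation.dual ρ g' (e x)))))
        rw [map_mul, e.apply_symm_apply, Module.End.mul_apply] }
  have hρ' : ∀ g x, ρ' g x = e.symm (Representation.dual ρ g (e x)) := fun _ _ => rfl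
  refine ⟨ρ', (e : V →ₗ[k] Module.Dual k V).flip, ?_, ?_, ?_⟩
  · intro g x y
    show e (ρ' g y) (ρ g x) = e y x
    rw [hρ', e.apply_symm_apply]
    show e y (ρ g⁻¹ (ρ g x)) = e y x
    rw [← Module.End.mul_apply, ← map_mul, inv_mul_cancel, map_one, Module.End.one_apply]
  · intro x hx
    refine (Module.forall_dual_apply_eq_zero_iff k x).1 fun f => ?_
    have h1 := hx (e.symm f)
    have h2 : e (e.symm f) x = 0 := h1
    rwa [e.apply_symm_apply] at h2
  · intro y hy
    have h1 : e y = 0 := LinearMap.ext hy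
    exact e.map_eq_zero_iff.1 h1

variable {I : Type*} {S : Sys.{u, v, w} k G I}

/-- **complements** -/
theorem compl_of_ext0 {V : Type v} [AddCommGroup V] [Module k V] [FiniteDimensional k V]
    {ρ : Representation k G V} (W : Submodule k V) (hW : ∀ g, ∀ x ∈ W, ρ g x ∈ W)
    (hE : ∀ b ∈ cf S (subRep ρ W hW), ∀ c ∈ cf S (quotRep ρ W hW), Ext0 S c b) :
    ∃ (X : Submodule k V) (_ : ∀ g, ∀ x ∈ X, ρ g x ∈ X), IsCompl W X := by
  have key : ∀ (n : ℕ) (V : Type v) [AddCommGroup V] [Module k V] [FiniteDimensional k V]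
      (ρ : Representation k G V) (W : Submodule k V) (hW : ∀ g, ∀ x ∈ W, ρ g x ∈ W) (s t : Multiset I)
      (_ : cf S (subRep ρ W hW) = s) (_ : JHn S n (quotRep ρ W hW) t) (_ : ∀ b ∈ s, ∀ c ∈ t, Ext0 S c b),
      ∃ (X : Submodule k V) (_ : ∀ g, ∀ x ∈ X, ρ g x ∈ X), IsCompl W X := by
    intro n
    induction n with
    | zero =>
      intro V _ _ _ ρ W hW s t _ ht _
      have h1 : W = ⊤ := Submodule.Quotient.subsingleton_iff.1 ht.1
      refine ⟨⊥, fun g x hx => ?_, by rw [h1]; exact isCompl_top_bot⟩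
      rw [Submodule.mem_bot] at hx ⊢
      rw [hx, map_zero]
    | succ n ih =>
      intro V _ _ _ ρ W hW s t hs ht hE
      obtain ⟨Z, hZ, c, t', hc, rfl, ht'⟩ := ht
      obtain ⟨X, hX, hcX, hXZ, hXW⟩ := lift0 (S := S) W hW (c := c)
        (fun b hb => hE b (by rw [← hs]; exact hb) c (Multiset.mem_cons_self c t')) Z hZ hc
      -- the image of `W` modulo `X`
      have hW₁ : ∀ g, ∀ x ∈ W.map X.mkQ, quotRep ρ X hX g x ∈ W.map X.mkQ := by
        rintro g _ ⟨x, hx, rfl⟩
        exact ⟨_, hW g x hx, rfl⟩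
      have hfi : Function.Injective (LinearMap.codRestrict (W.map X.mkQ) (X.mkQ ∘ₗ W.subtype)
          fun x => ⟨x, x.2, rfl⟩) := by
        rw [← LinearMap.ker_eq_bot, LinearMap.ker_eq_bot']
        intro x hx
        have k1 : X.mkQ (x : V) = 0 := congrArg Subtype.val hx
        rw [Submodule.mkQ_apply, Submodule.Quotient.mk_eq_zero] at k1
        have k2 : (x : V) ∈ X ⊓ W := ⟨k1, x.2⟩
        rw [hXW, Submodule.mem_bot] at k2
        exact Subtype.ext k2
      have he1 : Eqv (subRep ρ W hW) (subRep (quotRep ρ X hX) (W.map X.mkQ) hW₁) :=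
        ⟨LinearEquiv.ofBijective _ ⟨hfi, by
          rintro ⟨_, x, hx, rfl⟩
          exact ⟨⟨x, hx⟩, rfl⟩⟩, fun g x => Subtype.ext rfl⟩
      -- the quotients
      have hker : ∀ x, (W.map X.mkQ).mkQ (X.mkQ x) = 0 ↔ Z.mkQ (W.mkQ x) = 0 := by
        intro x
        rw [Submodule.mkQ_apply, Submodule.Quotient.mk_eq_zero, Submodule.mkQ_apply (p := Z),
          Submodule.Quotient.mk_eq_zero, ← hXZ]
        constructor
        · rintro ⟨y, hy, h⟩
          have h5 : y - x ∈ X := (Submodule.Quotient.eq X).1 h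
          refine ⟨x - y, by rw [← neg_sub]; exact X.neg_mem h5, ?_⟩
          rw [map_sub, (Submodule.Quotient.mk_eq_zero W).2 hy |> fun h => (show W.mkQ y = 0 from h), sub_zero]
        · rintro ⟨y, hy, h⟩
          have h5 : y - x ∈ W := (Submodule.Quotient.eq W).1 h
          refine ⟨x - y, by rw [← neg_sub]; exact W.neg_mem h5, ?_⟩
          rw [map_sub, (Submodule.Quotient.mk_eq_zero X).2 hy |> fun h => (show X.mkQ y = 0 from h), sub_zero]
      have hinv : ∀ g, ∀ x ∈ LinearMap.ker (Z.mkQ ∘ₗ W.mkQ), ρ g x ∈ LinearMap.ker (Z.mkQ ∘ₗ W.mkQ) := by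
        intro g x hx
        rw [LinearMap.mem_ker, LinearMap.comp_apply] at hx ⊢
        rw [← quotRep_mk ρ W hW, ← quotRep_mk (quotRep ρ W hW) Z hZ, hx, map_zero]
      obtain ⟨e2, he2, -⟩ := quot_iso ρ (quotRep (quotRep ρ W hW) Z hZ) (Z.mkQ ∘ₗ W.mkQ) (fun g x => rfl)
        (Z.mkQ_surjective.comp W.mkQ_surjective) _ hinv (fun x => Iff.rfl)
      obtain ⟨e3, he3, -⟩ := quot_iso ρ (quotRep (quotRep ρ X hX) (W.map X.mkQ) hW₁) ((W.map X.mkQ).mkQ ∘ₗ X.mkQ)
        (fun g x => rfl) ((W.map X.mkQ).mkQ_surjective.comp X.mkQ_surjective) _ hinv (fun x => hker x)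
      have he4 : Eqv (quotRep (quotRep ρ W hW) Z hZ) (quotRep (quotRep ρ X hX) (W.map X.mkQ) hW₁) :=
        Eqv.trans (Eqv.symm ⟨e2, he2⟩) ⟨e3, he3⟩
      obtain ⟨Y', hY', hcompl⟩ := ih (V ⧸ X) (quotRep ρ X hX) (W.map X.mkQ) hW₁ s t'
        (by rw [← hs]; exact (cf_iso S he1).symm) (JHn_iso S he4 ht')
        (fun b hb c' hc' => hE b hb c' (Multiset.mem_cons_of_mem hc'))
      refine ⟨Y'.comap X.mkQ, fun g x hx => hY' g _ hx, ?_⟩
      rw [isCompl_iff, disjoint_iff, codisjoint_iff]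
      constructor
      · rw [eq_bot_iff]
        rintro x ⟨hx1, hx2⟩
        have h1 : X.mkQ x ∈ W.map X.mkQ ⊓ Y' := ⟨⟨x, hx1, rfl⟩, hx2⟩
        rw [hcompl.inf_eq_bot, Submodule.mem_bot] at h1
        have h2 : x ∈ X ⊓ W := ⟨(Submodule.Quotient.mk_eq_zero X).1 h1, hx1⟩
        rwa [hXW] at h2
      · rw [eq_top_iff]
        intro x _
        have h1 : X.mkQ x ∈ W.map X.mkQ ⊔ Y' := by
          rw [hcompl.sup_eq_top]
          trivial
        obtain ⟨_, ⟨y, hy, rfl⟩, z, hz, e⟩ := Submodule.mem_sup.1 h1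
        have h2 : x - y ∈ Y'.comap X.mkQ := by
          show X.mkQ (x - y) ∈ Y'
          rw [map_sub, ← e, add_sub_cancel_left]
          exact hz
        have h3 : x = y + (x - y) := by abel
        rw [h3]
        exact Submodule.add_mem_sup hy h2
  obtain ⟨n, hn⟩ := cf_spec S (quotRep ρ W hW)
  exact key n V ρ W hW _ _ rfl hn hE

/-- **semisimplicity** -/
theorem semisimple_of_ext0 {V : Type v} [AddCommGroup V] [Module k V] [FiniteDimensional k V]
    {ρ : Representation k G V} (hE : ∀ b ∈ cf S ρ, ∀ c ∈ cf S ρ, Ext0 S c b) (W : Submodule k V)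
    (hW : ∀ g, ∀ x ∈ W, ρ g x ∈ W) : ∃ (X : Submodule k V) (_ : ∀ g, ∀ x ∈ X, ρ g x ∈ X), IsCompl W X :=
  compl_of_ext0 W hW fun b hb c hc => hE b (Multiset.mem_of_le (cf_sub_le S ρ W hW) hb) c
    (Multiset.mem_of_le (cf_quot_le S ρ W hW) hc)

theorem cf_sup {V : Type v} [AddCommGroup V] [Module k V] [FiniteDimensional k V] {ρ : Representation k G V}
    {W X : Submodule k V} (hW : ∀ g, ∀ x ∈ W, ρ g x ∈ W) (hX : ∀ g, ∀ x ∈ X, ρ g x ∈ X) (h : IsCompl W X) :
    cf S ρ = cf S (subRep ρ W hW) + cf S (subRep ρ X hX) := by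
  rw [cf_add S ρ W hW, cf_iso S (eqv_of_compl hW hX h)]

/-- **block decomposition** -/
theorem block (P : I → Prop) {V : Type v} [AddCommGroup V] [Module k V] [FiniteDimensional k V]
    {ρ : Representation k G V} (hE : ∀ b ∈ cf S ρ, ∀ c ∈ cf S ρ, P b → ¬ P c → Ext0 S c b ∧ Ext0 S b c) :
    ∃ (X : Submodule k V) (Y : Submodule k V) (hX : ∀ g, ∀ x ∈ X, ρ g x ∈ X) (hY : ∀ g, ∀ x ∈ Y, ρ g x ∈ Y),
      IsCompl X Y ∧ (∀ b ∈ cf S (subRep ρ X hX), P b) ∧ ∀ b ∈ cf S (subRep ρ Y hY), ¬ P b := by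
  classical
  have key : ∀ (n : ℕ) (V : Type v) [AddCommGroup V] [Module k V] [FiniteDimensional k V]
      (ρ : Representation k G V) (s : Multiset I) (_ : JHn S n ρ s)
      (_ : ∀ b ∈ s, ∀ c ∈ s, P b → ¬ P c → Ext0 S c b ∧ Ext0 S b c),
      ∃ (X : Submodule k V) (Y : Submodule k V) (hX : ∀ g, ∀ x ∈ X, ρ g x ∈ X) (hY : ∀ g, ∀ x ∈ Y, ρ g x ∈ Y),
      IsCompl X Y ∧ (∀ b ∈ cf S (subRep ρ X hX), P b) ∧ ∀ b ∈ cf S (subRep ρ Y hY), ¬ P b := by
    intro n
    induction n with
    | zero =>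
      intro V _ _ _ ρ s hs _
      have hV := hs.1
      have hinv : ∀ (X : Submodule k V), ∀ g, ∀ x ∈ X, ρ g x ∈ X := fun X g x hx => by
        rw [Subsingleton.elim (ρ g x) x]
        exact hx
      refine ⟨⊥, ⊤, hinv _, hinv _, isCompl_bot_top, ?_, ?_⟩
      · intro b hb
        rw [cf_zero S] at hb
        exact absurd hb (Multiset.notMem_zero b)
      · intro b hb
        rw [cf_zero S] at hb
        exact absurd hb (Multiset.notMem_zero b)
    | succ n ih =>
      intro V _ _ _ ρ s hs hE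
      obtain ⟨W, hW, b, t, hb, rfl, ht⟩ := hs
      obtain ⟨U₁, U₂, hU₁, hU₂, hU, hP₁, hP₂⟩ := ih (V ⧸ W) (quotRep ρ W hW) t ht
        (fun b' hb' c' hc' => hE b' (Multiset.mem_cons_of_mem hb') c' (Multiset.mem_cons_of_mem hc'))
      have hcft : cf S (quotRep ρ W hW) = t := cf_eq S ht
      have hcfW : cf S (subRep ρ W hW) = {b} := cf_irr S hb
      -- general argument
      have gen : ∀ (A B : Submodule k (V ⧸ W)) (hA : ∀ g, ∀ x ∈ A, quotRep ρ W hW g x ∈ A)
          (hB : ∀ g, ∀ x ∈ B, quotRep ρ W hW g x ∈ B) (_ : IsCompl A B)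
          (_ : ∀ c ∈ cf S (subRep (quotRep ρ W hW) B hB), Ext0 S c b),
          ∃ (X Y : Submodule k V) (hX : ∀ g, ∀ x ∈ X, ρ g x ∈ X) (hY : ∀ g, ∀ x ∈ Y, ρ g x ∈ Y), IsCompl X Y ∧
            cf S (subRep ρ X hX) = cf S (subRep (quotRep ρ W hW) A hA) + {b} ∧
            cf S (subRep ρ Y hY) = cf S (subRep (quotRep ρ W hW) B hB) := by
        intro A B hA hB hAB hext
        obtain ⟨hYA, hWA, he1, he2⟩ := eqv_comap ρ W hW A hA
        obtain ⟨hYB, hWB, he3, he4⟩ := eqv_comap ρ W hW B hB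
        have hle : ∀ C : Submodule k (V ⧸ W), W ≤ C.comap W.mkQ := fun C x hx => by
          show W.mkQ x ∈ C
          rw [(Submodule.Quotient.mk_eq_zero W).2 hx |> fun h => (show W.mkQ x = 0 from h)]
          exact C.zero_mem
        -- a complement in the preimage of `B`
        obtain ⟨T, hT, hTc⟩ := compl_of_ext0 (S := S) (ρ := subRep ρ (B.comap W.mkQ) hYB) _ hWB (by
          intro b' hb' c hc
          rw [cf_iso S he4, hcfW, Multiset.mem_singleton] at hb'
          rw [cf_iso S he3] at hc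
          rw [hb']
          exact hext c hc)
        obtain ⟨hT', he5⟩ := eqv_map (subRep ρ (B.comap W.mkQ) hYB) ρ (B.comap W.mkQ).subtype (fun g x => rfl)
          (Submodule.injective_subtype _) T hT
        have hTW : ∀ x, x ∈ T.map (B.comap W.mkQ).subtype → x ∈ W → x = 0 := by
          rintro _ ⟨y, hy, rfl⟩ hyW
          have h1 : y ∈ W.comap (B.comap W.mkQ).subtype ⊓ T := ⟨hyW, hy⟩
          rw [hTc.inf_eq_bot, Submodule.mem_bot] at h1
          rw [h1, map_zero]
        refine ⟨A.comap W.mkQ, T.map (B.comap W.mkQ).subtype, hYA, hT', ?_, ?_, ?_⟩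
        · rw [isCompl_iff, disjoint_iff, codisjoint_iff]
          constructor
          · rw [eq_bot_iff]
            rintro x ⟨hx1, hx2⟩
            have h1 : W.mkQ x ∈ A ⊓ B := by
              refine ⟨hx1, ?_⟩
              obtain ⟨y, -, rfl⟩ := hx2
              exact y.2
            rw [hAB.inf_eq_bot, Submodule.mem_bot] at h1
            exact (Submodule.mem_bot k).2 (hTW x hx2 ((Submodule.Quotient.mk_eq_zero W).1 h1))
          · rw [eq_top_iff]
            intro x _
            have h1 : W.mkQ x ∈ A ⊔ B := by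
              rw [hAB.sup_eq_top]
              trivial
            obtain ⟨y, hy, z, hz, e⟩ := Submodule.mem_sup.1 h1
            obtain ⟨z, rfl⟩ := W.mkQ_surjective z
            have h2 : (⟨z, hz⟩ : B.comap W.mkQ) ∈ W.comap (B.comap W.mkQ).subtype ⊔ T := by
              rw [hTc.sup_eq_top]
              trivial
            obtain ⟨a, ha, t', ht', e'⟩ := Submodule.mem_sup.1 h2
            have e'' : (a : V) + t' = z := congrArg Subtype.val e'
            have h3 : x - t' ∈ A.comap W.mkQ := by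
              show W.mkQ (x - t') ∈ A
              rw [map_sub, ← e, ← e'', map_add,
                (Submodule.Quotient.mk_eq_zero W).2 ha |> fun h => (show W.mkQ (a : V) = 0 from h), zero_add,
                add_sub_cancel_right]
              exact hy
            have h4 : x = (x - t') + t' := by abel
            rw [h4]
            exact Submodule.add_mem_sup h3 ⟨t', ht', rfl⟩
        · rw [cf_add S (subRep ρ (A.comap W.mkQ) hYA) _ hWA, cf_iso S he1, cf_iso S he2, hcfW, add_comm]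
        · rw [← cf_iso S he5, cf_iso S (eqv_of_compl hWB hT hTc), cf_iso S he3]
      have hmem₁ : ∀ c ∈ cf S (subRep (quotRep ρ W hW) U₁ hU₁), c ∈ t := fun c hc => by
        rw [← hcft]
        exact Multiset.mem_of_le (cf_sub_le S _ _ _) hc
      have hmem₂ : ∀ c ∈ cf S (subRep (quotRep ρ W hW) U₂ hU₂), c ∈ t := fun c hc => by
        rw [← hcft]
        exact Multiset.mem_of_le (cf_sub_le S _ _ _) hc
      by_cases hPb : P b
      · obtain ⟨X, Y, hX, hY, hXY, h1, h2⟩ := gen U₁ U₂ hU₁ hU₂ hU fun c hc =>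
          (hE b (Multiset.mem_cons_self b t) c (Multiset.mem_cons_of_mem (hmem₂ c hc)) hPb (hP₂ c hc)).1
        refine ⟨X, Y, hX, hY, hXY, fun c hc => ?_, fun c hc => ?_⟩
        · rw [h1, Multiset.mem_add, Multiset.mem_singleton] at hc
          rcases hc with hc | rfl
          · exact hP₁ c hc
          · exact hPb
        · rw [h2] at hc
          exact hP₂ c hc
      · obtain ⟨X, Y, hX, hY, hXY, h1, h2⟩ := gen U₂ U₁ hU₂ hU₁ hU.symm fun c hc =>
          (hE c (Multiset.mem_cons_of_mem (hmem₁ c hc)) b (Multiset.mem_cons_self b t) (hP₁ c hc) hPb).2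
        refine ⟨Y, X, hY, hX, hXY.symm, fun c hc => ?_, fun c hc => ?_⟩
        · rw [h2] at hc
          exact hP₁ c hc
        · rw [h1, Multiset.mem_add, Multiset.mem_singleton] at hc
          rcases hc with hc | rfl
          · exact hP₂ c hc
          · exact hPb
  obtain ⟨n, hn⟩ := cf_spec S ρ
  exact key n V ρ _ hn hE

end General

variable {k : Type u} [Field k] [DecidableEq k] {F : Type w} [Field F] [Fintype F] [DecidableEq F] (ι : F →+* k)
variable (p : ℕ) [Fact p.Prime] [CharP k p] [CharP F p] [IsAlgClosed k]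

/-- **no extensions** -/
theorem ext0_of_lft {a : ℕ} (hF : Fintype.card F = p ^ a) {c b : ℕ} (h : Lft p a c b) :
    Ext0 (Sy.{u, v, w} ι p) c b := by
  intro V _ _ _ ρ W hW hb hc
  have htop : ∀ g, ∀ x ∈ (⊤ : Submodule k (V ⧸ W)), quotRep ρ W hW g x ∈ (⊤ : Submodule k (V ⧸ W)) :=
    fun _ _ _ => trivial
  obtain ⟨X, hX, -, h1, h2⟩ := lift_irr ι p hF W hW ⊤ htop
    (IsV.iso ι p Submodule.topEquiv.symm (fun g x => Subtype.ext rfl) hc) (fun b' hb' => by
      have h3 : cf (Sy.{u, v, w} ι p) (subRep ρ W hW) = {b} := cf_irr _ hb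
      rw [h3, Multiset.mem_singleton] at hb'
      rw [hb']
      exact h)
  refine ⟨X, hX, ?_⟩
  rw [isCompl_iff, disjoint_iff, codisjoint_iff]
  refine ⟨by rw [inf_comm]; exact h2, ?_⟩
  rw [eq_top_iff]
  intro x _
  have h3 : W.mkQ x ∈ X.map W.mkQ := by
    rw [h1]
    trivial
  obtain ⟨y, hy, e⟩ := h3
  have h4 : x - y ∈ W := by
    have h5 : y - x ∈ W := (Submodule.Quotient.eq W).1 e
    rw [← neg_sub]
    exact W.neg_mem h5
  have h6 : x = (x - y) + y := by abel
  rw [h6]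
  exact Submodule.add_mem_sup h4 hy

/-- **symmetry** -/
theorem ext0_symm {c b : ℕ} (h : Ext0 (Sy.{u, v, w} ι p) c b) : Ext0 (Sy.{u, v, w} ι p) b c := by
  intro V _ _ _ ρ W hW hc hb
  obtain ⟨ρ', B, D⟩ := exists_dul ρ
  obtain ⟨B₁, D₁, -⟩ := D.quot hW
  obtain ⟨B₂, D₂, -⟩ := D.sub hW
  obtain ⟨X', hX', hcompl⟩ := h V ρ' (orth B W) (D.orth_inv hW) (IsV.dual ι p hb D₁) (IsV.dual ι p hc D₂)
  refine ⟨orth B.flip X', D.flip.orth_inv hX', ?_⟩
  rw [isCompl_iff, disjoint_iff, codisjoint_iff]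
  constructor
  · rw [eq_bot_iff]
    rintro x ⟨hx1, hx2⟩
    rw [Submodule.mem_bot]
    refine D.left x fun y => ?_
    have h1 : y ∈ orth B W ⊔ X' := by
      rw [hcompl.sup_eq_top]
      trivial
    obtain ⟨y₁, hy₁, y₂, hy₂, rfl⟩ := Submodule.mem_sup.1 h1
    rw [map_add, hy₁ x hx1]
    have h2 : B x y₂ = 0 := hx2 y₂ hy₂
    rw [h2, add_zero]
  · rw [eq_top_iff]
    intro x _
    refine D.orth_orth _ x fun y hy => ?_
    have h1 : y ∈ orth B W ⊓ X' := by
      refine ⟨fun z hz => hy z (Submodule.mem_sup_left hz), ?_⟩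
      refine D.flip.orth_orth X' y fun z hz => ?_
      exact hy z (Submodule.mem_sup_right hz)
    rw [hcompl.inf_eq_bot, Submodule.mem_bot] at h1
    rw [h1, map_zero]

end Cfsg.Agent.R2.H28.SL2
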