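import Cfsg.Agent.R2.H28.SL2.Cg
import Cfsg.Agent.R2.H28.SL2.ExtY

/-!
# Strict pressure (helper28)

`strict_pressure` : a module without fixed vectors and without invariant functionals which has a trivial composition
factor has fewer trivial factors than exceptional ones; `ext0_zero` : `Ext¹(k, V_b) = 0` if `hb b = 0`.
-/

set_option autoImplicit false
set_option linter.unusedSectionVars false

namespace Cfsg.Agent.R2.H28.SL2

open Matrix Cfsg.Agent.H943.SL2Rel Cfsg.Agent.H943.SL2Mod Cfsg.Agent.H943.RepAdd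
open Cfsg.Agent.H179.SLC (fx mem_fx)

universe u v w

variable {k : Type u} [Field k] [DecidableEq k] {F : Type w} [Field F] [Fintype F] [DecidableEq F] (ι : F →+* k)
variable (p : ℕ) [Fact p.Prime] [CharP k p] [CharP F p]

/-- `V_b` is a submodule -/
def InSoc {V : Type*} [AddCommGroup V] [Module k V] (ρ : Representation k (SpecialLinearGroup (Fin 2) F) V) (b : ℕ) : Prop :=
  ∃ (X : Submodule k V) (hX : ∀ g, ∀ x ∈ X, ρ g x ∈ X), IsV ι p (subRep ρ X hX) b

theorem InSoc.iso {V : Type*} [AddCommGroup V] [Module k V] {ρ : Representation k (SpecialLinearGroup (Fin 2) F) V}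
    {V' : Type*} [AddCommGroup V'] [Module k V'] {ρ' : Representation k (SpecialLinearGroup (Fin 2) F) V'} {b : ℕ}
    (f : V →ₗ[k] V') (hf : ∀ g x, f (ρ g x) = ρ' g (f x)) (hi : Function.Injective f) (h : InSoc ι p ρ b) :
    InSoc ι p ρ' b := by
  obtain ⟨X, hX, hb⟩ := h
  obtain ⟨hX', e, he⟩ := eqv_map ρ ρ' f hf hi X hX
  exact ⟨X.map f, hX', IsV.iso ι p e he hb⟩

variable [IsAlgClosed k] {a : ℕ}

/-- nonzero homomorphisms from `V_b` -/
theorem inSoc_of_hom {V : Type*} [AddCommGroup V] [Module k V] {ρ : Representation k (SpecialLinearGroup (Fin 2) F) V}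
    {B : Type*} [AddCommGroup B] [Module k B] {σ : Representation k (SpecialLinearGroup (Fin 2) F) B} {b : ℕ}
    (hB : IsV ι p σ b) (f : B →ₗ[k] V) (hf : ∀ g x, f (σ g x) = ρ g (f x)) (hf0 : f ≠ 0) : InSoc ι p ρ b := by
  have hirr := hB.irr
  have hker : LinearMap.ker f = ⊥ := by
    rcases hirr.2 (LinearMap.ker f) (fun g x hx => by
      rw [LinearMap.mem_ker] at hx ⊢
      rw [hf, hx, map_zero]) with h | h
    · exact h
    · exact absurd (LinearMap.ker_eq_top.1 h) hf0
  have htop : ∀ g, ∀ x ∈ (⊤ : Submodule k B), σ g x ∈ (⊤ : Submodule k B) := fun _ _ _ => trivial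
  refine InSoc.iso ι p f hf (LinearMap.ker_eq_bot.1 hker) ⟨⊤, htop, ?_⟩
  exact IsV.iso ι p Submodule.topEquiv.symm (fun g x => Subtype.ext rfl) hB

/-- nonzero homomorphisms to `V_b` -/
theorem inSoc_of_hom' {V : Type v} [AddCommGroup V] [Module k V] [FiniteDimensional k V]
    {ρ : Representation k (SpecialLinearGroup (Fin 2) F) V} {V' : Type v} [AddCommGroup V'] [Module k V']
    [FiniteDimensional k V'] {ρ' : Representation k (SpecialLinearGroup (Fin 2) F) V'} {P : V →ₗ[k] V' →ₗ[k] k}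
    (D : Dul ρ ρ' P) {B : Type v} [AddCommGroup B] [Module k B] {σ : Representation k (SpecialLinearGroup (Fin 2) F) B}
    {b : ℕ} (hB : IsV ι p σ b) (f : V →ₗ[k] B) (hf : ∀ g x, f (ρ g x) = σ g (f x)) (hf0 : f ≠ 0) : InSoc ι p ρ' b := by
  have hirr := hB.irr
  have hfin := hB.finite
  have hs : Function.Surjective f := by
    rw [← LinearMap.range_eq_top]
    rcases hirr.2 (LinearMap.range f) (by
      rintro g _ ⟨x, rfl⟩
      exact ⟨_, hf g x⟩) with h | h
    · exact absurd (LinearMap.range_eq_bot.1 h) hf0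
    · exact h
  have hk : ∀ g, ∀ x ∈ LinearMap.ker f, ρ g x ∈ LinearMap.ker f := fun g x hx => by
    rw [LinearMap.mem_ker] at hx ⊢
    rw [hf, hx, map_zero]
  obtain ⟨e, he, -⟩ := quot_iso ρ σ f hf hs (LinearMap.ker f) hk fun x => LinearMap.mem_ker.symm
  obtain ⟨B₁, D₁, -⟩ := D.quot hk
  have h1 : IsV ι p (quotRep ρ _ hk) b := IsV.iso ι p e.symm (fun g x => by
    apply e.injective
    rw [e.apply_symm_apply, he, e.apply_symm_apply]) hB
  exact ⟨_, D.orth_inv hk, IsV.dual ι p h1 D₁⟩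

variable (hF : Fintype.card F = p ^ a)

include hF in
/-- pressure in terms of `cf` -/
theorem pressure_cf {V : Type v} [AddCommGroup V] [Module k V] [FiniteDimensional k V]
    (ρ : Representation k (SpecialLinearGroup (Fin 2) F) V) :
    (cf (Sy.{u, v, w} ι p) ρ).count 0 ≤ Module.finrank k (fx ρ) + Hs p a (cf (Sy.{u, v, w} ι p) ρ) := by
  have h1 := (isMult_cf ι p hF ρ).pressure
  have h2 : Hs p a (cf (Sy.{u, v, w} ι p) ρ) = ∑ b ∈ Finset.range (p ^ a), (cf (Sy.{u, v, w} ι p) ρ).count b * hb p a b := by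
    unfold Hs
    rw [Finset.sum_multiset_map_count, Finset.sum_subset (s₂ := Finset.range (p ^ a))]
    · exact Finset.sum_congr rfl fun b _ => by rw [smul_eq_mul]
    · intro b hb
      exact Finset.mem_range.2 (cf_lt ι p hF ρ b (Multiset.mem_toFinset.1 hb))
    · intro b _ hb
      rw [Multiset.mem_toFinset] at hb
      rw [Multiset.count_eq_zero_of_notMem hb, zero_smul]
  rw [h2]
  exact h1

theorem fx_eq_bot {V : Type*} [AddCommGroup V] [Module k V]
    {ρ : Representation k (SpecialLinearGroup (Fin 2) F) V} (h : ∀ x, (∀ g, ρ g x = x) → x = 0) :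
    Module.finrank k (fx ρ) = 0 := by
  have h1 : fx ρ = ⊥ := by
    rw [eq_bot_iff]
    intro x hx
    exact (Submodule.mem_bot k).2 (h x hx)
  rw [h1, finrank_bot]

include hF in
/-- no trivial factors without exceptional ones -/
theorem count_zero_of_Hs {V : Type v} [AddCommGroup V] [Module k V] [FiniteDimensional k V]
    {ρ : Representation k (SpecialLinearGroup (Fin 2) F) V} (hco : ∀ f : V →ₗ[k] k, (∀ g x, f (ρ g x) = f x) → f = 0)
    (hH : Hs p a (cf (Sy.{u, v, w} ι p) ρ) = 0) : (cf (Sy.{u, v, w} ι p) ρ).count 0 = 0 := by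
  obtain ⟨ρ', P, D⟩ := exists_dul ρ
  have h1 := pressure_cf ι p hF ρ'
  rw [cf_dual ι p D, hH, fx_eq_bot] at h1
  · omega
  · intro y hy
    have h2 := hco (P.flip y) fun g x => by
      show P (ρ g x) y = P x y
      have h3 := D.inv g x y
      rwa [hy] at h3
    exact D.right y fun x => by
      have := LinearMap.congr_fun h2 x
      exact this

include hF in
theorem exists_top {V : Type v} [AddCommGroup V] [Module k V] [FiniteDimensional k V] (h0 : hb p a 0 = 0)
    {ρ : Representation k (SpecialLinearGroup (Fin 2) F) V} (hco : ∀ f : V →ₗ[k] k, (∀ g x, f (ρ g x) = f x) → f = 0)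
    (hH : 0 < Hs p a (cf (Sy.{u, v, w} ι p) ρ)) : ∃ (M : Submodule k V) (hM : ∀ g, ∀ x ∈ M, ρ g x ∈ M),
      (cf (Sy.{u, v, w} ι p) (quotRep ρ M hM)).count 0 = 0 ∧ 0 < Hs p a (cf (Sy.{u, v, w} ι p) (quotRep ρ M hM)) := by
  have key : ∀ (n : ℕ) (V : Type v) [AddCommGroup V] [Module k V] [FiniteDimensional k V]
      (ρ : Representation k (SpecialLinearGroup (Fin 2) F) V), Module.finrank k V ≤ n →
      (∀ f : V →ₗ[k] k, (∀ g x, f (ρ g x) = f x) → f = 0) → 0 < Hs p a (cf (Sy.{u, v, w} ι p) ρ) →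
      ∃ (M : Submodule k V) (hM : ∀ g, ∀ x ∈ M, ρ g x ∈ M),
      (cf (Sy.{u, v, w} ι p) (quotRep ρ M hM)).count 0 = 0 ∧ 0 < Hs p a (cf (Sy.{u, v, w} ι p) (quotRep ρ M hM)) := by
    intro n
    induction n with
    | zero =>
      intro V _ _ _ ρ hn _ hH
      have h1 : Subsingleton V := (Module.finrank_zero_iff (R := k)).1 (by omega)
      rw [cf_zero] at hH
      exact absurd hH (by unfold Hs; simp)
    | succ n ih =>
      intro V _ _ _ ρ hn hco hH
      have hnt : Nontrivial V := by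
        by_contra hc
        have h1 := not_nontrivial_iff_subsingleton.1 hc
        rw [cf_zero] at hH
        exact absurd hH (by unfold Hs; simp)
      obtain ⟨K, hK, hK0, hmin⟩ := exists_irr_sub ρ
      have hirr := irr_of_min ρ hK hK0 hmin
      obtain ⟨c, hc⟩ := (Sy.{u, v, w} ι p).ex (subRep ρ K hK) hirr
      have hcf := cf_add (Sy.{u, v, w} ι p) ρ K hK
      rw [cf_irr (Sy.{u, v, w} ι p) hc] at hcf
      have hco' : ∀ f : (V ⧸ K) →ₗ[k] k, (∀ g x, f (quotRep ρ K hK g x) = f x) → f = 0 := by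
        intro f hf
        have h2 := hco (f ∘ₗ K.mkQ) fun g x => by
          show f (K.mkQ (ρ g x)) = f (K.mkQ x)
          rw [← quotRep_mk ρ K hK, hf]
        refine LinearMap.ext fun y => ?_
        obtain ⟨x, rfl⟩ := K.mkQ_surjective y
        exact LinearMap.congr_fun h2 x
      by_cases hH' : 0 < Hs p a (cf (Sy.{u, v, w} ι p) (quotRep ρ K hK))
      · have hlt : Module.finrank k (V ⧸ K) ≤ n := by
          have h3 := Submodule.finrank_quotient_add_finrank K
          have h4 : 0 < Module.finrank k K := by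
            rw [Nat.pos_iff_ne_zero, Ne, Submodule.finrank_eq_zero]
            exact hK0
          omega
        obtain ⟨M, hM, h5, h6⟩ := ih (V ⧸ K) (quotRep ρ K hK) hlt hco' hH'
        have hM' : ∀ g, ∀ x ∈ M.comap K.mkQ, ρ g x ∈ M.comap K.mkQ := by
          intro g x hx
          show K.mkQ (ρ g x) ∈ M
          rw [← quotRep_mk ρ K hK]
          exact hM g _ hx
        obtain ⟨e, he, -⟩ := quot_iso ρ (quotRep (quotRep ρ K hK) M hM) (M.mkQ ∘ₗ K.mkQ) (fun g x => rfl)
          (M.mkQ_surjective.comp K.mkQ_surjective) (M.comap K.mkQ) hM' (fun x => by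
            rw [LinearMap.comp_apply, Submodule.mkQ_apply, Submodule.Quotient.mk_eq_zero]
            rfl)
        have h7 := cf_iso (Sy.{u, v, w} ι p) (ρ := quotRep ρ _ hM') (ρ' := quotRep (quotRep ρ K hK) M hM) ⟨e, he⟩
        exact ⟨_, hM', by rw [h7]; exact h5, by rw [h7]; exact h6⟩
      · have hH0 : Hs p a (cf (Sy.{u, v, w} ι p) (quotRep ρ K hK)) = 0 := by omega
        have h3 := count_zero_of_Hs ι p hF hco' hH0
        rw [hcf, Hs_add, hH0, add_zero] at hH
        have hbot : ∀ g, ∀ x ∈ (⊥ : Submodule k V), ρ g x ∈ (⊥ : Submodule k V) := by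
          intro g x hx
          rw [Submodule.mem_bot] at hx ⊢
          rw [hx, map_zero]
        have h4 := cf_add (Sy.{u, v, w} ι p) ρ ⊥ hbot
        have h5 : cf (Sy.{u, v, w} ι p) (subRep ρ ⊥ hbot) = 0 := cf_zero _ _
        rw [h5, zero_add] at h4
        refine ⟨⊥, hbot, ?_, ?_⟩
        · rw [← h4, hcf, Multiset.count_add, h3, add_zero, Multiset.count_singleton, if_neg]
          intro h6
          rw [← h6] at hH
          unfold Hs at hH
          rw [Multiset.map_singleton, Multiset.sum_singleton, h0] at hH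
          exact lt_irrefl _ hH
        · rw [← h4, hcf, Hs_add, hH0, add_zero]
          exact hH
  exact key _ V ρ le_rfl hco hH

include hF in
/-- **strict pressure** -/
theorem strict_pressure {V : Type v} [AddCommGroup V] [Module k V] [FiniteDimensional k V] (h0 : hb p a 0 = 0)
    {ρ : Representation k (SpecialLinearGroup (Fin 2) F) V} (hfx : ∀ x, (∀ g, ρ g x = x) → x = 0)
    (hco : ∀ f : V →ₗ[k] k, (∀ g x, f (ρ g x) = f x) → f = 0)
    (hpos : 0 < (cf (Sy.{u, v, w} ι p) ρ).count 0) :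
    (cf (Sy.{u, v, w} ι p) ρ).count 0 < Hs p a (cf (Sy.{u, v, w} ι p) ρ) := by
  have h1 := pressure_cf ι p hF ρ
  rw [fx_eq_bot hfx, zero_add] at h1
  obtain ⟨M, hM, h2, h3⟩ := exists_top ι p hF h0 hco (lt_of_lt_of_le hpos h1)
  have h4 := cf_add (Sy.{u, v, w} ι p) ρ M hM
  have h5 := pressure_cf ι p hF (subRep ρ M hM)
  rw [fx_eq_bot, zero_add] at h5
  · rw [h4, Multiset.count_add, Hs_add, h2]
    omega
  · intro x hx
    exact Subtype.ext (hfx x fun g => congrArg Subtype.val (hx g))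

end Cfsg.Agent.R2.H28.SL2
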