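import Cfsg.Agent.R2.H28.SL2.Dims
import Cfsg.Agent.R2.GEO.Five

/-!
# The frame: `SL(2, q)` on the two 27-dimensional modules over an algebraically closed field (helper28)

`Fra` : the configuration (`p` odd); `Fra.swap`; `Fra.dul` (duality), `Fra.cf_eq`, `Fra.even`, `Fra.three_le`,
`Fra.ts_dim` (stable totally singular subspaces have dimension 0, 3 or 6), `Fra.ts_irr`, `Fra.lzero` (L0).
-/

set_option autoImplicit false
set_option linter.unusedSectionVars false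

namespace Cfsg.Agent.R2.H28.SL2

open Matrix Cfsg.Agent.H943.SL2Rel Cfsg.Agent.H943.SL2Mod Cfsg.Agent.H943.RepAdd
open Cfsg.Lie
open Cfsg.Agent.ChevalleyStructure Cfsg.Agent.ChevalleyStructure.E6Form.Cubic
  Cfsg.Agent.ChevalleyStructure.E6Form.Table
open Cfsg.Agent.ChevalleyStructure.E6Min.Basic (Zgrp)
open Cfsg.Agent.H952.F4 (sh cr tf)
open Cfsg.Agent.H952.F4.Jord
open Cfsg.Agent.H163.E6 (V V')
open Cfsg.Agent.H163.E6.Act
open Cfsg.Agent.R2.GEO (Pair crB crB_apply tfB tfB_apply)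

universe u w

variable {k : Type u} [Field k] [DecidableEq k] [IsAlgClosed k] {K : Type w} [Field K] [Fintype K] [DecidableEq K]
  (ι : K →+* k) (p a : ℕ) [Fact p.Prime] [CharP k p] [CharP K p]

/-- the representation of `SL(2, q)` -/
def Rr (ρ : Representation k ↥(Zgrp k) (I27 → k)) (ψ : SpecialLinearGroup (Fin 2) K →* ↥(Zgrp k)) :
    Representation k (SpecialLinearGroup (Fin 2) K) (I27 → k) := MonoidHom.comp ρ ψ

theorem Rr_apply (ρ : Representation k ↥(Zgrp k) (I27 → k)) (ψ : SpecialLinearGroup (Fin 2) K →* ↥(Zgrp k))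
    (g : SpecialLinearGroup (Fin 2) K) (x : I27 → k) : Rr ρ ψ g x = ρ (ψ g) x := rfl

/-- **the frame** -/
structure Fra (ψ : SpecialLinearGroup (Fin 2) K →* ↥(Zgrp k)) (ρ ρ' : Representation k ↥(Zgrp k) (I27 → k)) : Prop where
  perf : commutator (SpecialLinearGroup (Fin 2) K) = ⊤
  card : Fintype.card K = p ^ a
  odd : p ≠ 2
  pair : Pair ρ ρ'
  cen : ψ (h (-1)) = 1
  fix : ∀ x, (∀ g, Rr ρ ψ g x = x) → x = 0
  fix' : ∀ x, (∀ g, Rr ρ' ψ g x = x) → x = 0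

variable {p a} {ψ : SpecialLinearGroup (Fin 2) K →* ↥(Zgrp k)} {ρ ρ' : Representation k ↥(Zgrp k) (I27 → k)}

omit [DecidableEq k] [IsAlgClosed k] [DecidableEq K] [Fact p.Prime] [CharP k p] [CharP K p] in
theorem Fra.swap (f : Fra p a ψ ρ ρ') : Fra p a ψ ρ' ρ :=
  ⟨f.perf, f.card, f.odd, f.pair.swap, f.cen, f.fix', f.fix⟩

theorem pair_tf (hρ : Pair ρ ρ') (g : ↥(Zgrp k)) (x y : I27 → k) : tf (ρ g x) (ρ' g y) = tf x y := by
  rcases hρ with ⟨rfl, rfl⟩ | ⟨rfl, rfl⟩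
  · exact tf_act g x y
  · rw [tf_comm, tf_act, tf_comm]

theorem pair_cr (hρ : Pair ρ ρ') (g : ↥(Zgrp k)) (x y : I27 → k) : cr (ρ g x) (ρ g y) = ρ' g (cr x y) := by
  rcases hρ with ⟨rfl, rfl⟩ | ⟨rfl, rfl⟩
  · exact cr_act g x y
  · exact cr_act' g x y

theorem pair_sh (hρ : Pair ρ ρ') (g : ↥(Zgrp k)) (x : I27 → k) : sh (ρ g x) = ρ' g (sh x) := by
  rcases hρ with ⟨rfl, rfl⟩ | ⟨rfl, rfl⟩
  · exact sh_act g x
  · exact sh_act' g x

theorem Fra.dul (f : Fra p a ψ ρ ρ') : Dul (Rr ρ ψ) (Rr ρ' ψ) (tfB k) where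
  inv g x y := by
    rw [tfB_apply, tfB_apply, Rr_apply, Rr_apply]
    exact pair_tf f.pair (ψ g) x y
  left x hx := tf_nondeg hx
  right y hy := tf_nondeg fun x => by rw [tf_comm]; exact hy x

theorem Fra.cf_eq (f : Fra p a ψ ρ ρ') : cf (Sy.{u, u, w} ι p) (Rr ρ' ψ) = cf (Sy.{u, u, w} ι p) (Rr ρ ψ) :=
  cf_dual ι p f.dul

/-- **all labels are even** -/
theorem Fra.even (f : Fra p a ψ ρ ρ') : ∀ b ∈ cf (Sy.{u, u, w} ι p) (Rr ρ ψ), Even b := by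
  intro b hb
  refine (isMult_cf ι p f.card (Rr ρ ψ)).even ι p f.odd ?_ b ?_
  · show ρ (ψ (h (-1))) = 1
    rw [f.cen, map_one]
  · show (cf (Sy.{u, u, w} ι p) (Rr ρ ψ)).count b ≠ 0
    rw [Multiset.count_ne_zero]
    exact hb

/-- no trivial submodules -/
theorem Fra.soc_ne_zero (f : Fra p a ψ ρ ρ') {b : ℕ} (hb : InSoc ι p (Rr ρ ψ) b) : b ≠ 0 := by
  rintro rfl
  obtain ⟨X, hX, hq, φ, hφ⟩ := hb
  obtain ⟨-, hirr⟩ : Nontrivial X ∧ _ := (show IsV ι p (subRep (Rr ρ ψ) X hX) 0 from ⟨hq, φ, hφ⟩).irr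
  have hnt : Nontrivial X := (show IsV ι p (subRep (Rr ρ ψ) X hX) 0 from ⟨hq, φ, hφ⟩).irr.1
  obtain ⟨x, hx⟩ := exists_ne (0 : X)
  apply hx
  apply Subtype.ext
  refine f.fix _ fun g => ?_
  have h1 := hφ g (φ.symm x)
  rw [rb_zero ι p rfl, φ.apply_symm_apply] at h1
  exact (congrArg Subtype.val h1).symm

/-- the dimension of an irreducible module -/
theorem IsV.finrank {V : Type*} [AddCommGroup V] [Module k V] {σ : Representation k (SpecialLinearGroup (Fin 2) K) V}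
    {b : ℕ} (h : IsV ι p σ b) : Module.finrank k V = (Bf k b).card := by
  obtain ⟨m, -, -, -, -, -, hmf, -⟩ := h.hw2
  exact hmf

include ι in
/-- stable subspaces have dimension at least 3 -/
theorem Fra.three_le (f : Fra p a ψ ρ ρ') {W : Submodule k (I27 → k)} (hW : ∀ g, ∀ x ∈ W, Rr ρ ψ g x ∈ W) (h0 : W ≠ ⊥) :
    3 ≤ Module.finrank k W := by
  have hnt : Nontrivial W := Submodule.nontrivial_iff_ne_bot.2 h0
  obtain ⟨c, K', hK, hc⟩ := exists_inSoc ι p (subRep (Rr ρ ψ) W hW)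
  have h1 : InSoc ι p (subRep (Rr ρ ψ) W hW) c := ⟨K', hK, hc⟩
  have h2 : InSoc ι p (Rr ρ ψ) c := h1.iso ι p W.subtype (fun _ _ => rfl) W.injective_subtype
  have h3 := f.soc_ne_zero ι h2
  have h4 := f.even ι c h2.mem_cf
  have h5 := card_cases k p f.odd c
  have h6 := card_Bf_pos (k := k) (Nat.pos_of_ne_zero h3)
  have h7 := IsV.finrank ι hc
  have h8 := Submodule.finrank_le K'
  have h9 : (Bf k c).card ≠ 2 := fun h => by
    have := h5.2.1 h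
    rw [Nat.even_iff] at h4
    omega
  omega

include ι in
/-- **stable totally singular subspaces** -/
theorem Fra.ts_dim (f : Fra p a ψ ρ ρ') {W : Submodule k (I27 → k)} (hW : ∀ g, ∀ x ∈ W, Rr ρ ψ g x ∈ W)
    (hts : ∀ x ∈ W, sh x = 0) (h0 : W ≠ ⊥) : Module.finrank k W = 3 ∨ Module.finrank k W = 6 := by
  have h1 := f.three_le ι hW h0
  have h2 := Cfsg.Agent.R2.GEO.finrank_le_six hts
  have key : ∀ U : Submodule k (I27 → k), (∀ g, ∀ u ∈ U, ρ' (ψ g) u ∈ U) →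
      ¬ (Module.finrank k U = 1 ∨ Module.finrank k U = 2) := by
    intro U hU h
    have h3 : U ≠ ⊥ := by
      rintro rfl
      rw [finrank_bot] at h
      omega
    have := f.swap.three_le ι (W := U) hU h3
    omega
  have h4 : Module.finrank k W ≠ 4 := by
    intro h4
    obtain ⟨U, h5, h6⟩ := Cfsg.Agent.R2.GEO.exists_sub_four f.perf ψ f.pair hW h4 hts
    exact key U h6 (Or.inr h5)
  have h5 : Module.finrank k W ≠ 5 := by
    intro h5
    obtain ⟨U, h6, h7⟩ := Cfsg.Agent.R2.GEO.exists_sub_five f.perf ψ f.pair hW h5 hts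
    exact key U h7 h6
  omega

/-- **irreducible totally singular submodules** -/
theorem Fra.ts_irr (f : Fra p a ψ ρ ρ') {X : Submodule k (I27 → k)} (hX : ∀ g, ∀ x ∈ X, Rr ρ ψ g x ∈ X) {b : ℕ}
    (hb : IsV ι p (subRep (Rr ρ ψ) X hX) b) (hts : ∀ x ∈ X, sh x = 0) : ∃ l, b = 2 * p ^ l := by
  have hnt := hb.irr.1
  have h1 := f.ts_dim ι hX hts (Submodule.nontrivial_iff_ne_bot.1 hnt)
  rw [hb.finrank ι] at h1
  have h2 := card_cases k p f.odd b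
  have h3 := f.even ι b (InSoc.mem_cf ι p ⟨X, hX, hb⟩)
  rw [Nat.even_iff] at h3
  rcases h1 with h1 | h1
  · exact (h2.2.2.1 h1).2
  · have := h2.2.2.2 h1
    omega

/-- the square map on a submodule -/
noncomputable def sqB (X : Submodule k (I27 → k)) : X →ₗ[k] X →ₗ[k] (I27 → k) :=
  (crB k).compl₁₂ X.subtype X.subtype

theorem sqB_apply (X : Submodule k (I27 → k)) (x y : X) : sqB X x y = cr (x : I27 → k) y := rfl

/-- **L0** -/
theorem Fra.lzero (f : Fra p a ψ ρ ρ') {X : Submodule k (I27 → k)} (hX : ∀ g, ∀ x ∈ X, Rr ρ ψ g x ∈ X)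
    (hts : ¬ ∀ x ∈ X, sh x = 0) :
    ∃ c, c ∈ cf (Sy.{u, u, w} ι p) (Sq (subRep (Rr ρ ψ) X hX)) ∧ InSoc ι p (Rr ρ' ψ) c ∧ c ≠ 0 := by
  have hp : p.Prime := Fact.out
  have h2 : (2 : k) ≠ 0 := by
    intro h0
    have h1 : ((2 : ℕ) : k) = 0 := by exact_mod_cast h0
    rw [CharP.cast_eq_zero_iff k p] at h1
    exact f.odd ((Nat.prime_dvd_prime_iff_eq hp Nat.prime_two).1 h1)
  obtain ⟨c, hc1, hc2⟩ := soc_of_sq ι p (σ := subRep (Rr ρ ψ) X hX) (ρ := Rr ρ' ψ) (sqB X)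
    (fun x y => by rw [sqB_apply, sqB_apply, cr_comm])
    (fun g x y => by
      rw [sqB_apply, sqB_apply]
      exact pair_cr f.pair (ψ g) x y) (fun h0 => hts fun x hx => by
      have h1 : sqB X ⟨x, hx⟩ ⟨x, hx⟩ = 0 := by rw [h0]; rfl
      rw [sqB_apply, cr_self, smul_eq_zero] at h1
      exact h1.resolve_left h2)
  exact ⟨c, hc1, hc2, f.swap.soc_ne_zero ι hc2⟩

/-- L0 for irreducible submodules -/
theorem Fra.lzero' (f : Fra p a ψ ρ ρ') {b : ℕ} (hb : InSoc ι p (Rr ρ ψ) b) (h2 : ∀ l, b ≠ 2 * p ^ l) :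
    ∃ (X : Submodule k (I27 → k)) (hX : ∀ g, ∀ x ∈ X, Rr ρ ψ g x ∈ X), IsV ι p (subRep (Rr ρ ψ) X hX) b ∧
      (∃ x ∈ X, sh x ≠ 0) ∧
      ∃ c, c ∈ cf (Sy.{u, u, w} ι p) (Sq (subRep (Rr ρ ψ) X hX)) ∧ InSoc ι p (Rr ρ' ψ) c ∧ c ≠ 0 := by
  obtain ⟨X, hX, hb'⟩ := hb
  have h3 : ¬ ∀ x ∈ X, sh x = 0 := by
    intro h3
    obtain ⟨l, hl⟩ := f.ts_irr ι hX hb' h3
    exact h2 l hl
  have h4 := f.lzero ι hX h3
  push Not at h3
  exact ⟨X, hX, hb', h3, h4⟩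

end Cfsg.Agent.R2.H28.SL2
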