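import Cfsg.Agent.R2.H28.SL2.SqTab

/-!
# Explicit bases of the modules `V_b` (helper28)

* `IsV.bas` : a module `≅ V_b` has a basis `v m` (`m ∈ B_b`) with `u(t) v_m = ∑ j, C(b - m, j) t ^ j v_(m + j)`,
  `h(a) v_m = a ^ m (a⁻¹) ^ (b - m) v_m`, `w v_m = (-1) ^ m v_(b - m)`;
* `IsV.basS` : the same for `b = n p ^ i`, indexed by `s ≤ n`;
* `isV_tens` : `V_b ⊗ V_c ≅ V_{b + c}` if `b` and `c` have no common non-zero digit;
* `IsV.basP` : the tensor basis for `b = n p ^ i + m p ^ j`.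
-/

set_option autoImplicit false
set_option linter.unusedSectionVars false

namespace Cfsg.Agent.R2.H28.SL2

open Matrix Cfsg.Agent.H943.SL2Rel Cfsg.Agent.H943.SL2Mod Cfsg.Agent.H943.RepAdd
open scoped TensorProduct

universe u v w

variable {k : Type u} [Field k] [DecidableEq k] {F : Type w} [Field F] [Fintype F] [DecidableEq F] (ι : F →+* k)
variable (p : ℕ) [Fact p.Prime] [CharP k p] [CharP F p]

/-- an explicit basis of `V_b` -/
structure Bas {V : Type*} [AddCommGroup V] [Module k V] (ρ : Representation k (SpecialLinearGroup (Fin 2) F) V) (b : ℕ)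
    (v : ℕ → V) : Prop where
  zero : ∀ m, m ∉ Bf k b → v m = 0
  li : LinearIndependent k (fun m : Bf k b => v m)
  sp : ⊤ ≤ Submodule.span k (Set.range fun m : Bf k b => v m)
  u : ∀ m ∈ Bf k b, ∀ t, ρ (u t) (v m) = ∑ j ∈ Finset.range (b - m + 1), (((b - m).choose j : k) * ι t ^ j) • v (m + j)
  h : ∀ m ∈ Bf k b, ∀ a : Fˣ, ρ (h a) (v m) = (ι a ^ m * (ι a)⁻¹ ^ (b - m)) • v m
  w : ∀ m ∈ Bf k b, ρ w (v m) = (-1 : k) ^ m • v (b - m)

theorem u_mon (t : F) (b m : ℕ) : fRep k F (u t) (mon ι b m) =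
    ∑ j ∈ Finset.range (b - m + 1), (((b - m).choose j : k) * ι t ^ j) • mon ι b (m + j) := by
  funext z
  obtain ⟨x, y⟩ := z
  rw [fRep_u, Finset.sum_apply]
  show ι x ^ m * ι (x * t + y) ^ (b - m) = _
  rw [map_add, map_mul, add_pow, Finset.mul_sum]
  refine Finset.sum_congr rfl fun j hj => ?_
  have hj' := Finset.mem_range.1 hj
  show ι x ^ m * ((ι x * ι t) ^ j * ι y ^ (b - m - j) * ((b - m).choose j : k)) =
    (((b - m).choose j : k) * ι t ^ j) * (ι x ^ (m + j) * ι y ^ (b - (m + j)))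
  rw [show b - (m + j) = b - m - j by omega, mul_pow, pow_add]
  ring

theorem w_mon {b m : ℕ} (hm : m ≤ b) : fRep k F w (mon ι b m) = (-1 : k) ^ m • mon ι b (b - m) := by
  funext z
  obtain ⟨x, y⟩ := z
  rw [fRep_w]
  show ι (-y) ^ m * ι x ^ (b - m) = (-1 : k) ^ m * (ι x ^ (b - m) * ι y ^ (b - (b - m)))
  rw [Nat.sub_sub_self hm, map_neg, neg_pow]
  ring

/-- **explicit bases** -/
theorem IsV.bas {V : Type*} [AddCommGroup V] [Module k V] {ρ : Representation k (SpecialLinearGroup (Fin 2) F) V} {b : ℕ}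
    (h : IsV ι p ρ b) : ∃ v : ℕ → V, Bas ι ρ b v := by
  obtain ⟨hb, φ, hφ⟩ := h
  obtain ⟨e, he⟩ := Cfsg.Agent.H179.SLC.exists_coord ι p ι.injective (neg_one_pow_Q ι) hb
  have hmem : ∀ m ∈ Bf k b, mon ι b m ∈ Vb ι b := fun m hm =>
    Cfsg.Agent.H179.SLC.mon_mem_Vb ι p (neg_one_pow_Q ι) hb (mem_Bf.1 hm)
  let v : ℕ → V := fun m => if hm : m ∈ Bf k b then φ ⟨mon ι b m, hmem m hm⟩ else 0
  have hv : ∀ m (hm : m ∈ Bf k b), v m = φ ⟨mon ι b m, hmem m hm⟩ := fun m hm => dif_pos hm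
  have hv0 : ∀ m, m ∉ Bf k b → v m = 0 := fun m hm => dif_neg hm
  have hB : ∀ m : Bf k b, (e.trans φ) (Pi.single m 1) = v m := by
    intro m
    rw [hv m m.2, LinearEquiv.trans_apply]
    congr 1
    apply Subtype.ext
    rw [he, Finset.sum_eq_single m]
    · rw [Pi.single_eq_same, one_smul]
    · intro m' _ hne
      rw [Pi.single_eq_of_ne hne, zero_smul]
    · intro h0
      exact absurd (Finset.mem_univ _) h0
  let B : Module.Basis (Bf k b) k V := Module.Basis.ofEquivFun (e.trans φ).symm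
  have hBv : (fun m : Bf k b => v m) = B := by
    funext m
    rw [← hB m]
    show _ = (Module.Basis.ofEquivFun (e.trans φ).symm) m
    rw [Module.Basis.coe_ofEquivFun, LinearEquiv.symm_symm]
  -- sums
  have hsum : ∀ (s : Finset ℕ) (c : ℕ → k) (f : ℕ → ℕ), (∀ j ∈ s, c j ≠ 0 → f j ∈ Bf k b) →
      ∀ hS : (∑ j ∈ s, c j • mon ι b (f j)) ∈ Vb ι b, φ ⟨_, hS⟩ = ∑ j ∈ s, c j • v (f j) := by
    intro s c f hf hS
    have h1 : ∀ j ∈ s, c j • v (f j) = φ (if hm : f j ∈ Bf k b then c j • ⟨mon ι b (f j), hmem _ hm⟩ else 0) := by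
      intro j hj
      by_cases hm : f j ∈ Bf k b
      · rw [dif_pos hm, map_smul, hv _ hm]
      · rw [dif_neg hm, map_zero, hv0 _ hm, smul_zero]
    rw [Finset.sum_congr rfl h1, ← map_sum]
    congr 1
    apply Subtype.ext
    rw [Submodule.coe_sum]
    refine Finset.sum_congr rfl fun j hj => ?_
    by_cases hm : f j ∈ Bf k b
    · rw [dif_pos hm]
      rfl
    · rw [dif_neg hm]
      by_cases hc : c j = 0
      · rw [hc, zero_smul]
        rfl
      · exact absurd (hf j hj hc) hm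
  refine ⟨v, hv0, ?_, ?_, fun m hm t => ?_, fun m hm a => ?_, fun m hm => ?_⟩
  · rw [hBv]
    exact B.linearIndependent
  · rw [hBv, B.span_eq]
  · have hmb := (mem_Bf.1 hm).1
    have hS : (∑ j ∈ Finset.range (b - m + 1), (((b - m).choose j : k) * ι t ^ j) • mon ι b (m + j)) ∈ Vb ι b := by
      rw [← u_mon ι t b m]
      exact (RB ι p hb (u t) ⟨_, hmem m hm⟩).2
    rw [hv m hm, ← hφ, ← hsum _ (fun j => ((b - m).choose j : k) * ι t ^ j) (fun j => m + j) (fun j hj hc => ?_) hS]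
    · congr 1
      exact Subtype.ext (u_mon ι t b m)
    · rw [mem_Bf]
      have hj' := Finset.mem_range.1 hj
      refine ⟨by omega, ?_⟩
      have h2 := left_ne_zero_of_mul hc
      have h3 : b.choose (m + j) * (m + j).choose m = b.choose m * (b - m).choose j := by
        rw [Nat.choose_mul (Nat.le_add_right m j), Nat.add_sub_cancel_left]
      intro h4
      have h5 : ((b.choose m * (b - m).choose j : ℕ) : k) = 0 := by
        rw [← h3, Nat.cast_mul, h4, zero_mul]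
      rw [Nat.cast_mul] at h5
      exact mul_ne_zero (mem_Bf.1 hm).2 h2 h5
  · rw [hv m hm, ← hφ, ← map_smul]
    congr 1
    apply Subtype.ext
    show fRep k F (Cfsg.Agent.H943.SL2Rel.h a) (mon ι b m) = (ι a ^ m * (ι a)⁻¹ ^ (b - m)) • mon ι b m
    rw [h_mon]
  · have hmb := (mem_Bf.1 hm).1
    have hm' : b - m ∈ Bf k b := by
      rw [mem_Bf]
      exact ⟨Nat.sub_le _ _, by rw [Nat.choose_symm hmb]; exact (mem_Bf.1 hm).2⟩
    rw [hv m hm, ← hφ, hv _ hm', ← map_smul]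
    congr 1
    apply Subtype.ext
    show fRep k F Cfsg.Agent.H943.SL2Rel.w (mon ι b m) = (-1 : k) ^ m • mon ι b (b - m)
    rw [w_mon ι hmb]

/-! ## Single digits -/

theorem choose_mul_pow (x y i : ℕ) : (((x * p ^ i).choose (y * p ^ i) : ℕ) : k) = (x.choose y : ℕ) := by
  have hp : p.Prime := Fact.out
  induction i with
  | zero => rw [pow_zero, mul_one, mul_one]
  | succ i ih =>
    have h := ch_mul (k := k) p (x * p ^ i) (y * p ^ i) hp.pos hp.pos
    rw [add_zero, add_zero, Nat.choose_self, Nat.cast_one, one_mul, ih] at h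
    rw [show x * p ^ (i + 1) = p * (x * p ^ i) by ring, show y * p ^ (i + 1) = p * (y * p ^ i) by ring, h]

theorem mem_Bf_single {n : ℕ} (hn : n < p) (i : ℕ) {m : ℕ} : m ∈ Bf k (n * p ^ i) ↔ ∃ s ≤ n, m = s * p ^ i := by
  have hp : p.Prime := Fact.out
  induction i generalizing m with
  | zero =>
    rw [pow_zero, mul_one, mem_Bf]
    constructor
    · intro h
      exact ⟨m, h.1, (mul_one m).symm⟩
    · rintro ⟨s, hs, rfl⟩
      rw [mul_one]
      refine ⟨hs, ?_⟩
      rw [Ne, CharP.cast_eq_zero_iff k p, not_dvd_choose_lt hp hn]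
      exact hs
  | succ i ih =>
    have h1 : n * p ^ (i + 1) = p * (n * p ^ i) + 0 := by ring
    rw [h1]
    constructor
    · intro h
      rw [← Nat.div_add_mod m p, mem_Bf_mul k p hp.pos (Nat.mod_lt m hp.pos)] at h
      obtain ⟨s, hs, e⟩ := ih.1 h.2
      refine ⟨s, hs, ?_⟩
      rw [← Nat.div_add_mod m p, e, Nat.le_zero.1 h.1]
      ring
    · rintro ⟨s, hs, rfl⟩
      rw [show s * p ^ (i + 1) = p * (s * p ^ i) + 0 by ring, mem_Bf_mul k p hp.pos hp.pos]
      exact ⟨le_rfl, ih.2 ⟨s, hs, rfl⟩⟩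

/-- an explicit basis of `V_{n p ^ i}` -/
structure BasS {V : Type*} [AddCommGroup V] [Module k V] (ρ : Representation k (SpecialLinearGroup (Fin 2) F) V) (n i : ℕ)
    (v : ℕ → V) : Prop where
  zero : ∀ s, n < s → v s = 0
  li : LinearIndependent k (fun s : Fin (n + 1) => v s)
  sp : ⊤ ≤ Submodule.span k (Set.range fun s : Fin (n + 1) => v s)
  u : ∀ s ≤ n, ∀ t, ρ (u t) (v s) =
    ∑ j ∈ Finset.range (n - s + 1), (((n - s).choose j : k) * (ι t ^ p ^ i) ^ j) • v (s + j)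
  h : ∀ s ≤ n, ∀ a : Fˣ, ρ (h a) (v s) = ((ι a ^ p ^ i) ^ s * ((ι a ^ p ^ i)⁻¹) ^ (n - s)) • v s
  w : ∀ s ≤ n, ρ w (v s) = (-1 : k) ^ s • v (n - s)

theorem neg_one_pp (i : ℕ) : (-1 : k) ^ p ^ i = -1 := neg_one_pow_char_pow k p i

/-- **explicit bases, single digit** -/
theorem IsV.basS {V : Type*} [AddCommGroup V] [Module k V] {ρ : Representation k (SpecialLinearGroup (Fin 2) F) V}
    {n i : ℕ} (hn : n < p) (h : IsV ι p ρ (n * p ^ i)) : ∃ v : ℕ → V, BasS ι p ρ n i v := by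
  have hp : p.Prime := Fact.out
  have hpi : 0 < p ^ i := Nat.pow_pos hp.pos
  obtain ⟨v, hv⟩ := h.bas
  have hmem : ∀ s ≤ n, s * p ^ i ∈ Bf k (n * p ^ i) := fun s hs => (mem_Bf_single p hn i).2 ⟨s, hs, rfl⟩
  let e : Fin (n + 1) ≃ Bf k (n * p ^ i) := Equiv.ofBijective
    (fun s => ⟨s * p ^ i, hmem s (Nat.lt_succ_iff.1 s.2)⟩) ⟨fun s s' hss => by
      apply Fin.ext
      exact Nat.eq_of_mul_eq_mul_right hpi (congrArg Subtype.val hss), fun m => by
      obtain ⟨s, hs, e⟩ := (mem_Bf_single p hn i).1 m.2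
      exact ⟨⟨s, Nat.lt_succ_iff.2 hs⟩, Subtype.ext e.symm⟩⟩
  have he : (fun s : Fin (n + 1) => v ((s : ℕ) * p ^ i)) = (fun m : Bf k (n * p ^ i) => v m) ∘ e := rfl
  refine ⟨fun s => v (s * p ^ i), fun s hs => hv.zero _ fun hm => ?_, ?_, ?_, fun s hs t => ?_, fun s hs a => ?_, fun s hs => ?_⟩
  · obtain ⟨s', hs', e'⟩ := (mem_Bf_single p hn i).1 hm
    have := Nat.eq_of_mul_eq_mul_right hpi e'
    omega
  · rw [he]
    exact hv.li.comp e e.injective
  · rw [he, Set.range_comp, e.surjective.range_eq, Set.image_univ]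
    exact hv.sp
  · rw [hv.u _ (hmem s hs) t]
    have hns : n * p ^ i - s * p ^ i = (n - s) * p ^ i := (Nat.sub_mul n s (p ^ i)).symm
    rw [hns]
    symm
    refine Finset.sum_of_injOn (fun j => j * p ^ i) (fun x _ y _ hxy => Nat.eq_of_mul_eq_mul_right hpi hxy) ?_ ?_ ?_
    · intro j hj
      rw [Finset.mem_coe, Finset.mem_range] at hj ⊢
      have := Nat.mul_le_mul_right (p ^ i) (Nat.lt_succ_iff.1 hj)
      show j * p ^ i < (n - s) * p ^ i + 1
      omega
    · intro j _ hj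
      rw [hv.zero, smul_zero]
      intro hm
      obtain ⟨s', hs', e'⟩ := (mem_Bf_single p hn i).1 hm
      apply hj
      have h1 : s * p ^ i ≤ s' * p ^ i := by omega
      have h2 : s ≤ s' := Nat.le_of_mul_le_mul_right h1 hpi
      have h3 : (s' - s) * p ^ i = j := by
        rw [Nat.sub_mul]
        omega
      rw [Set.mem_image]
      refine ⟨s' - s, ?_, h3⟩
      rw [Finset.mem_coe, Finset.mem_range]
      omega
    · intro j _
      show (((n - s).choose j : k) * (ι t ^ p ^ i) ^ j) • v ((s + j) * p ^ i) =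
        ((((n - s) * p ^ i).choose (j * p ^ i) : k) * ι t ^ (j * p ^ i)) • v (s * p ^ i + j * p ^ i)
      rw [choose_mul_pow p, ← pow_mul, mul_comm (p ^ i) j, add_mul]
  · rw [hv.h _ (hmem s hs) a]
    have hns : n * p ^ i - s * p ^ i = (n - s) * p ^ i := (Nat.sub_mul n s (p ^ i)).symm
    rw [hns, ← pow_mul, ← inv_pow, ← pow_mul, mul_comm (p ^ i) s, mul_comm (p ^ i) (n - s)]
  · rw [hv.w _ (hmem s hs)]
    have hns : n * p ^ i - s * p ^ i = (n - s) * p ^ i := (Nat.sub_mul n s (p ^ i)).symm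
    rw [hns, mul_comm s (p ^ i), pow_mul, neg_one_pp p]

/-! ## Tensor products -/

theorem cgd_zero_right (r : ℕ) : cgd r 0 = {r} := by
  unfold cgd
  simp

theorem cgd_zero_left (s : ℕ) : cgd 0 s = {s} := by
  unfold cgd
  simp

theorem cg_disj (n : ℕ) : ∀ {b d : ℕ}, b < p ^ n → d < p ^ n → (∀ i < n, b / p ^ i % p = 0 ∨ d / p ^ i % p = 0) →
    cg p n b d = {b + d} := by
  have hp : p.Prime := Fact.out
  induction n with
  | zero =>
    intro b d hb hd _
    rw [pow_zero, Nat.lt_one_iff] at hb hd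
    subst hb hd
    rfl
  | succ n ih =>
    intro b d hb hd hbd
    unfold cg
    rw [ih (Nat.div_lt_of_lt_mul (by rwa [← pow_succ'])) (Nat.div_lt_of_lt_mul (by rwa [← pow_succ'])) (fun i hi => by
      have := hbd (i + 1) (by omega)
      rwa [digit_shift, digit_shift] at this)]
    have h1 := Nat.div_add_mod b p
    have h2 := Nat.div_add_mod d p
    have h3 := hbd 0 (Nat.succ_pos n)
    rw [pow_zero, Nat.div_one, Nat.div_one] at h3
    have h4 : cgd (b % p) (d % p) = {b % p + d % p} := by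
      rcases h3 with h3 | h3
      · rw [h3, cgd_zero_left, zero_add]
      · rw [h3, cgd_zero_right, add_zero]
    rw [h4, Multiset.singleton_bind, Multiset.map_singleton, Nat.mul_add]
    congr 1
    omega

variable [IsAlgClosed k] {a : ℕ} (hF : Fintype.card F = p ^ a)

theorem label_lt {V : Type*} [AddCommGroup V] [Module k V] {ρ : Representation k (SpecialLinearGroup (Fin 2) F) V} {b : ℕ}
    (hF : Fintype.card F = p ^ a) (h : IsV ι p ρ b) : b < p ^ a := by
  have h1 := h.choose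
  have h2 := one_lt (F := F)
  rw [hF] at h1 h2
  omega

include hF in
/-- **Steinberg's tensor product theorem** -/
theorem isV_tens {V : Type v} [AddCommGroup V] [Module k V] {W : Type v} [AddCommGroup W] [Module k W]
    {ρ : Representation k (SpecialLinearGroup (Fin 2) F) V} {σ : Representation k (SpecialLinearGroup (Fin 2) F) W} {b c : ℕ}
    (hb : IsV ι p ρ b) (hc : IsV ι p σ c) (hbc : ∀ i < a, b / p ^ i % p = 0 ∨ c / p ^ i % p = 0) :
    IsV ι p (ρ.tprod σ) (b + c) := by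
  have hp : p.Prime := Fact.out
  have := hb.finite
  have := hc.finite
  have h1 := label_lt ι p hF hb
  have h2 := label_lt ι p hF hc
  have hov : ∀ i < a, b / p ^ i % p + c / p ^ i % p < p := fun i hi => by
    have h3 := Nat.mod_lt (b / p ^ i) hp.pos
    have h4 := Nat.mod_lt (c / p ^ i) hp.pos
    rcases hbc i hi with h | h
    · rw [h, zero_add]
      exact h4
    · rw [h, add_zero]
      exact h3
  have h3 : cf (Sy.{u, v, w} ι p) (ρ.tprod σ) = {b + c} := by
    rw [← cg_disj p a h1 h2 hbc]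
    refine cf_of_cs ι p hF (fun x hx => (mem_cg hp.pos a hov hx).1) fun z hz => ?_
    rw [cs_tens ι p hF ρ σ hz, cf_irr (Sy.{u, v, w} ι p) hb, cf_irr (Sy.{u, v, w} ι p) hc, cs_singleton, cs_singleton,
      cs_cg k p a h1 h2 hov (hz.ne_zero (two_le_q p hF))]
  exact irr_of_cf (Sy.{u, v, w} ι p) h3

/-- labels determine the module -/
theorem IsV.eqv {V : Type*} [AddCommGroup V] [Module k V] {W : Type*} [AddCommGroup W] [Module k W]
    {ρ : Representation k (SpecialLinearGroup (Fin 2) F) V} {σ : Representation k (SpecialLinearGroup (Fin 2) F) W} {b : ℕ}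
    (h : IsV ι p ρ b) (h' : IsV ι p σ b) : Eqv ρ σ := by
  obtain ⟨hb, φ, hφ⟩ := h
  obtain ⟨hb', φ', hφ'⟩ := h'
  refine ⟨φ.symm.trans φ', fun g x => ?_⟩
  rw [LinearEquiv.trans_apply, LinearEquiv.trans_apply, ← hφ']
  congr 1
  apply φ.injective
  rw [φ.apply_symm_apply, hφ, φ.apply_symm_apply]

include hF in
/-- **the tensor decomposition of a module** -/
theorem IsV.split {V : Type*} [AddCommGroup V] [Module k V] {ρ : Representation k (SpecialLinearGroup (Fin 2) F) V} {b c : ℕ}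
    (hbc : ∀ i < a, b / p ^ i % p = 0 ∨ c / p ^ i % p = 0) (hb : b < p ^ a) (hc : c < p ^ a) (h : IsV ι p ρ (b + c)) :
    ∃ (X Y : Type (max u w)) (_ : AddCommGroup X) (_ : Module k X) (_ : AddCommGroup Y) (_ : Module k Y)
      (σ : Representation k (SpecialLinearGroup (Fin 2) F) X) (τ : Representation k (SpecialLinearGroup (Fin 2) F) Y),
      IsV ι p σ b ∧ IsV ι p τ c ∧ Eqv (σ.tprod τ) ρ := by
  have hb' : b ≤ Fintype.card F - 1 := by rw [hF]; omega
  have hc' : c ≤ Fintype.card F - 1 := by rw [hF]; omega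
  have h1 : IsV ι p (RB ι p hb') b := ⟨hb', LinearEquiv.refl k _, fun _ _ => rfl⟩
  have h2 : IsV ι p (RB ι p hc') c := ⟨hc', LinearEquiv.refl k _, fun _ _ => rfl⟩
  exact ⟨_, _, _, _, _, _, _, _, h1, h2, IsV.eqv ι p (isV_tens ι p hF h1 h2 hbc) h⟩

omit [DecidableEq k] [IsAlgClosed k] [CharP k p] [CharP F p] in
theorem digit_disj {n m i j : ℕ} (hn : n < p) (hm : m < p) (hij : i ≠ j) (l : ℕ) :
    (n * p ^ i) / p ^ l % p = 0 ∨ (m * p ^ j) / p ^ l % p = 0 := by
  have hp : p.Prime := Fact.out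
  rw [dg_single hp.one_lt hn, dg_single hp.one_lt hm]
  by_cases h : l = i
  · right
    rw [if_neg]
    omega
  · left
    rw [if_neg h]

/-- an explicit basis of `V_{n p ^ i + m p ^ j}` -/
structure BasP {V : Type*} [AddCommGroup V] [Module k V] (ρ : Representation k (SpecialLinearGroup (Fin 2) F) V)
    (n i m j : ℕ) (v : ℕ → ℕ → V) : Prop where
  zero : ∀ s s', n < s ∨ m < s' → v s s' = 0
  li : LinearIndependent k (fun x : Fin (n + 1) × Fin (m + 1) => v x.1 x.2)
  sp : ⊤ ≤ Submodule.span k (Set.range fun x : Fin (n + 1) × Fin (m + 1) => v x.1 x.2)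
  u : ∀ s ≤ n, ∀ s' ≤ m, ∀ t, ρ (u t) (v s s') =
    ∑ l ∈ Finset.range (n - s + 1), ∑ l' ∈ Finset.range (m - s' + 1),
      ((((n - s).choose l : k) * (ι t ^ p ^ i) ^ l) * (((m - s').choose l' : k) * (ι t ^ p ^ j) ^ l')) • v (s + l) (s' + l')
  h : ∀ s ≤ n, ∀ s' ≤ m, ∀ a : Fˣ, ρ (h a) (v s s') = (((ι a ^ p ^ i) ^ s * ((ι a ^ p ^ i)⁻¹) ^ (n - s)) *
    ((ι a ^ p ^ j) ^ s' * ((ι a ^ p ^ j)⁻¹) ^ (m - s'))) • v s s'
  w : ∀ s ≤ n, ∀ s' ≤ m, ρ w (v s s') = ((-1 : k) ^ s * (-1 : k) ^ s') • v (n - s) (m - s')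

include hF in
/-- **explicit bases, two digits** -/
theorem IsV.basP {V : Type*} [AddCommGroup V] [Module k V] {ρ : Representation k (SpecialLinearGroup (Fin 2) F) V}
    {n i m j : ℕ} (hn : n < p) (hm : m < p) (hij : i ≠ j) (hi : i < a) (hj : j < a)
    (h : IsV ι p ρ (n * p ^ i + m * p ^ j)) : ∃ v : ℕ → ℕ → V, BasP ι p ρ n i m j v := by
  obtain ⟨X, Y, _, _, _, _, σ, τ, hσ, hτ, e, he⟩ := h.split ι p hF (fun l _ => digit_disj p hn hm hij l)
    (single_lt p hn hi) (single_lt p hm hj)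
  obtain ⟨x, hx⟩ := hσ.basS ι p hn
  obtain ⟨y, hy⟩ := hτ.basS ι p hm
  let B₁ : Module.Basis (Fin (n + 1)) k X := Module.Basis.mk hx.li hx.sp
  let B₂ : Module.Basis (Fin (m + 1)) k Y := Module.Basis.mk hy.li hy.sp
  let B : Module.Basis (Fin (n + 1) × Fin (m + 1)) k V := (B₁.tensorProduct B₂).map e
  have hB : (fun x' : Fin (n + 1) × Fin (m + 1) => e (x x'.1 ⊗ₜ[k] y x'.2)) = B := by
    funext x'
    show _ = ((B₁.tensorProduct B₂).map e) x'
    rw [Module.Basis.map_apply, Module.Basis.tensorProduct_apply']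
    show _ = e ((Module.Basis.mk hx.li hx.sp) x'.1 ⊗ₜ[k] (Module.Basis.mk hy.li hy.sp) x'.2)
    rw [Module.Basis.mk_apply, Module.Basis.mk_apply]
  refine ⟨fun s s' => e (x s ⊗ₜ[k] y s'), ?_, ?_, ?_, ?_, ?_, ?_⟩
  · rintro s s' (hs | hs)
    · show e (x s ⊗ₜ[k] y s') = 0
      rw [hx.zero s hs, TensorProduct.zero_tmul, map_zero]
    · show e (x s ⊗ₜ[k] y s') = 0
      rw [hy.zero s' hs, TensorProduct.tmul_zero, map_zero]
  · rw [hB]
    exact B.linearIndependent
  · rw [hB, B.span_eq]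
  · intro s hs s' hs' t
    show ρ (Cfsg.Agent.H943.SL2Rel.u t) (e (x s ⊗ₜ[k] y s')) = _
    rw [← he, Representation.tprod_apply, TensorProduct.map_tmul, hx.u s hs, hy.u s' hs', TensorProduct.sum_tmul, map_sum]
    refine Finset.sum_congr rfl fun l _ => ?_
    rw [TensorProduct.tmul_sum, map_sum]
    refine Finset.sum_congr rfl fun l' _ => ?_
    rw [TensorProduct.smul_tmul_smul, map_smul]
  · intro s hs s' hs' b
    show ρ (Cfsg.Agent.H943.SL2Rel.h b) (e (x s ⊗ₜ[k] y s')) = _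
    rw [← he, Representation.tprod_apply, TensorProduct.map_tmul, hx.h s hs, hy.h s' hs', TensorProduct.smul_tmul_smul, map_smul]
  · intro s hs s' hs'
    show ρ Cfsg.Agent.H943.SL2Rel.w (e (x s ⊗ₜ[k] y s')) = _
    rw [← he, Representation.tprod_apply, TensorProduct.map_tmul, hx.w s hs, hy.w s' hs', TensorProduct.smul_tmul_smul, map_smul]

end Cfsg.Agent.R2.H28.SL2
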