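import Cfsg.Agent.R2.H28.SL2.SqTab

/-!
# Socles and heads (helper28)

* `exists_compl_of_both` : a factor of multiplicity one which is a submodule of `V` and of `V'` splits off;
* `kill_one`, `kill_typ`;
* `ss_of_compl` : if all irreducible submodules have complements then every composition factor is a submodule.
-/

set_option autoImplicit false
set_option linter.unusedSectionVars false

namespace Cfsg.Agent.R2.H28.SL2

open Matrix Cfsg.Agent.H943.SL2Rel Cfsg.Agent.H943.SL2Mod Cfsg.Agent.H943.RepAdd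

universe u v w

variable {k : Type u} [Field k] [DecidableEq k] {F : Type w} [Field F] [Fintype F] [DecidableEq F] (ι : F →+* k)
variable (p : ℕ) [Fact p.Prime] [CharP k p] [CharP F p] [IsAlgClosed k]

variable {V : Type v} [AddCommGroup V] [Module k V] [FiniteDimensional k V]
  {ρ : Representation k (SpecialLinearGroup (Fin 2) F) V} {V' : Type v} [AddCommGroup V'] [Module k V']
  [FiniteDimensional k V'] {ρ' : Representation k (SpecialLinearGroup (Fin 2) F) V'} {P : V →ₗ[k] V' →ₗ[k] k}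

/-- the irreducible submodule meets an invariant subspace trivially or lies in it -/
theorem IsV.inf_or_le {X : Submodule k V} {hX : ∀ g, ∀ x ∈ X, ρ g x ∈ X} {b : ℕ} (hb : IsV ι p (subRep ρ X hX) b)
    {K : Submodule k V} (hK : ∀ g, ∀ x ∈ K, ρ g x ∈ K) : X ⊓ K = ⊥ ∨ X ≤ K := by
  rcases hb.irr.2 (K.comap X.subtype) (fun g x hx => hK g _ hx) with h | h
  · left
    rw [eq_bot_iff]
    rintro x ⟨h1, h2⟩
    have h3 : (⟨x, h1⟩ : X) ∈ K.comap X.subtype := h2
    rw [h, Submodule.mem_bot] at h3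
    exact (Submodule.mem_bot k).2 (congrArg Subtype.val h3)
  · right
    intro x hx
    have h3 : (⟨x, hx⟩ : X) ∈ K.comap X.subtype := by rw [h]; trivial
    exact h3

theorem mem_cf_of_le {X : Submodule k V} {hX : ∀ g, ∀ x ∈ X, ρ g x ∈ X} {b : ℕ} (hb : IsV ι p (subRep ρ X hX) b)
    {K : Submodule k V} (hK : ∀ g, ∀ x ∈ K, ρ g x ∈ K) (h : X ≤ K) : b ∈ cf (Sy.{u, v, w} ι p) (subRep ρ K hK) := by
  refine InSoc.mem_cf ι p (inSoc_of_hom ι p hb (Submodule.inclusion h) (fun g x => Subtype.ext rfl) ?_)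
  intro h0
  obtain ⟨x, hx⟩ := @exists_ne X hb.irr.1 0
  apply hx
  have h1 : Submodule.inclusion h x = 0 := by rw [h0]; rfl
  have h2 : ((Submodule.inclusion h x : K) : V) = 0 := by rw [h1]; rfl
  exact Subtype.ext h2

/-- **splitting off** -/
theorem exists_compl_of_both (D : Dul ρ ρ' P) {X : Submodule k V} (hX : ∀ g, ∀ x ∈ X, ρ g x ∈ X) {b : ℕ}
    (hb : IsV ι p (subRep ρ X hX) b) (h' : InSoc ι p ρ' b) (h1 : (cf (Sy.{u, v, w} ι p) ρ).count b = 1) :
    ∃ (K : Submodule k V) (hK : ∀ g, ∀ x ∈ K, ρ g x ∈ K), IsCompl X K ∧ b ∉ cf (Sy.{u, v, w} ι p) (subRep ρ K hK) := by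
  obtain ⟨X', hX', hb'⟩ := h'
  obtain ⟨B₁, D₁, -⟩ := D.flip.sub hX'
  have hK := D.flip.orth_inv hX'
  have h2 : IsV ι p (quotRep ρ (orth P.flip X') hK) b := IsV.dual ι p hb' D₁
  have h3 := cf_add (Sy.{u, v, w} ι p) ρ (orth P.flip X') hK
  have h4 : cf (Sy.{u, v, w} ι p) (quotRep ρ (orth P.flip X') hK) = {b} := cf_irr _ h2
  have h5 : b ∉ cf (Sy.{u, v, w} ι p) (subRep ρ (orth P.flip X') hK) := by
    intro h6
    rw [h3, h4, Multiset.count_add, Multiset.count_singleton_self] at h1
    have := Multiset.one_le_count_iff_mem.2 h6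
    omega
  have h6 : X ⊓ orth P.flip X' = ⊥ := by
    rcases IsV.inf_or_le ι p hb hK with h | h
    · exact h
    · exact absurd (mem_cf_of_le ι p hb hK h) h5
  refine ⟨orth P.flip X', hK, ?_, h5⟩
  rw [isCompl_iff, disjoint_iff, codisjoint_iff]
  refine ⟨h6, ?_⟩
  apply Submodule.eq_top_of_finrank_eq
  have h7 := Submodule.finrank_sup_add_finrank_inf_eq X (orth P.flip X')
  rw [h6, finrank_bot, add_zero] at h7
  have h8 := Submodule.finrank_quotient_add_finrank (orth P.flip X')
  obtain ⟨m, -, -, -, -, -, hf1, -⟩ := IsV.hw2 ι p hb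
  obtain ⟨m', -, -, -, -, -, hf2, -⟩ := IsV.hw2 ι p h2
  rw [h7]
  omega

/-- **a factor of multiplicity one which is the whole socle of `V` and a submodule of `V'`** -/
theorem kill_one (D : Dul ρ ρ' P) {b : ℕ} (h : InSoc ι p ρ b) (h' : InSoc ι p ρ' b)
    (h1 : (cf (Sy.{u, v, w} ι p) ρ).count b = 1) (hs : ∀ c, InSoc ι p ρ c → c = b)
    (hne : cf (Sy.{u, v, w} ι p) ρ ≠ {b}) : False := by
  obtain ⟨X, hX, hb⟩ := h
  obtain ⟨K, hK, hc, hbK⟩ := exists_compl_of_both ι p D hX hb h' h1
  have h2 : K ≠ ⊥ := by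
    rintro rfl
    apply hne
    rw [cf_sup hX hK hc, cf_irr (Sy.{u, v, w} ι p) hb]
    have h3 : cf (Sy.{u, v, w} ι p) (subRep ρ ⊥ hK) = 0 := cf_zero _ _
    rw [h3, add_zero]
  obtain ⟨c, hc1, hc2⟩ := exists_inSoc_sub ι p hK h2
  rw [hs c hc2] at hc1
  exact hbK hc1.mem_cf

/-- the same with types -/
theorem kill_typ (D : Dul ρ ρ' P) (Q : ℕ → Prop) [DecidablePred Q]
    (h1 : (cf (Sy.{u, v, w} ι p) ρ).countP Q = 1) (hs : ∀ c, InSoc ι p ρ c → Q c) (hs' : ∀ c, InSoc ι p ρ' c → Q c)
    (hc : 2 ≤ Multiset.card (cf (Sy.{u, v, w} ι p) ρ)) : False := by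
  have hnt : Nontrivial V := by
    by_contra h
    have := not_nontrivial_iff_subsingleton.1 h
    rw [cf_zero] at hc
    simp at hc
  have hnt' : Nontrivial V' := by
    by_contra h
    have := not_nontrivial_iff_subsingleton.1 h
    obtain ⟨x, y, hxy⟩ := hnt
    have h0 : ∀ z : V, z = 0 := fun z => D.left z fun y => by rw [Subsingleton.elim y 0, map_zero]
    exact hxy (by rw [h0 x, h0 y])
  have huniq : ∀ b c, b ∈ cf (Sy.{u, v, w} ι p) ρ → c ∈ cf (Sy.{u, v, w} ι p) ρ → Q b → Q c → b = c := by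
    intro b c hb hc hQb hQc
    by_contra hbc
    obtain ⟨s, hs⟩ := Multiset.exists_cons_of_mem hb
    rw [hs] at hc h1
    have h2 : c ∈ s := (Multiset.mem_cons.1 hc).resolve_left (Ne.symm hbc)
    rw [Multiset.countP_cons_of_pos _ hQb] at h1
    have h3 : 0 < s.countP Q := Multiset.countP_pos.2 ⟨c, h2, hQc⟩
    omega
  obtain ⟨b, hb⟩ := exists_inSoc ι p ρ
  obtain ⟨c, hc'⟩ := exists_inSoc ι p ρ'
  have hcf := cf_dual ι p D
  have hbc : b = c := huniq b c hb.mem_cf (by rw [← hcf]; exact hc'.mem_cf) (hs b hb) (hs' c hc')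
  rw [← hbc] at hc'
  have hcount : (cf (Sy.{u, v, w} ι p) ρ).count b = 1 := by
    have h2 : (cf (Sy.{u, v, w} ι p) ρ).count b ≤ (cf (Sy.{u, v, w} ι p) ρ).countP Q := by
      unfold Multiset.count
      rw [Multiset.countP_eq_card_filter, Multiset.countP_eq_card_filter]
      refine Multiset.card_le_card (Multiset.monotone_filter_right _ fun x hx => ?_)
      rw [← hx]
      exact hs b hb
    have h3 := Multiset.one_le_count_iff_mem.2 hb.mem_cf
    omega
  refine kill_one ι p D hb hc' hcount (fun c hc => huniq c b hc.mem_cf hb.mem_cf (hs c hc) (hs b hb)) fun h2 => ?_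
  rw [h2, Multiset.card_singleton] at hc
  omega

/-- **semisimplicity** -/
theorem ss_of_compl : ∀ (n : ℕ) (V : Type v) [AddCommGroup V] [Module k V] [FiniteDimensional k V]
    (ρ : Representation k (SpecialLinearGroup (Fin 2) F) V), Module.finrank k V ≤ n →
    (∀ (X : Submodule k V) (hX : ∀ g, ∀ x ∈ X, ρ g x ∈ X) (b : ℕ), IsV ι p (subRep ρ X hX) b →
      ∃ (K : Submodule k V) (_ : ∀ g, ∀ x ∈ K, ρ g x ∈ K), IsCompl X K) →
    ∀ b ∈ cf (Sy.{u, v, w} ι p) ρ, InSoc ι p ρ b := by
  intro n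
  induction n with
  | zero =>
    intro V _ _ _ ρ hn _ b hb
    have h1 : Subsingleton V := (Module.finrank_zero_iff (R := k)).1 (by omega)
    rw [cf_zero] at hb
    exact absurd hb (Multiset.notMem_zero b)
  | succ n ih =>
    intro V _ _ _ ρ hn hcompl b hb
    by_cases hnt : Nontrivial V
    · obtain ⟨c, X, hX, hc⟩ := exists_inSoc ι p ρ
      obtain ⟨K, hK, hXK⟩ := hcompl X hX c hc
      rw [cf_sup hX hK hXK, cf_irr (Sy.{u, v, w} ι p) hc] at hb
      rcases Multiset.mem_add.1 hb with h | h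
      · rw [Multiset.mem_singleton] at h
        rw [h]
        exact ⟨X, hX, hc⟩
      · have h1 : Module.finrank k K ≤ n := by
          have h2 := Submodule.finrank_add_eq_of_isCompl hXK
          have h3 : 0 < Module.finrank k X := by
            rw [Nat.pos_iff_ne_zero, Ne, Submodule.finrank_eq_zero]
            exact Submodule.nontrivial_iff_ne_bot.1 hc.irr.1
          omega
        have h2 := ih K (subRep ρ K hK) h1 (fun Y hY d hd => ?_) b h
        · exact h2.iso ι p K.subtype (fun _ _ => rfl) K.injective_subtype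
        · obtain ⟨hY', e, he⟩ := eqv_map (subRep ρ K hK) ρ K.subtype (fun _ _ => rfl) K.injective_subtype Y hY
          obtain ⟨Z, hZ, hYZ⟩ := hcompl (Y.map K.subtype) hY' d (IsV.iso ι p e he hd)
          refine ⟨Z.comap K.subtype, fun g x hx => hZ g _ hx, ?_⟩
          rw [isCompl_iff, disjoint_iff, codisjoint_iff]
          constructor
          · rw [eq_bot_iff]
            rintro x ⟨hx1, hx2⟩
            have h3 : (x : V) ∈ Y.map K.subtype ⊓ Z := ⟨⟨x, hx1, rfl⟩, hx2⟩
            rw [hYZ.inf_eq_bot, Submodule.mem_bot] at h3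
            exact (Submodule.mem_bot k).2 (Subtype.ext h3)
          · rw [eq_top_iff]
            intro x _
            have h3 : (x : V) ∈ Y.map K.subtype ⊔ Z := by
              rw [hYZ.sup_eq_top]
              trivial
            obtain ⟨_, ⟨y, hy, rfl⟩, z, hz, e3⟩ := Submodule.mem_sup.1 h3
            have h4 : z ∈ K := by
              have h5 : z = (x : V) - (y : V) := by
                rw [← e3]
                show z = (y : V) + z - y
                abel
              rw [h5]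
              exact K.sub_mem x.2 y.2
            have h6 : x = y + ⟨z, h4⟩ := Subtype.ext e3.symm
            rw [h6]
            exact Submodule.add_mem_sup hy hz
    · have := not_nontrivial_iff_subsingleton.1 hnt
      rw [cf_zero] at hb
      exact absurd hb (Multiset.notMem_zero b)

end Cfsg.Agent.R2.H28.SL2
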