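import Cfsg.Agent.R2.H28.SL2.Quad
import Cfsg.Agent.R2.H28.SL2.Both

/-!
# L22 (helper28)

`Fra.l22` : a submodule `V_{2 p^i + 2 p^j}` has a complement if `V_{4 p^i}`, `V_{4 p^j}` are not submodules of `V'`.
-/

set_option autoImplicit false
set_option linter.unusedSectionVars false

namespace Cfsg.Agent.R2.H28.SL2

open Matrix Cfsg.Agent.H943.SL2Rel Cfsg.Agent.H943.SL2Mod Cfsg.Agent.H943.RepAdd
open Cfsg.Lie
open Cfsg.Agent.ChevalleyStructure Cfsg.Agent.ChevalleyStructure.E6Form.Cubic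
  Cfsg.Agent.ChevalleyStructure.E6Form.Table
open Cfsg.Agent.ChevalleyStructure.E6Min.Basic (Zgrp)
open Cfsg.Agent.H952.F4 (sh cr tf)
open Cfsg.Agent.H952.F4.Jord
open Cfsg.Agent.H163.E6 (V V')
open Cfsg.Agent.H163.E6.Act
open Cfsg.Agent.R2.GEO (Pair crB crB_apply tfB tfB_apply)
open scoped TensorProduct

universe u v w

section Core

variable {k : Type u} [Field k]

theorem crz_left (y : I27 → k) : cr 0 y = 0 := by
  have h := cr_smul_left (0 : k) 0 y
  rwa [zero_smul, zero_smul] at h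

theorem crz_right (y : I27 → k) : cr y 0 = 0 := by rw [cr_comm, crz_left]

/-- `sh (cr x y) = 0` for `x, y, x + y` in a space on which `sh ∘ sh` vanishes and `sh x = sh y = 0` -/
theorem core_cr (h2 : (2 : k) ≠ 0) {x y z : I27 → k} (hx : sh x = 0) (hy : sh y = 0) (hz : sh z = 0)
    (hxz : sh (sh (x + z)) = 0) (hyz : sh (sh (y + z)) = 0) (hxy : sh (sh (x + y)) = 0)
    (h3 : sh (sh (x + y + z)) = 0) (h3' : sh (sh (x + y + (-1 : k) • z)) = 0) : cr (cr x z) (cr y z) = 0 := by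
  have e : ∀ x y : I27 → k, sh x = 0 → sh y = 0 → sh (x + y) = cr x y := by
    intro x y hx hy
    unfold cr
    rw [hx, hy, sub_zero, sub_zero]
  have hadd : ∀ x y : I27 → k, sh (x + y) = sh x + sh y + cr x y := by
    intro x y
    unfold cr
    abel
  rw [e x z hx hz] at hxz
  rw [e y z hy hz] at hyz
  rw [e x y hx hy] at hxy
  have f1 : sh (x + y + z) = cr x y + cr x z + cr y z := by
    rw [hadd (x + y) z, hz, e x y hx hy, cr_add_left]
    abel
  have f2 : sh (x + y + (-1 : k) • z) = cr x y + (-1 : k) • cr x z + (-1 : k) • cr y z := by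
    rw [hadd (x + y), sh_smul, hz, smul_zero, e x y hx hy, cr_smul_right, cr_add_left, smul_add]
    abel
  have g : ∀ x y z : I27 → k, sh x = 0 → sh y = 0 → sh z = 0 → sh (x + y + z) = cr x y + cr x z + cr y z := by
    intro x y z hx hy hz
    rw [hadd (x + y) z, hz, e x y hx hy, cr_add_left]
    abel
  rw [f1, g _ _ _ hxy hxz hyz] at h3
  rw [f2, g _ _ _ hxy (by rw [sh_smul, hxz, smul_zero]) (by rw [sh_smul, hyz, smul_zero]), cr_smul_right, cr_smul_right,
    cr_smul_left, cr_smul_right, smul_smul] at h3'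
  have h4 : (2 : k) • cr (cr x z) (cr y z) = 0 := by
    have h5 : (cr (cr x y) (cr x z) + cr (cr x y) (cr y z) + cr (cr x z) (cr y z)) +
      ((-1 : k) • cr (cr x y) (cr x z) + (-1 : k) • cr (cr x y) (cr y z) + ((-1 : k) * -1) • cr (cr x z) (cr y z)) = 0 := by
      rw [h3, h3', add_zero]
    rw [← h5]
    module
  exact (smul_eq_zero.1 h4).resolve_left h2

variable (v : Fin 3 → Fin 3 → (I27 → k))

/-- the nine products -/
def yy (m n : Fin 3) : I27 → k := cr (v (m + 1) (n + 1)) (v (m + 2) (n + 2))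

/-- the space of the products -/
def Iy : Submodule k (I27 → k) := Submodule.span k (Set.range fun x : Fin 3 × Fin 3 => yy v x.1 x.2)

theorem finrank_Iy : Module.finrank k (Iy v) ≤ 9 := by
  have h := finrank_range_le_card (R := k) (fun x : Fin 3 × Fin 3 => yy v x.1 x.2)
  rw [Fintype.card_prod, Fintype.card_fin] at h
  exact h

variable {v} (h2 : (2 : k) ≠ 0) (hc : ∀ s s' t t', cr (v s t) (v s' t') + cr (v s t') (v s' t) = 0)

include hc in
theorem alt_right (s s' t t' : Fin 3) : cr (v s t') (v s' t) = -cr (v s t) (v s' t') :=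
  (eq_neg_of_add_eq_zero_right (hc s s' t t'))

include hc in
theorem alt_left (s s' t t' : Fin 3) : cr (v s' t) (v s t') = -cr (v s t) (v s' t') := by
  rw [cr_comm, alt_right hc s s' t t']

include h2 hc in
theorem alt_zero_right (s s' t : Fin 3) : cr (v s t) (v s' t) = 0 := by
  have h := hc s s' t t
  rw [← two_smul k] at h
  exact (smul_eq_zero.1 h).resolve_left h2

include h2 hc in
theorem alt_zero_left (s t t' : Fin 3) : cr (v s t) (v s t') = 0 := by
  have h := hc s s t t'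
  rw [cr_comm (v s t') (v s t), ← two_smul k] at h
  exact (smul_eq_zero.1 h).resolve_left h2

include h2 hc in
theorem sh_v (s t : Fin 3) : sh (v s t) = 0 := by
  have h := alt_zero_left h2 hc s t t
  rw [cr_self] at h
  exact (smul_eq_zero.1 h).resolve_left h2

include h2 hc in
theorem cr_mem_Iy (s s' t t' : Fin 3) : cr (v s t) (v s' t') ∈ Iy v := by
  have hy : ∀ m n, yy v m n ∈ Iy v := fun m n => Submodule.subset_span ⟨(m, n), rfl⟩
  have h3 : ∀ s s' : Fin 3, s = s' ∨ (∃ m, s = m + 1 ∧ s' = m + 2) ∨ ∃ m, s' = m + 1 ∧ s = m + 2 := by decide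
  rcases h3 s s' with rfl | ⟨m, rfl, rfl⟩ | ⟨m, rfl, rfl⟩
  · rw [alt_zero_left h2 hc]
    exact Submodule.zero_mem _
  · rcases h3 t t' with rfl | ⟨n, rfl, rfl⟩ | ⟨n, rfl, rfl⟩
    · rw [alt_zero_right h2 hc]
      exact Submodule.zero_mem _
    · exact hy m n
    · rw [alt_right hc]
      exact Submodule.neg_mem _ (hy m n)
  · rcases h3 t t' with rfl | ⟨n, rfl, rfl⟩ | ⟨n, rfl, rfl⟩
    · rw [alt_zero_right h2 hc]
      exact Submodule.zero_mem _
    · rw [alt_left hc]
      exact Submodule.neg_mem _ (hy m n)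
    · rw [cr_comm]
      exact hy m n

/-- the space spanned by the `v s t` -/
def Xv (v : Fin 3 → Fin 3 → (I27 → k)) : Submodule k (I27 → k) :=
  Submodule.span k (Set.range fun x : Fin 3 × Fin 3 => v x.1 x.2)

include h2 hc in
theorem cr_Xv {x y : I27 → k} (hx : x ∈ Xv v) (hy : y ∈ Xv v) : cr x y ∈ Iy v := by
  unfold Xv at hx hy
  induction hx using Submodule.span_induction with
  | mem x hx =>
    obtain ⟨⟨s, t⟩, rfl⟩ := hx
    induction hy using Submodule.span_induction with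
    | mem y hy =>
      obtain ⟨⟨s', t'⟩, rfl⟩ := hy
      exact cr_mem_Iy h2 hc s s' t t'
    | zero =>
      rw [crz_right]
      exact Submodule.zero_mem _
    | add y y' _ _ h h' =>
      rw [cr_add_right]
      exact Submodule.add_mem _ h h'
    | smul c y _ h =>
      rw [cr_smul_right]
      exact Submodule.smul_mem _ _ h
  | zero =>
    rw [crz_left]
    exact Submodule.zero_mem _
  | add x x' _ _ h h' =>
    rw [cr_add_left]
    exact Submodule.add_mem _ h h'
  | smul c x _ h =>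
    rw [cr_smul_left]
    exact Submodule.smul_mem _ _ h

include h2 hc in
theorem core_yy (hss : ∀ x ∈ Xv v, sh (sh x) = 0) (m n m' n' : Fin 3) : cr (yy v m n) (yy v m' n') = 0 := by
  have hv : ∀ s t, v s t ∈ Xv v := fun s t => Submodule.subset_span ⟨(s, t), rfl⟩
  have key : ∀ r q r' q' s t, cr (cr (v r q) (v s t)) (cr (v r' q') (v s t)) = 0 := fun r q r' q' s t =>
    core_cr h2 (sh_v h2 hc r q) (sh_v h2 hc r' q') (sh_v h2 hc s t) (hss _ (Submodule.add_mem _ (hv _ _) (hv _ _)))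
      (hss _ (Submodule.add_mem _ (hv _ _) (hv _ _))) (hss _ (Submodule.add_mem _ (hv _ _) (hv _ _)))
      (hss _ (Submodule.add_mem _ (Submodule.add_mem _ (hv _ _) (hv _ _)) (hv _ _)))
      (hss _ (Submodule.add_mem _ (Submodule.add_mem _ (hv _ _) (hv _ _)) (Submodule.smul_mem _ _ (hv _ _))))
  -- common vectors
  have hcom : ∀ m m' : Fin 3, ∃ r r' s : Fin 3, ((m + 1 = r ∧ m + 2 = s) ∨ (m + 1 = s ∧ m + 2 = r)) ∧
      ((m' + 1 = r' ∧ m' + 2 = s) ∨ (m' + 1 = s ∧ m' + 2 = r')) := by decide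
  obtain ⟨r, r', s, h3, h4⟩ := hcom m m'
  obtain ⟨q, q', t, h5, h6⟩ := hcom n n'
  have e : ∀ {m n r s q t : Fin 3}, ((m + 1 = r ∧ m + 2 = s) ∨ (m + 1 = s ∧ m + 2 = r)) →
      ((n + 1 = q ∧ n + 2 = t) ∨ (n + 1 = t ∧ n + 2 = q)) → ∃ c : k, yy v m n = c • cr (v r q) (v s t) := by
    intro m n r s q t h h'
    unfold yy
    rcases h with ⟨h, h1⟩ | ⟨h, h1⟩ <;> rcases h' with ⟨h', h1'⟩ | ⟨h', h1'⟩ <;> rw [h, h1, h', h1']
    · exact ⟨1, (one_smul _ _).symm⟩
    · exact ⟨-1, by rw [alt_right hc, neg_one_smul]⟩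
    · exact ⟨-1, by rw [alt_left hc, neg_one_smul]⟩
    · exact ⟨1, by rw [cr_comm, one_smul]⟩
  obtain ⟨c, hc1⟩ := e h3 h5
  obtain ⟨c', hc2⟩ := e h4 h6
  rw [hc1, hc2, cr_smul_left, cr_smul_right, key, smul_zero, smul_zero]

include h2 hc in
theorem sh_Iy (hss : ∀ x ∈ Xv v, sh (sh x) = 0) : ∀ y ∈ Iy v, sh y = 0 := by
  intro y hy
  have h3 : ∀ y ∈ Iy v, ∀ z ∈ Iy v, cr y z = 0 := by
    intro y hy z hz
    unfold Iy at hy hz
    induction hy using Submodule.span_induction with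
    | mem y hy =>
      obtain ⟨⟨m, n⟩, rfl⟩ := hy
      induction hz using Submodule.span_induction with
      | mem z hz =>
        obtain ⟨⟨m', n'⟩, rfl⟩ := hz
        exact core_yy h2 hc hss m n m' n'
      | zero => rw [crz_right]
      | add y y' _ _ h h' => rw [cr_add_right, h, h', add_zero]
      | smul c y _ h => rw [cr_smul_right, h, smul_zero]
    | zero => rw [crz_left]
    | add x x' _ _ h h' => rw [cr_add_left, h, h', add_zero]
    | smul c x _ h => rw [cr_smul_left, h, smul_zero]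
  have h4 := h3 y hy y hy
  rw [cr_self] at h4
  exact (smul_eq_zero.1 h4).resolve_left h2

end Core

variable {k : Type u} [Field k] [DecidableEq k] [IsAlgClosed k] {K : Type w} [Field K] [Fintype K] [DecidableEq K]
  (ι : K →+* k) {p a : ℕ} [Fact p.Prime] [CharP k p] [CharP K p]
  {ψ : SpecialLinearGroup (Fin 2) K →* ↥(Zgrp k)} {ρ ρ' : Representation k ↥(Zgrp k) (I27 → k)}

theorem two_ne (hp2 : p ≠ 2) : (2 : k) ≠ 0 := by
  have hp : p.Prime := Fact.out
  intro h0
  have h1 : ((2 : ℕ) : k) = 0 := by exact_mod_cast h0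
  rw [CharP.cast_eq_zero_iff k p] at h1
  exact hp2 ((Nat.prime_dvd_prime_iff_eq hp Nat.prime_two).1 h1)

theorem three_ne (hp3 : p ≠ 3) : (3 : k) ≠ 0 := by
  have hp : p.Prime := Fact.out
  intro h0
  have h1 : ((3 : ℕ) : k) = 0 := by exact_mod_cast h0
  rw [CharP.cast_eq_zero_iff k p] at h1
  exact hp3 ((Nat.prime_dvd_prime_iff_eq hp Nat.prime_three).1 h1)

variable (hF : Fintype.card K = p ^ a)

include hF in
/-- the dimension of `V_{n p^i}` -/
theorem IsV.dim_single {X : Type*} [AddCommGroup X] [Module k X] {σ : Representation k (SpecialLinearGroup (Fin 2) K) X}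
    {n i : ℕ} (hn : n < p) (h : IsV ι p σ (n * p ^ i)) : Module.finrank k X = n + 1 := by
  obtain ⟨x, hx⟩ := h.basS ι p hn
  rw [Module.finrank_eq_card_basis (Module.Basis.mk hx.li hx.sp), Fintype.card_fin]

include hF in
/-- the dimension of `V_{n p^i + m p^j}` -/
theorem IsV.dim_pair {X : Type*} [AddCommGroup X] [Module k X] {σ : Representation k (SpecialLinearGroup (Fin 2) K) X}
    {n i m j : ℕ} (hn : n < p) (hm : m < p) (hij : i ≠ j) (hi : i < a) (hj : j < a)
    (h : IsV ι p σ (n * p ^ i + m * p ^ j)) : Module.finrank k X = (n + 1) * (m + 1) := by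
  obtain ⟨x, hx⟩ := h.basP ι p hF hn hm hij hi hj
  rw [Module.finrank_eq_card_basis (Module.Basis.mk hx.li hx.sp), Fintype.card_prod, Fintype.card_fin, Fintype.card_fin]

include hF in
/-- the factors of `S² V_{2p^i} ⊗ S² V_{2p^j}` -/
theorem cf_sqsq {A : Type v} [AddCommGroup A] [Module k A] [FiniteDimensional k A] {B : Type v} [AddCommGroup B] [Module k B]
    [FiniteDimensional k B] {σ : Representation k (SpecialLinearGroup (Fin 2) K) A}
    {τ : Representation k (SpecialLinearGroup (Fin 2) K) B} (hp4 : 4 < p) {i j : ℕ} (hij : i ≠ j) (hi : i < a) (hj : j < a)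
    (hA : IsV ι p σ (2 * p ^ i)) (hB : IsV ι p τ (2 * p ^ j)) :
    cf (Sy.{u, v, w} ι p) ((Sq σ).tprod (Sq τ)) = {4 * p ^ i + 4 * p ^ j, 4 * p ^ i, 4 * p ^ j, 0} := by
  have hp : p.Prime := Fact.out
  refine cf_of_cs ι p hF ?_ fun z hz => ?_
  · intro b hb
    simp only [Multiset.insert_eq_cons, Multiset.mem_cons, Multiset.mem_singleton] at hb
    rcases hb with rfl | rfl | rfl | rfl
    · exact pair_lt p hp4 hp4 hij hi hj
    · exact single_lt p hp4 hi
    · exact single_lt p hp4 hj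
    · exact Nat.pow_pos hp.pos
  · have hz0 := hz.ne_zero (two_le_q p hF)
    have hi0 := pow_ne_zero (p ^ i) hz0
    have hj0 := pow_ne_zero (p ^ j) hz0
    rw [cs_tens ι p hF _ _ hz, cs_sq_single ι p hF (by omega) hA hz, cs_sq_single ι p hF (by omega) hB hz, s2_two hi0,
      s2_two hj0, Multiset.insert_eq_cons, Multiset.insert_eq_cons, Multiset.insert_eq_cons, cs_cons, cs_cons, cs_cons,
      cs_singleton, chB_pair k p hp4 hp4 hij, chB_single k p hp4, chB_single k p hp4, chB_zero]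
    ring

/-- **L22**, with the cubic form -/
theorem Fra.l22n (f : Fra p a ψ ρ ρ') (hp4 : 4 < p) {i j : ℕ} (hij : i ≠ j) (hi : i < a) (hj : j < a)
    (X : Submodule k (I27 → k)) (hX : ∀ g, ∀ x ∈ X, Rr ρ ψ g x ∈ X)
    (hb : IsV ι p (subRep (Rr ρ ψ) X hX) (2 * p ^ i + 2 * p ^ j))
    (h4i : ¬ InSoc ι p (Rr ρ' ψ) (4 * p ^ i)) (h4j : ¬ InSoc ι p (Rr ρ' ψ) (4 * p ^ j)) :
    (∃ (M : Submodule k (I27 → k)) (_ : ∀ g, ∀ x ∈ M, Rr ρ ψ g x ∈ M), IsCompl X M) ∧ ∃ x ∈ X, cubicT x ≠ 0 := by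
  have h2 : (2 : k) ≠ 0 := two_ne f.odd
  have h3 : (3 : k) ≠ 0 := three_ne (p := p) (by omega)
  have hXs : InSoc ι p (Rr ρ ψ) (2 * p ^ i + 2 * p ^ j) := ⟨X, hX, hb⟩
  have hdX := hb.dim_pair ι f.card (by omega) (by omega) hij hi hj
  -- `V_{4p^i + 4p^j}` is too large
  have h44 : ¬ InSoc ι p (Rr ρ' ψ) (4 * p ^ i + 4 * p ^ j) := by
    rintro ⟨Y, hY, hc⟩
    have h5 := hc.dim_pair ι f.card (by omega) (by omega) hij hi hj
    have h6 : InSoc ι p (Rr ρ' ψ) (4 * p ^ i + 4 * p ^ j) := ⟨Y, hY, hc⟩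
    have h7 := h6.mem_cf
    have h8 := hXs.mem_cf
    rw [← f.cf_eq ι] at h8
    have h9 := finrank_cf ι p _ _ (Rr ρ' ψ) le_rfl
    obtain ⟨s, hs⟩ := Multiset.exists_cons_of_mem h7
    have h10 : 2 * p ^ i + 2 * p ^ j ∈ s := by
      rw [hs] at h8
      refine (Multiset.mem_cons.1 h8).resolve_left ?_
      have := Nat.pow_pos (n := i) (show 0 < p by omega)
      omega
    obtain ⟨t, ht⟩ := Multiset.exists_cons_of_mem h10
    have h11 : Module.finrank k (I27 → k) = 27 := by
      rw [Module.finrank_fintype_fun_eq_card]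
      rfl
    rw [hs, ht, Multiset.map_cons, Multiset.sum_cons, Multiset.map_cons, Multiset.sum_cons, ← IsV.finrank ι hc,
      ← IsV.finrank ι hb, h5, hdX, h11] at h9
    omega
  -- the coordinates
  obtain ⟨A, B, _, _, _, _, σ, τ, hσ, hτ, e, he⟩ := hb.split ι p f.card (fun l _ => digit_disj p (by omega) (by omega) hij l)
    (single_lt p (by omega) hi) (single_lt p (by omega) hj)
  have := hσ.finite
  have := hτ.finite
  let E : A ⊗[k] B →ₗ[k] (I27 → k) := X.subtype ∘ₗ (e : A ⊗[k] B →ₗ[k] X)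
  have hE : ∀ g x, E (σ.tprod τ g x) = Rr ρ ψ g (E x) := by
    intro g x
    show ((e (σ.tprod τ g x) : X) : I27 → k) = _
    rw [he]
    rfl
  let β : A ⊗[k] B →ₗ[k] A ⊗[k] B →ₗ[k] (I27 → k) := (crB k).compl₁₂ E E
  have hβ : ∀ x y, β x y = cr (E x) (E y) := fun x y => rfl
  have hquad := quad_zero ι p σ τ (Rr ρ' ψ) β (fun x y => by rw [hβ, hβ, cr_comm]) (fun g x y => by
    rw [hβ, hβ, hE, hE]
    exact pair_cr f.pair (ψ g) _ _) (by
    rw [cf_sqsq ι f.card hp4 hij hi hj hσ hτ]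
    intro c hc
    simp only [Multiset.insert_eq_cons, Multiset.mem_cons, Multiset.mem_singleton] at hc
    rcases hc with rfl | rfl | rfl | rfl
    · exact h44
    · exact h4i
    · exact h4j
    · intro h
      exact f.swap.soc_ne_zero ι h rfl)
  let bA := Module.finBasisOfFinrankEq k A (hσ.dim_single ι f.card (by omega))
  let bB := Module.finBasisOfFinrankEq k B (hτ.dim_single ι f.card (by omega))
  let v : Fin 3 → Fin 3 → (I27 → k) := fun s t => E (bA s ⊗ₜ bB t)
  have hc : ∀ s s' t t', cr (v s t) (v s' t') + cr (v s t') (v s' t) = 0 := fun s s' t t' => hquad _ _ _ _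
  have hvX : Xv v = X := by
    apply le_antisymm
    · refine Submodule.span_le.2 ?_
      rintro _ ⟨⟨s, t⟩, rfl⟩
      exact (e (bA s ⊗ₜ bB t)).2
    · intro x hx
      obtain ⟨y, hy⟩ := e.surjective ⟨x, hx⟩
      have hy' : E y = x := congrArg Subtype.val hy
      rw [← hy', ← (bA.tensorProduct bB).sum_repr y, map_sum]
      refine Submodule.sum_mem _ fun st _ => ?_
      rw [map_smul]
      refine Submodule.smul_mem _ _ ?_
      rw [Module.Basis.tensorProduct_apply']
      exact Submodule.subset_span ⟨st, rfl⟩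
  -- the space of the products
  have hIy : ∀ g, ∀ y ∈ Iy v, Rr ρ' ψ g y ∈ Iy v := by
    intro g y hy
    unfold Iy at hy
    induction hy using Submodule.span_induction with
    | mem y hy =>
      obtain ⟨⟨m, n⟩, rfl⟩ := hy
      show ρ' (ψ g) (cr _ _) ∈ _
      rw [← pair_cr f.pair]
      refine cr_Xv h2 hc ?_ ?_
      · rw [hvX]
        exact hX g _ (e _).2
      · rw [hvX]
        exact hX g _ (e _).2
    | zero => rw [map_zero]; exact Submodule.zero_mem _
    | add y z _ _ hy hz => rw [map_add]; exact Submodule.add_mem _ hy hz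
    | smul c y _ hy => rw [map_smul]; exact Submodule.smul_mem _ _ hy
  have hts : ¬ ∀ x ∈ X, sh x = 0 := by
    intro h5
    obtain ⟨l, hl⟩ := f.ts_irr ι hX hb h5
    rw [hl] at hb
    have h6 := hb.dim_single ι f.card (by omega)
    omega
  have hshI : ∀ x ∈ X, sh x ∈ Iy v := by
    intro x hx
    have h5 := cr_Xv h2 hc (x := x) (y := x) (by rw [hvX]; exact hx) (by rw [hvX]; exact hx)
    rw [cr_self] at h5
    have h6 := Submodule.smul_mem _ (2 : k)⁻¹ h5
    rwa [smul_smul, inv_mul_cancel₀ h2, one_smul] at h6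
  have D := f.dul
  have hM := D.flip.orth_inv hIy
  have key : (∀ x ∈ X, cubicT x = 0) → False := by
    intro hN
    have hss : ∀ x ∈ Xv v, sh (sh x) = 0 := by
      intro x hx
      rw [hvX] at hx
      rw [sh_sh, hN x hx, zero_smul]
    have hI := sh_Iy h2 hc hss
    let γ : X →ₗ[k] X →ₗ[k] (Iy v) := LinearMap.mk₂ k
      (fun x y => ⟨cr (x : I27 → k) y, cr_Xv h2 hc (by rw [hvX]; exact x.2) (by rw [hvX]; exact y.2)⟩)
      (fun x x' y => Subtype.ext (cr_add_left _ _ _)) (fun c x y => Subtype.ext (cr_smul_left _ _ _))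
      (fun x y y' => Subtype.ext (cr_add_right _ _ _)) (fun c x y => Subtype.ext (cr_smul_right _ _ _))
    obtain ⟨c, hc1, hc2⟩ := soc_of_sq ι p (σ := subRep (Rr ρ ψ) X hX) (ρ := subRep (Rr ρ' ψ) (Iy v) hIy) γ
      (fun x y => Subtype.ext (cr_comm _ _)) (fun g x y => Subtype.ext (pair_cr f.pair (ψ g) _ _)) (fun h0 => hts fun x hx => by
        have h6 : γ ⟨x, hx⟩ ⟨x, hx⟩ = 0 := by rw [h0]; rfl
        have h7 : cr x x = 0 := congrArg Subtype.val h6
        rw [cr_self, smul_eq_zero] at h7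
        exact h7.resolve_left h2)
    obtain ⟨Y, hY, hcY⟩ := hc2
    obtain ⟨hY', e', he'⟩ := eqv_map (subRep (Rr ρ' ψ) (Iy v) hIy) (Rr ρ' ψ) (Iy v).subtype (fun _ _ => rfl)
      (Iy v).injective_subtype Y hY
    have hc3 := IsV.iso ι p e' he' hcY
    obtain ⟨l, hl⟩ := f.swap.ts_irr ι hY' hc3 (by
      rintro _ ⟨y, -, rfl⟩
      exact hI _ y.2)
    have hd : Module.finrank k ↥(Submodule.map (Iy v).subtype Y) = 3 := by
      rw [hl] at hc3
      exact hc3.dim_single ι f.card (by omega)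
    rw [sq_22 ι p f.card hp4 hij hi hj hb] at hc1
    simp only [Multiset.insert_eq_cons, Multiset.mem_cons, Multiset.mem_singleton] at hc1
    rcases hc1 with h6 | h6 | h6 | h6 | h6
    · rw [h6] at hc3
      have := hc3.dim_pair ι f.card (by omega) (by omega) hij hi hj
      omega
    · rw [h6] at hc3
      have := hc3.dim_single ι f.card (by omega)
      omega
    · rw [h6] at hc3
      have := hc3.dim_single ι f.card (by omega)
      omega
    · rw [h6] at hc3
      have := hc3.dim_pair ι f.card (by omega) (by omega) hij hi hj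
      omega
    · rw [hl] at h6
      have := Nat.pow_pos (n := l) (show 0 < p by omega)
      omega
  rcases IsV.inf_or_le ι p hb hM with h5 | h5
  · refine ⟨⟨_, hM, ?_⟩, by
      by_contra hc0
      push Not at hc0
      exact key hc0⟩
    rw [isCompl_iff, disjoint_iff, codisjoint_iff]
    refine ⟨h5, ?_⟩
    apply Submodule.eq_top_of_finrank_eq
    obtain ⟨B₁, D₁, -⟩ := D.flip.sub hIy
    have h6 := D₁.finrank_eq
    have h7 := Submodule.finrank_sup_add_finrank_inf_eq X (orth (tfB k).flip (Iy v))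
    rw [h5, finrank_bot, add_zero] at h7
    have h8 := Submodule.finrank_quotient_add_finrank (orth (tfB k).flip (Iy v))
    have h9 := finrank_Iy v
    have h10 := Submodule.finrank_le (X ⊔ orth (tfB k).flip (Iy v))
    omega
  · exact (key fun x hx => by
      have h6 : tf x (sh x) = 0 := h5 hx (sh x) (hshI x hx)
      rw [tf_comm, tf_sh_self] at h6
      exact (mul_eq_zero.1 h6).resolve_left h3).elim

/-- **L22** -/
theorem Fra.l22 (f : Fra p a ψ ρ ρ') (hp4 : 4 < p) {i j : ℕ} (hij : i ≠ j) (hi : i < a) (hj : j < a)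
    (X : Submodule k (I27 → k)) (hX : ∀ g, ∀ x ∈ X, Rr ρ ψ g x ∈ X)
    (hb : IsV ι p (subRep (Rr ρ ψ) X hX) (2 * p ^ i + 2 * p ^ j))
    (h4i : ¬ InSoc ι p (Rr ρ' ψ) (4 * p ^ i)) (h4j : ¬ InSoc ι p (Rr ρ' ψ) (4 * p ^ j)) :
    ∃ (M : Submodule k (I27 → k)) (_ : ∀ g, ∀ x ∈ M, Rr ρ ψ g x ∈ M), IsCompl X M :=
  (f.l22n ι hp4 hij hi hj X hX hb h4i h4j).1

end Cfsg.Agent.R2.H28.SL2
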