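import Cfsg.Agent.R2.H28.SL2.Lift2

/-!
# Duality (helper28)

`cf_dual` : modules of `SL(2, q)` in perfect duality have the same composition factors.
-/

set_option autoImplicit false
set_option linter.unusedSectionVars false

namespace Cfsg.Agent.R2.H28.SL2

open Matrix Cfsg.Agent.H943.SL2Rel Cfsg.Agent.H943.SL2Mod Cfsg.Agent.H943.RepAdd

universe u v w

section Pairing

variable {k : Type*} [Field k] {G : Type*} [Group G]

/-- perfect dualities of representations -/
structure Dul {V : Type*} [AddCommGroup V] [Module k V] {V' : Type*} [AddCommGroup V'] [Module k V']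
    (ρ : Representation k G V) (ρ' : Representation k G V') (B : V →ₗ[k] V' →ₗ[k] k) : Prop where
  inv : ∀ g x y, B (ρ g x) (ρ' g y) = B x y
  left : ∀ x, (∀ y, B x y = 0) → x = 0
  right : ∀ y, (∀ x, B x y = 0) → y = 0

variable {V : Type*} [AddCommGroup V] [Module k V] {V' : Type*} [AddCommGroup V'] [Module k V']
  {ρ : Representation k G V} {ρ' : Representation k G V'} {B : V →ₗ[k] V' →ₗ[k] k}

theorem Dul.flip (D : Dul ρ ρ' B) : Dul ρ' ρ B.flip where
  inv g x y := D.inv g y x
  left := D.right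
  right := D.left

theorem Dul.inv' (D : Dul ρ ρ' B) (g : G) (x : V) (y : V') : B x (ρ' g y) = B (ρ g⁻¹ x) y := by
  have h := D.inv g (ρ g⁻¹ x) y
  rw [← h, ← Module.End.mul_apply, ← map_mul, mul_inv_cancel, map_one, Module.End.one_apply]

theorem Dul.surj [FiniteDimensional k V] [FiniteDimensional k V'] (D : Dul ρ ρ' B) (f : V →ₗ[k] k) :
    ∃ y, ∀ x, B x y = f x := by
  have i1 : Function.Injective B := by
    rw [← LinearMap.ker_eq_bot, LinearMap.ker_eq_bot']
    intro x hx
    exact D.left x fun y => by rw [hx]; rfl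
  have i2 : Function.Injective B.flip := by
    rw [← LinearMap.ker_eq_bot, LinearMap.ker_eq_bot']
    intro y hy
    exact D.right y fun x => by
      have := LinearMap.congr_fun hy x
      exact this
  have e1 := LinearMap.finrank_le_finrank_of_injective i1
  have e2 := LinearMap.finrank_le_finrank_of_injective i2
  have e3 : Module.finrank k (Module.Dual k V) = Module.finrank k V := Subspace.dual_finrank_eq
  have e4 : Module.finrank k (Module.Dual k V') = Module.finrank k V' := Subspace.dual_finrank_eq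
  have e5 : Module.finrank k V' = Module.finrank k (Module.Dual k V) := by
    have e1' : Module.finrank k V ≤ Module.finrank k (Module.Dual k V') := e1
    have e2' : Module.finrank k V' ≤ Module.finrank k (Module.Dual k V) := e2
    omega
  obtain ⟨y, hy⟩ := (LinearMap.injective_iff_surjective_of_finrank_eq_finrank e5).1 i2 f
  exact ⟨y, fun x => by rw [← hy]; rfl⟩

theorem Dul.finrank_eq [FiniteDimensional k V] [FiniteDimensional k V'] (D : Dul ρ ρ' B) :
    Module.finrank k V = Module.finrank k V' := by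
  have i1 : Function.Injective B := by
    rw [← LinearMap.ker_eq_bot, LinearMap.ker_eq_bot']
    intro x hx
    exact D.left x fun y => by rw [hx]; rfl
  have i2 : Function.Injective B.flip := by
    rw [← LinearMap.ker_eq_bot, LinearMap.ker_eq_bot']
    intro y hy
    exact D.right y fun x => by
      have := LinearMap.congr_fun hy x
      exact this
  have e1 := LinearMap.finrank_le_finrank_of_injective i1
  have e2 := LinearMap.finrank_le_finrank_of_injective i2
  have e3 : Module.finrank k (Module.Dual k V) = Module.finrank k V := Subspace.dual_finrank_eq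
  have e4 : Module.finrank k (Module.Dual k V') = Module.finrank k V' := Subspace.dual_finrank_eq
  have e1' : Module.finrank k V ≤ Module.finrank k (Module.Dual k V') := e1
  have e2' : Module.finrank k V' ≤ Module.finrank k (Module.Dual k V) := e2
  omega

/-- the orthogonal space -/
def orth (B : V →ₗ[k] V' →ₗ[k] k) (W : Submodule k V) : Submodule k V' where
  carrier := {y | ∀ x ∈ W, B x y = 0}
  zero_mem' := fun x _ => map_zero _
  add_mem' := fun {y z} hy hz x hx => by rw [map_add, hy x hx, hz x hx, add_zero]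
  smul_mem' := fun c y hy x hx => by rw [map_smul, hy x hx, smul_zero]

theorem mem_orth {W : Submodule k V} {y : V'} : y ∈ orth B W ↔ ∀ x ∈ W, B x y = 0 := Iff.rfl

theorem Dul.orth_inv (D : Dul ρ ρ' B) {W : Submodule k V} (hW : ∀ g, ∀ x ∈ W, ρ g x ∈ W) :
    ∀ g, ∀ y ∈ orth B W, ρ' g y ∈ orth B W := by
  intro g y hy x hx
  rw [D.inv']
  exact hy _ (hW _ x hx)

/-- the double orthogonal -/
theorem Dul.orth_orth [FiniteDimensional k V] [FiniteDimensional k V'] (D : Dul ρ ρ' B) (W : Submodule k V) (x : V)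
    (hx : ∀ y ∈ orth B W, B x y = 0) : x ∈ W := by
  by_contra hxW
  obtain ⟨f, hf, hfW⟩ := Submodule.exists_le_ker_of_notMem (p := W) hxW
  obtain ⟨y, hy⟩ := D.surj f
  apply hf
  rw [← hy x]
  exact hx y fun z hz => by rw [hy z]; exact hfW hz

/-- the duality of the quotient and the orthogonal space -/
theorem Dul.quot [FiniteDimensional k V] [FiniteDimensional k V'] (D : Dul ρ ρ' B) {W : Submodule k V}
    (hW : ∀ g, ∀ x ∈ W, ρ g x ∈ W) :
    ∃ B' : (V ⧸ W) →ₗ[k] (orth B W) →ₗ[k] k, Dul (quotRep ρ W hW) (subRep ρ' (orth B W) (D.orth_inv hW)) B' ∧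
      ∀ x y, B' (W.mkQ x) y = B x y := by
  let B' : (V ⧸ W) →ₗ[k] (orth B W) →ₗ[k] k := W.liftQ
    (LinearMap.mk₂ k (fun x (y : orth B W) => B x (y : V')) (fun x x' y => by rw [map_add]; rfl)
      (fun c x y => by rw [map_smul]; rfl) (fun x y y' => by rw [Submodule.coe_add, map_add])
      (fun c x y => by rw [Submodule.coe_smul, map_smul])) (by
      intro x hx
      rw [LinearMap.mem_ker]
      ext y
      exact y.2 x hx)
  have hB : ∀ x y, B' (W.mkQ x) y = B x y := fun x y => rfl
  refine ⟨B', ⟨?_, ?_, ?_⟩, hB⟩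
  · intro g x y
    obtain ⟨x, rfl⟩ := W.mkQ_surjective x
    rw [quotRep_mk, hB, hB]
    exact D.inv g x y
  · intro x hx
    obtain ⟨x, rfl⟩ := W.mkQ_surjective x
    rw [Submodule.mkQ_apply, Submodule.Quotient.mk_eq_zero]
    refine D.orth_orth W x fun y hy => ?_
    have := hx ⟨y, hy⟩
    rwa [hB] at this
  · intro y hy
    apply Subtype.ext
    refine D.right _ fun x => ?_
    have := hy (W.mkQ x)
    rwa [hB] at this

/-- the duality of the submodule and the quotient by the orthogonal space -/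
theorem Dul.sub (D : Dul ρ ρ' B) {W : Submodule k V} (hW : ∀ g, ∀ x ∈ W, ρ g x ∈ W) :
    ∃ B' : W →ₗ[k] (V' ⧸ orth B W) →ₗ[k] k, Dul (subRep ρ W hW) (quotRep ρ' (orth B W) (D.orth_inv hW)) B' ∧
      ∀ x y, B' x ((orth B W).mkQ y) = B x y := by
  let B0 : (V' ⧸ orth B W) →ₗ[k] W →ₗ[k] k := (orth B W).liftQ
    (LinearMap.mk₂ k (fun y (x : W) => B (x : V) y) (fun y y' x => by rw [map_add])
      (fun c y x => by rw [map_smul]) (fun y x x' => by rw [Submodule.coe_add, map_add]; rfl)
      (fun c y x => by rw [Submodule.coe_smul, map_smul]; rfl)) (by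
      intro y hy
      rw [LinearMap.mem_ker]
      ext x
      exact hy x x.2)
  have hB : ∀ x y, B0.flip x ((orth B W).mkQ y) = B x y := fun x y => rfl
  refine ⟨B0.flip, ⟨?_, ?_, ?_⟩, hB⟩
  · intro g x y
    obtain ⟨y, rfl⟩ := (orth B W).mkQ_surjective y
    rw [quotRep_mk, hB, hB]
    exact D.inv g x y
  · intro x hx
    apply Subtype.ext
    refine D.left _ fun y => ?_
    have := hx ((orth B W).mkQ y)
    rwa [hB] at this
  · intro y hy
    obtain ⟨y, rfl⟩ := (orth B W).mkQ_surjective y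
    rw [Submodule.mkQ_apply, Submodule.Quotient.mk_eq_zero]
    intro x hx
    have := hy ⟨x, hx⟩
    rwa [hB] at this

/-- the dual of an irreducible module is irreducible -/
theorem Dul.irr [FiniteDimensional k V] [FiniteDimensional k V'] (D : Dul ρ ρ' B)
    (h : Nontrivial V ∧ ∀ W : Submodule k V, (∀ g, ∀ x ∈ W, ρ g x ∈ W) → W = ⊥ ∨ W = ⊤) :
    Nontrivial V' ∧ ∀ W : Submodule k V', (∀ g, ∀ x ∈ W, ρ' g x ∈ W) → W = ⊥ ∨ W = ⊤ := by
  refine ⟨?_, fun U hU => ?_⟩
  · by_contra hc
    rw [not_nontrivial_iff_subsingleton] at hc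
    obtain ⟨x, y, hxy⟩ := h.1
    have h0 : ∀ z : V, z = 0 := fun z => D.left z fun y => by rw [Subsingleton.elim y 0, map_zero]
    exact hxy (by rw [h0 x, h0 y])
  · rcases h.2 (orth B.flip U) (D.flip.orth_inv hU) with h1 | h1
    · right
      rw [eq_top_iff]
      intro y _
      refine D.flip.orth_orth U y fun x hx => ?_
      rw [h1, Submodule.mem_bot] at hx
      rw [hx, map_zero]
    · left
      rw [eq_bot_iff]
      intro y hy
      rw [Submodule.mem_bot]
      refine D.right y fun x => ?_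
      have h2 : x ∈ orth B.flip U := by rw [h1]; trivial
      exact h2 y hy

end Pairing

variable {k : Type u} [Field k] [DecidableEq k] {F : Type w} [Field F] [Fintype F] [DecidableEq F] (ι : F →+* k)
variable (p : ℕ) [Fact p.Prime] [CharP k p] [CharP F p]

/-- the coefficient of `mon 0` -/
theorem eval_zero {b : ℕ} {f : F × F → k} (hf : f ∈ Vb ι b) (a : F) : f (0, a) = ι a ^ b * f (0, 1) := by
  obtain ⟨c, rfl⟩ := mem_span_mon ι (Vb_le ι b hf)
  rw [Finset.sum_apply, Finset.sum_apply, Finset.mul_sum]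
  refine Finset.sum_congr rfl fun m hm => ?_
  rw [Finset.mem_range] at hm
  show c m * mon ι b m (0, a) = ι a ^ b * (c m * mon ι b m (0, 1))
  unfold mon
  by_cases hmb : m = 0
  · rw [hmb, pow_zero, Nat.sub_zero, map_one, one_pow]
    ring
  · rw [map_zero, zero_pow hmb]
    ring

/-- the lowest weight functional -/
theorem IsV.lw {V : Type*} [AddCommGroup V] [Module k V] {ρ : Representation k (SpecialLinearGroup (Fin 2) F) V}
    {b : ℕ} (hV : IsV ι p ρ b) : ∃ f : V →ₗ[k] k, f ≠ 0 ∧ (∀ t x, f (ρ (u t) x) = f x) ∧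
      ∀ (a : Fˣ) x, f (ρ (Cfsg.Agent.H943.SL2Rel.h a⁻¹) x) = ι (a : F) ^ b * f x := by
  obtain ⟨hb, φ, hφ⟩ := hV
  let δ : Vb ι b →ₗ[k] k := (LinearMap.proj ((0 : F), (1 : F))) ∘ₗ (Vb ι b).subtype
  have hδ : ∀ x, δ x = (x : F × F → k) (0, 1) := fun _ => rfl
  have h0 : mon ι b 0 ∈ Vb ι b := Cfsg.Agent.H179.SLC.mon_mem_Vb ι p (neg_one_pow_Q ι) hb
    ⟨Nat.zero_le _, by rw [Nat.choose_zero_right, Nat.cast_one]; exact one_ne_zero⟩
  refine ⟨δ ∘ₗ (φ.symm : V →ₗ[k] Vb ι b), fun hc => ?_, fun t x => ?_, fun a x => ?_⟩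
  · have h1 := LinearMap.congr_fun hc (φ ⟨_, h0⟩)
    have h2 : δ (φ.symm (φ ⟨_, h0⟩)) = 0 := h1
    rw [φ.symm_apply_apply, hδ] at h2
    have h3 : mon ι b 0 ((0 : F), (1 : F)) = 1 := by
      unfold mon
      rw [pow_zero, Nat.sub_zero, map_one, one_pow, one_mul]
    exact one_ne_zero (h3.symm.trans h2)
  · obtain ⟨y, rfl⟩ := φ.surjective x
    show δ (φ.symm (ρ (u t) (φ y))) = δ (φ.symm (φ y))
    rw [← hφ, φ.symm_apply_apply, φ.symm_apply_apply, hδ, hδ]
    show fRep k F (u t) (y : F × F → k) (0, 1) = _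
    rw [fRep_u, zero_mul, zero_add]
  · obtain ⟨y, rfl⟩ := φ.surjective x
    show δ (φ.symm (ρ _ (φ y))) = ι (a : F) ^ b * δ (φ.symm (φ y))
    rw [← hφ, φ.symm_apply_apply, φ.symm_apply_apply, hδ, hδ]
    show fRep k F _ (y : F × F → k) (0, 1) = _
    rw [fRep_h, zero_mul, one_mul, Units.val_inv_eq_inv_val, inv_inv, eval_zero ι y.2]

omit [Fact p.Prime] [CharP k p] [CharP F p] [Fintype F] [DecidableEq F] in
theorem card_Bf_zero : (Bf k 0).card = 1 := by
  have : Bf k 0 = {0} := by
    ext m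
    rw [mem_Bf, Finset.mem_singleton]
    unfold Bb
    rw [Set.mem_ofPred_eq]
    constructor
    · intro h
      omega
    · rintro rfl
      exact ⟨le_rfl, by rw [Nat.choose_self, Nat.cast_one]; exact one_ne_zero⟩
  rw [this, Finset.card_singleton]

theorem card_Bf_pos {b : ℕ} (hb : 0 < b) : 2 ≤ (Bf k b).card := by
  have h1 : ({0, b} : Finset ℕ) ⊆ Bf k b := by
    intro m hm
    rw [Finset.mem_insert, Finset.mem_singleton] at hm
    rw [mem_Bf]
    rcases hm with rfl | rfl
    · exact ⟨Nat.zero_le _, by rw [Nat.choose_zero_right, Nat.cast_one]; exact one_ne_zero⟩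
    · exact ⟨le_rfl, by rw [Nat.choose_self, Nat.cast_one]; exact one_ne_zero⟩
  have h2 := Finset.card_le_card h1
  rwa [Finset.card_pair (by omega)] at h2

variable [IsAlgClosed k]

/-- **the simple modules are self-dual** -/
theorem IsV.dual {V : Type v} [AddCommGroup V] [Module k V] {V' : Type v} [AddCommGroup V'] [Module k V']
    [FiniteDimensional k V'] {ρ : Representation k (SpecialLinearGroup (Fin 2) F) V}
    {ρ' : Representation k (SpecialLinearGroup (Fin 2) F) V'} {B : V →ₗ[k] V' →ₗ[k] k} {b : ℕ} (hV : IsV ι p ρ b)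
    (D : Dul ρ ρ' B) : IsV ι p ρ' b := by
  have hq := one_lt (F := F)
  have hfin := hV.finite
  obtain ⟨c, hc⟩ := (Sy.{u, v, w} ι p).ex ρ' (D.irr hV.irr)
  have hc' : IsV ι p ρ' c := hc
  obtain ⟨f, hf0, hfu, hfh⟩ := hV.lw
  obtain ⟨y, hy⟩ := D.surj f
  have hy0 : y ≠ 0 := by
    rintro rfl
    apply hf0
    ext x
    rw [← hy x, map_zero]
    rfl
  have hyu : ∀ t, ρ' (u t) y = y := by
    intro t
    rw [← sub_eq_zero]
    refine D.right _ fun x => ?_
    rw [map_sub, D.inv', hy, hy, ← u_neg, hfu, sub_self]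
  have hyh : ∀ a, ρ' (Cfsg.Agent.H943.SL2Rel.h a) y = ι (a : F) ^ b • y := by
    intro a
    rw [← sub_eq_zero]
    refine D.right _ fun x => ?_
    rw [map_sub, D.inv', hy, ← h_inv, hfh, map_smul, hy, smul_eq_mul, sub_self]
  obtain ⟨m, hm0, hmu, hmh, hmS, hmD, hmf, hm⟩ := hc'.hw2
  obtain ⟨d, hd⟩ := hm y hyu
  have h1 : b % (Fintype.card F - 1) = c % (Fintype.card F - 1) := by
    refine mod_of_pow ι fun a => ?_
    have h2 := hyh a
    rw [hd, map_smul, hmh, smul_comm, ← hd] at h2
    have h3 : (ι (a : F) ^ c - ι (a : F) ^ b) • y = 0 := by rw [sub_smul, h2, sub_self]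
    exact (sub_eq_zero.1 ((smul_eq_zero.1 h3).resolve_right hy0)).symm
  have hbq := hV.choose
  have hcq := hc'.choose
  have hfr : (Bf k b).card = (Bf k c).card := by
    obtain ⟨m', -, -, -, -, -, hmf', -⟩ := hV.hw2
    rw [← hmf', ← hmf, D.finrank_eq]
  have hbc : b = c := by
    by_cases h2 : b < Fintype.card F - 1
    · by_cases h3 : c < Fintype.card F - 1
      · rwa [Nat.mod_eq_of_lt h2, Nat.mod_eq_of_lt h3] at h1
      · have h4 : c = Fintype.card F - 1 := by omega
        rw [h4, Nat.mod_self, Nat.mod_eq_of_lt h2] at h1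
        have h5 := card_Bf_pos (k := k) (b := c) (by omega)
        rw [← hfr, h1, card_Bf_zero] at h5
        omega
    · have h4 : b = Fintype.card F - 1 := by omega
      by_cases h3 : c < Fintype.card F - 1
      · rw [h4, Nat.mod_self, Nat.mod_eq_of_lt h3] at h1
        have h5 := card_Bf_pos (k := k) (b := b) (by omega)
        rw [hfr, ← h1, card_Bf_zero] at h5
        omega
      · omega
  rw [hbc]
  exact hc'

/-- **duality** -/
theorem cf_dual {V : Type v} [AddCommGroup V] [Module k V] [FiniteDimensional k V] {V' : Type v} [AddCommGroup V']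
    [Module k V'] [FiniteDimensional k V'] {ρ : Representation k (SpecialLinearGroup (Fin 2) F) V}
    {ρ' : Representation k (SpecialLinearGroup (Fin 2) F) V'} {B : V →ₗ[k] V' →ₗ[k] k} (D : Dul ρ ρ' B) :
    cf (Sy.{u, v, w} ι p) ρ' = cf (Sy.{u, v, w} ι p) ρ := by
  have key : ∀ (n : ℕ) (V : Type v) [AddCommGroup V] [Module k V] [FiniteDimensional k V] (V' : Type v)
      [AddCommGroup V'] [Module k V'] [FiniteDimensional k V'] (ρ : Representation k (SpecialLinearGroup (Fin 2) F) V)
      (ρ' : Representation k (SpecialLinearGroup (Fin 2) F) V') (B : V →ₗ[k] V' →ₗ[k] k) (_ : Dul ρ ρ' B)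
      (s : Multiset ℕ) (_ : JHn (Sy.{u, v, w} ι p) n ρ s), cf (Sy.{u, v, w} ι p) ρ' = s := by
    intro n
    induction n with
    | zero =>
      intro V _ _ _ V' _ _ _ ρ ρ' B D s hs
      have h1 := hs.1
      have h2 : Subsingleton V' := ⟨fun y z => by
        rw [← sub_eq_zero]
        exact D.right _ fun x => by rw [Subsingleton.elim x 0, map_zero]; rfl⟩
      rw [hs.2]
      exact cf_zero _ ρ'
    | succ n ih =>
      intro V _ _ _ V' _ _ _ ρ ρ' B D s hs
      obtain ⟨W, hW, b, t, hb, rfl, ht⟩ := hs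
      obtain ⟨B₁, D₁, -⟩ := D.quot hW
      obtain ⟨B₂, D₂, -⟩ := D.sub hW
      have h1 := ih _ _ _ _ B₁ D₁ t ht
      have h2 : IsV ι p (quotRep ρ' (orth B W) (D.orth_inv hW)) b := IsV.dual ι p hb D₂
      rw [cf_add _ ρ' (orth B W) (D.orth_inv hW), h1, cf_irr (Sy.{u, v, w} ι p) h2, add_comm]
      rfl
  obtain ⟨n, hn⟩ := cf_spec (Sy.{u, v, w} ι p) ρ
  exact key n V V' ρ ρ' B D _ hn

end Cfsg.Agent.R2.H28.SL2
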