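import Cfsg.Agent.R2.H28.SL2.Bch
import Mathlib.RingTheory.RootsOfUnity.AlgebraicallyClosed

/-!
# The composition factors of tensor products, Hom and symmetric squares (helper28)

`cs k s z` : the character of a multiset of labels; `cs_inj` : it determines the multiset; `cs_tens`, `cs_hom`,
`cs_sq`.
-/

set_option autoImplicit false
set_option linter.unusedSectionVars false

namespace Cfsg.Agent.R2.H28.SL2

open Matrix Cfsg.Agent.H943.SL2Rel Cfsg.Agent.H943.SL2Mod Cfsg.Agent.H943.RepAdd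
open Cfsg.Agent.H179.SLC (IsSS)
open scoped TensorProduct

universe u v w

/-- the relevant roots of unity -/
def Zs (q : ℕ) (z : ℂ) : Prop := z ^ (q - 1) = 1 ∨ z ^ (q + 1) = 1

theorem Zs.ne_zero {q : ℕ} (hq : 2 ≤ q) {z : ℂ} (h : Zs q z) : z ≠ 0 := by
  rintro rfl
  rcases h with h | h
  · rw [zero_pow (by omega)] at h
    exact zero_ne_one h
  · rw [zero_pow (by omega)] at h
    exact zero_ne_one h

theorem Zs.inv {q : ℕ} {z : ℂ} (h : Zs q z) : Zs q z⁻¹ := by
  rcases h with h | h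
  · exact Or.inl (by rw [inv_pow, h, inv_one])
  · exact Or.inr (by rw [inv_pow, h, inv_one])

theorem Zs.pow {q : ℕ} {z : ℂ} (h : Zs q z) (n : ℕ) : Zs q (z ^ n) := by
  rcases h with h | h
  · exact Or.inl (by rw [← pow_mul, mul_comm, pow_mul, h, one_pow])
  · exact Or.inr (by rw [← pow_mul, mul_comm, pow_mul, h, one_pow])

theorem pow_mul_inv {K : Type*} [Field K] (x : K) (hx : x ≠ 0) (m n : ℕ) : x ^ m * x⁻¹ ^ n = x ^ ((m : ℤ) - (n : ℤ)) := by
  rw [zpow_sub₀ hx, zpow_natCast, zpow_natCast, inv_pow, div_eq_mul_inv]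

section csdef

variable (k : Type u) [Field k] [DecidableEq k]

/-- the character of a multiset of labels -/
noncomputable def cs (s : Multiset ℕ) (z : ℂ) : ℂ := (s.map fun b => chB k b z).sum

theorem cs_zero (z : ℂ) : cs k 0 z = 0 := by
  unfold cs
  simp

theorem cs_cons (b : ℕ) (s : Multiset ℕ) (z : ℂ) : cs k (b ::ₘ s) z = chB k b z + cs k s z := by
  unfold cs
  simp

theorem cs_add (s t : Multiset ℕ) (z : ℂ) : cs k (s + t) z = cs k s z + cs k t z := by
  unfold cs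
  simp

theorem cs_singleton (b : ℕ) (z : ℂ) : cs k {b} z = chB k b z := by
  unfold cs
  simp

theorem cs_nsmul (n : ℕ) (s : Multiset ℕ) (z : ℂ) : cs k (n • s) z = n * cs k s z := by
  unfold cs
  rw [Multiset.map_nsmul, Multiset.sum_nsmul, nsmul_eq_mul]

theorem cs_eq_sum (s : Multiset ℕ) {q : ℕ} (h : ∀ b ∈ s, b < q) (z : ℂ) :
    cs k s z = ∑ b ∈ Finset.range q, (s.count b : ℂ) * chB k b z := by
  unfold cs
  rw [Finset.sum_multiset_map_count]
  rw [Finset.sum_subset (s₂ := Finset.range q)]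
  · exact Finset.sum_congr rfl fun b _ => by rw [nsmul_eq_mul]
  · intro b hb
    exact Finset.mem_range.2 (h b (Multiset.mem_toFinset.1 hb))
  · intro b _ hb
    rw [Multiset.mem_toFinset] at hb
    rw [Multiset.count_eq_zero_of_notMem hb, zero_smul]

theorem chB_symm (b : ℕ) (z : ℂ) : chB k b z⁻¹ = chB k b z := by
  unfold chB
  refine Finset.sum_nbij' (fun m => b - m) (fun m => b - m) ?_ ?_ ?_ ?_ ?_
  · intro m hm
    rw [mem_Bf] at hm ⊢
    exact ⟨Nat.sub_le _ _, by rw [Nat.choose_symm hm.1]; exact hm.2⟩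
  · intro m hm
    rw [mem_Bf] at hm ⊢
    exact ⟨Nat.sub_le _ _, by rw [Nat.choose_symm hm.1]; exact hm.2⟩
  · intro m hm
    rw [mem_Bf] at hm
    exact Nat.sub_sub_self hm.1
  · intro m hm
    rw [mem_Bf] at hm
    exact Nat.sub_sub_self hm.1
  · intro m hm
    rw [mem_Bf] at hm
    rw [inv_inv, Nat.sub_sub_self hm.1, mul_comm]

theorem cs_symm (s : Multiset ℕ) (z : ℂ) : cs k s z⁻¹ = cs k s z := by
  unfold cs
  congr 2
  funext b
  exact chB_symm k b z

/-- **the character determines the multiset** -/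
theorem cs_inj (p : ℕ) [Fact p.Prime] [CharP k p] {q : ℕ} (hq : 2 ≤ q) {s t : Multiset ℕ} (hs : ∀ b ∈ s, b < q) (ht : ∀ b ∈ t, b < q)
    (h : ∀ z, Zs q z → cs k s z = cs k t z) : s = t := by
  have h1 := chB_indep k p hq (fun b => (s.count b : ℂ) - t.count b) fun z hz => by
    have h2 := h z hz
    rw [cs_eq_sum k s hs, cs_eq_sum k t ht] at h2
    simp only [sub_mul]
    rw [Finset.sum_sub_distrib, h2, sub_self]
  refine Multiset.ext.2 fun b => ?_
  by_cases hb : b < q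
  · have h3 := h1 b hb
    rw [sub_eq_zero] at h3
    exact_mod_cast h3
  · rw [Multiset.count_eq_zero_of_notMem fun h3 => hb (hs b h3), Multiset.count_eq_zero_of_notMem fun h3 => hb (ht b h3)]

end csdef

variable {k : Type u} [Field k] [DecidableEq k] {F : Type w} [Field F] [Fintype F] [DecidableEq F] (ι : F →+* k)
variable (p : ℕ) [Fact p.Prime] [CharP k p] [CharP F p]

/-- generators of the tori -/
structure Tor (N : ℕ) (g : SpecialLinearGroup (Fin 2) F) (ζ : k) : Prop where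
  ss : IsSS ι g ζ
  prim : IsPrimitiveRoot ζ N
  nz : (N : k) ≠ 0

theorem Tor.pos {N : ℕ} {g : SpecialLinearGroup (Fin 2) F} {ζ : k} (T : Tor ι N g ζ) : 0 < N :=
  Nat.pos_of_ne_zero fun h => T.nz (by rw [h, Nat.cast_zero])

theorem Tor.pow {N : ℕ} {g : SpecialLinearGroup (Fin 2) F} {ζ : k} (T : Tor ι N g ζ) : g ^ N = 1 :=
  pow_eq_one_of_isSS ι T.ss T.prim.pow_eq_one

variable [IsAlgClosed k] {a : ℕ} (hF : Fintype.card F = p ^ a)

include hF in
theorem ha_pos : 0 < a := by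
  rcases Nat.eq_zero_or_pos a with rfl | h
  · have := Fintype.one_lt_card (α := F)
    rw [hF, pow_zero] at this
    omega
  · exact h

include hF in
theorem two_le_q : 2 ≤ p ^ a := by
  have := Fintype.one_lt_card (α := F)
  rw [hF] at this
  omega

include hF in
theorem q_cast : ((p ^ a : ℕ) : k) = 0 := by
  have ha := ha_pos p hF
  rw [CharP.cast_eq_zero_iff k p]
  exact dvd_pow_self p ha.ne'

include hF in
theorem exists_tor {z : ℂ} (hz : Zs (p ^ a) z) : ∃ (N : ℕ) (g : SpecialLinearGroup (Fin 2) F) (ζ : k), Tor ι N g ζ ∧ z ^ N = 1 := by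
  have h2 := two_le_q p hF
  have h3 := q_cast (k := k) p hF
  rcases hz with hz | hz
  · obtain ⟨lam, hlam⟩ := IsCyclic.exists_generator (α := Fˣ)
    refine ⟨p ^ a - 1, Cfsg.Agent.H943.SL2Rel.h lam, ι lam, ⟨Cfsg.Agent.H179.SLC.isSS_h ι lam, ?_, ?_⟩, hz⟩
    · rw [← hF]
      exact primitive ι ι.injective hlam
    · rw [Nat.cast_sub (by omega), h3, Nat.cast_one, zero_sub]
      exact neg_ne_zero.2 one_ne_zero
  · have h4 : ((p ^ a + 1 : ℕ) : k) ≠ 0 := by
      rw [Nat.cast_add, h3, zero_add, Nat.cast_one]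
      exact one_ne_zero
    have : NeZero ((p ^ a + 1 : ℕ) : k) := ⟨h4⟩
    obtain ⟨ζ, hζ⟩ := HasEnoughRootsOfUnity.exists_primitiveRoot k (p ^ a + 1)
    have h5 : ζ ≠ ζ⁻¹ := by
      intro h6
      have hζ0 : ζ ≠ 0 := hζ.ne_zero (by omega)
      have h7 : ζ ^ 2 = 1 := by
        rw [sq]
        nth_rewrite 1 [h6]
        exact inv_mul_cancel₀ hζ0
      have h8 := Nat.le_of_dvd (by omega) ((hζ.pow_eq_one_iff_dvd 2).1 h7)
      omega
    obtain ⟨g, hg⟩ := Cfsg.Agent.H179.SLC.exists_isSS ι ι.injective p (ζ := ζ) (by rw [hF]; exact hζ.pow_eq_one) h5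
    exact ⟨p ^ a + 1, g, ζ, ⟨hg, hζ, h4⟩, hz⟩

theorem bc_of_isMult {V : Type*} [AddCommGroup V] [Module k V]
    {ρ : Representation k (SpecialLinearGroup (Fin 2) F) V} {n : ℕ → ℕ} (h : IsMult ι p a ρ n) {N : ℕ}
    {g : SpecialLinearGroup (Fin 2) F} {ζ : k} (T : Tor ι N g ζ) {z : ℂ} (hz : z ^ N = 1) :
    bc ρ g ζ N z = ∑ b ∈ Finset.range (p ^ a), (n b : ℂ) * chB k b z := by
  have hN := T.pos
  have hζ0 : ζ ≠ 0 := T.prim.ne_zero hN.ne'
  have hz0 : z ≠ 0 := by
    rintro rfl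
    rw [zero_pow hN.ne'] at hz
    exact zero_ne_one hz
  unfold bc
  have h1 : ∀ j ∈ Finset.range N, (Module.finrank k (eig ρ g (ζ ^ j)) : ℂ) * z ^ j =
      ∑ b ∈ Finset.range (p ^ a), (n b : ℂ) * ((mf b ζ (ζ ^ j) : ℂ) * z ^ j) := by
    intro j _
    rw [h.eigen g ζ N T.ss T.prim.pow_eq_one T.nz (ζ ^ j) (by rw [← pow_mul, mul_comm, pow_mul, T.prim.pow_eq_one, one_pow]),
      Nat.cast_sum, Finset.sum_mul]
    exact Finset.sum_congr rfl fun b _ => by rw [Nat.cast_mul, mul_assoc]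
  rw [Finset.sum_congr rfl h1, Finset.sum_comm]
  refine Finset.sum_congr rfl fun b _ => ?_
  rw [← Finset.mul_sum]
  congr 1
  have h2 : chB k b z = ∑ m ∈ Bf k b, z ^ ((m : ℤ) - ((b - m : ℕ) : ℤ)) :=
    Finset.sum_congr rfl fun m _ => pow_mul_inv z hz0 m (b - m)
  rw [h2, ← count_sum (Bf k b) (fun m => (m : ℤ) - ((b - m : ℕ) : ℤ)) T.prim hN hz]
  refine Finset.sum_congr rfl fun j _ => ?_
  congr 2
  unfold mf
  congr 1
  refine Finset.filter_congr fun m _ => ?_
  rw [pow_mul_inv ζ hζ0]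

include hF in
theorem cf_lt {V : Type v} [AddCommGroup V] [Module k V] [FiniteDimensional k V]
    (ρ : Representation k (SpecialLinearGroup (Fin 2) F) V) : ∀ b ∈ cf (Sy.{u, v, w} ι p) ρ, b < p ^ a := by
  intro b hb
  exact (isMult_cf ι p hF ρ).supp b (by
    show (cf (Sy.{u, v, w} ι p) ρ).count b ≠ 0
    rw [Multiset.count_ne_zero]
    exact hb)

include hF in
theorem bc_cf {V : Type v} [AddCommGroup V] [Module k V] [FiniteDimensional k V]
    (ρ : Representation k (SpecialLinearGroup (Fin 2) F) V) {N : ℕ}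
    {g : SpecialLinearGroup (Fin 2) F} {ζ : k} (T : Tor ι N g ζ) {z : ℂ} (hz : z ^ N = 1) :
    bc ρ g ζ N z = cs k (cf (Sy.{u, v, w} ι p) ρ) z := by
  rw [bc_of_isMult ι p (isMult_cf ι p hF ρ) T hz, cs_eq_sum k _ (cf_lt ι p hF ρ)]

include hF in
/-- **tensor products** -/
theorem cs_tens {V : Type v} [AddCommGroup V] [Module k V] [FiniteDimensional k V]
    {W : Type v} [AddCommGroup W] [Module k W] [FiniteDimensional k W]
    (ρ : Representation k (SpecialLinearGroup (Fin 2) F) V) (σ : Representation k (SpecialLinearGroup (Fin 2) F) W)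
    {z : ℂ} (hz : Zs (p ^ a) z) :
    cs k (cf (Sy.{u, v, w} ι p) (ρ.tprod σ)) z = cs k (cf (Sy.{u, v, w} ι p) ρ) z * cs k (cf (Sy.{u, v, w} ι p) σ) z := by
  obtain ⟨N, g, ζ, T, hz'⟩ := exists_tor ι p hF hz
  rw [← bc_cf ι p hF _ T hz', ← bc_cf ι p hF _ T hz', ← bc_cf ι p hF _ T hz']
  exact bc_tens T.prim T.nz (by rw [← map_pow, T.pow, map_one]) (by rw [← map_pow, T.pow, map_one]) hz'

include hF in
/-- **homomorphisms** -/
theorem cs_hom {V : Type v} [AddCommGroup V] [Module k V] [FiniteDimensional k V]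
    {W : Type v} [AddCommGroup W] [Module k W] [FiniteDimensional k W]
    (ρ : Representation k (SpecialLinearGroup (Fin 2) F) V) (σ : Representation k (SpecialLinearGroup (Fin 2) F) W)
    {z : ℂ} (hz : Zs (p ^ a) z) :
    cs k (cf (Sy.{u, v, w} ι p) (Representation.linHom ρ σ)) z =
      cs k (cf (Sy.{u, v, w} ι p) ρ) z * cs k (cf (Sy.{u, v, w} ι p) σ) z := by
  obtain ⟨N, g, ζ, T, hz'⟩ := exists_tor ι p hF hz
  rw [← bc_cf ι p hF (Representation.linHom ρ σ) T hz',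
    bc_hom T.prim T.nz (by rw [← map_pow, T.pow, map_one]) (by rw [← map_pow, T.pow, map_one]) hz',
    bc_cf ι p hF ρ T (by rw [inv_pow, hz', inv_one]), bc_cf ι p hF σ T hz', cs_symm]

include hF in
/-- **symmetric squares** -/
theorem cs_sq {V : Type v} [AddCommGroup V] [Module k V] [FiniteDimensional k V]
    (ρ : Representation k (SpecialLinearGroup (Fin 2) F) V) {z : ℂ} (hz : Zs (p ^ a) z) :
    cs k (cf (Sy.{u, v, w} ι p) (Sq ρ)) z =
      ((cs k (cf (Sy.{u, v, w} ι p) ρ) z) ^ 2 + cs k (cf (Sy.{u, v, w} ι p) ρ) (z ^ 2)) / 2 := by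
  obtain ⟨N, g, ζ, T, hz'⟩ := exists_tor ι p hF hz
  rw [← bc_cf ι p hF (Sq ρ) T hz', bc_sq T.prim T.nz T.pow hz', bc_cf ι p hF ρ T hz',
    bc_cf ι p hF ρ T (by rw [← pow_mul, mul_comm, pow_mul, hz', one_pow])]

include hF in
/-- **the composition factors from the character** -/
theorem cf_of_cs {V : Type v} [AddCommGroup V] [Module k V] [FiniteDimensional k V]
    {ρ : Representation k (SpecialLinearGroup (Fin 2) F) V} {s : Multiset ℕ} (hs : ∀ b ∈ s, b < p ^ a)
    (h : ∀ z, Zs (p ^ a) z → cs k (cf (Sy.{u, v, w} ι p) ρ) z = cs k s z) : cf (Sy.{u, v, w} ι p) ρ = s :=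
  cs_inj k p (two_le_q p hF) (cf_lt ι p hF ρ) hs h

/-! ## Digits -/

/-- `z ^ (p ^ a) = z ^ ±1` -/
theorem Zs.frob {q : ℕ} (hq : 2 ≤ q) {z : ℂ} (h : Zs q z) : z ^ q = z ∨ z ^ q = z⁻¹ := by
  rcases h with h | h
  · left
    obtain ⟨r, rfl⟩ : ∃ r, q = r + 1 := ⟨q - 1, by omega⟩
    rw [Nat.add_sub_cancel] at h
    rw [pow_succ, h, one_mul]
  · right
    rw [pow_succ] at h
    exact eq_inv_of_mul_eq_one_left h

theorem chi_frob {q : ℕ} (hq : 2 ≤ q) {z : ℂ} (h : Zs q z) (n : ℕ) : chi n (z ^ q) = chi n z := by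
  rcases h.frob hq with h | h
  · rw [h]
  · rw [h, chi_symm]

end Cfsg.Agent.R2.H28.SL2
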