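import Cfsg.Agent.R2.H28.SL2.Ext
import Cfsg.Agent.H179.SLC.Elt

/-!
# The modules `V_b` of `SL(2, q)` and the semisimple elements, every characteristic (helper28)

`finrank_eig_ss` : the multiplicities of the eigenvalues of any semisimple element (split or not) on `V_b`. General
version of `H179/SLC/Gen.lean` (helper179, characteristic 2).
-/

set_option autoImplicit false
set_option linter.unusedSectionVars false

namespace Cfsg.Agent.R2.H28.SL2

open Matrix Cfsg.Agent.H943.SL2Rel Cfsg.Agent.H943.SL2Mod Cfsg.Agent.H943.RepAdd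
open Cfsg.Agent.H179.SLC (IsSS lin Sp)

section Span

variable {k : Type*} [Field k] (p : ℕ) [Fact p.Prime] [CharP k p]

theorem lucas (b m : ℕ) : ((b.choose m : ℕ) : k) = (((b % p).choose (m % p) * (b / p).choose (m / p) : ℕ) : k) := by
  rw [CharP.cast_eq_iff_mod_eq k p]
  exact Choose.choose_modEq_choose_mod_mul_choose_div_nat

/-- `C(p b + r, p m + s)` -/
theorem ch_mul (b m : ℕ) {r s : ℕ} (hr : r < p) (hs : s < p) :
    (((p * b + r).choose (p * m + s) : ℕ) : k) = (r.choose s : ℕ) * (b.choose m : ℕ) := by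
  have hp : 0 < p := (Fact.out : p.Prime).pos
  rw [lucas p, Nat.mul_add_mod, Nat.mul_add_mod, Nat.mod_eq_of_lt hr, Nat.mod_eq_of_lt hs,
    Nat.mul_add_div hp, Nat.mul_add_div hp, Nat.div_eq_of_lt hr, Nat.div_eq_of_lt hs, add_zero, add_zero,
    Nat.cast_mul]

variable {X : Type*} {l₁ l₂ : X → k}

theorem pow_mem_Sp {b : ℕ} {f : X → k} (hf : f ∈ Sp l₁ l₂ b) : f ^ p ∈ Sp l₁ l₂ (p * b) := by
  have hp : 0 < p := (Fact.out : p.Prime).pos
  unfold Sp at hf
  induction hf using Submodule.span_induction with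
  | mem x hx =>
    obtain ⟨j, hj, rfl⟩ := hx
    have h0 := ch_mul (k := k) p b j hp hp
    rw [add_zero, add_zero, Nat.choose_self, Nat.cast_one, one_mul] at h0
    refine Submodule.subset_span ⟨p * j, ⟨Nat.mul_le_mul_left p hj.1, by rw [h0]; exact hj.2⟩, ?_⟩
    funext z
    show l₁ z ^ (p * j) * l₂ z ^ (p * b - p * j) = (l₁ z ^ j * l₂ z ^ (b - j)) ^ p
    rw [mul_pow, ← pow_mul, ← pow_mul, ← Nat.mul_sub, mul_comm p j, mul_comm p (b - j)]
  | zero => rw [zero_pow hp.ne']; exact Submodule.zero_mem _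
  | add x y _ _ hx hy =>
    have h1 : (x + y) ^ p = x ^ p + y ^ p := by
      funext z
      exact add_pow_char (R := k) (p := p) (x z) (y z)
    rw [h1]
    exact Submodule.add_mem _ hx hy
  | smul a x _ hx =>
    rw [smul_pow]
    exact Submodule.smul_mem _ _ hx

theorem mul_mem_Sp {b r : ℕ} (hr : r < p) {f g : X → k} (hf : f ∈ Sp l₁ l₂ (p * b)) (hg : g ∈ Sp l₁ l₂ r) :
    f * g ∈ Sp l₁ l₂ (p * b + r) := by
  have hp : 0 < p := (Fact.out : p.Prime).pos
  unfold Sp at hf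
  induction hf using Submodule.span_induction with
  | mem x hx =>
    obtain ⟨j, hj, rfl⟩ := hx
    unfold Sp at hg
    induction hg using Submodule.span_induction with
    | mem y hy =>
      obtain ⟨i, hi, rfl⟩ := hy
      obtain ⟨j', rfl⟩ : ∃ j', j = p * j' := by
        by_contra hc
        apply hj.2
        have h1 : 0 < j % p := by
          rw [Nat.pos_iff_ne_zero]
          intro h2
          exact hc ⟨j / p, by rw [Nat.mul_div_cancel' (Nat.dvd_of_mod_eq_zero h2)]⟩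
        rw [lucas p, Nat.mul_mod_right, Nat.choose_eq_zero_of_lt h1, zero_mul, Nat.cast_zero]
      have hj2 := hj.2
      have h0 := ch_mul (k := k) p b j' hp hp
      rw [add_zero, add_zero, Nat.choose_self, Nat.cast_one, one_mul] at h0
      rw [h0] at hj2
      have hi1 := hi.1
      have hj1 := hj.1
      refine Submodule.subset_span ⟨p * j' + i, ⟨by omega, ?_⟩, ?_⟩
      · rw [ch_mul p b j' hr (by omega)]
        exact mul_ne_zero hi.2 hj2
      · funext z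
        show l₁ z ^ (p * j' + i) * l₂ z ^ (p * b + r - (p * j' + i)) =
          (l₁ z ^ (p * j') * l₂ z ^ (p * b - p * j')) * (l₁ z ^ i * l₂ z ^ (r - i))
        rw [show p * b + r - (p * j' + i) = (p * b - p * j') + (r - i) by omega, pow_add, pow_add]
        ring
    | zero => rw [mul_zero]; exact Submodule.zero_mem _
    | add x y _ _ hx hy => rw [mul_add]; exact Submodule.add_mem _ hx hy
    | smul a x _ hx => rw [mul_smul_comm]; exact Submodule.smul_mem _ _ hx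
  | zero => rw [zero_mul]; exact Submodule.zero_mem _
  | add x y _ _ hx hy => rw [add_mul]; exact Submodule.add_mem _ hx hy
  | smul a x _ hx => rw [smul_mul_assoc]; exact Submodule.smul_mem _ _ hx

/-- all the monomials -/
def Sa (l₁ l₂ : X → k) (b : ℕ) : Submodule k (X → k) :=
  Submodule.span k ((fun j : ℕ => fun z => l₁ z ^ j * l₂ z ^ (b - j)) '' {m | m ≤ b})

theorem Sa_eq {r : ℕ} (hr : r < p) : Sa l₁ l₂ r = Sp l₁ l₂ r := by
  unfold Sa Sp
  congr 2
  ext m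
  constructor
  · intro hm
    refine ⟨hm, ?_⟩
    rw [Ne, CharP.cast_eq_zero_iff k p, not_dvd_choose_lt Fact.out hr]
    exact hm
  · intro hm
    exact hm.1

theorem mul_mem_Sa {b : ℕ} {f : X → k} (hf : f ∈ Sa l₁ l₂ b) (a₁ a₂ : k) :
    f * (a₁ • l₁ + a₂ • l₂) ∈ Sa l₁ l₂ (b + 1) := by
  unfold Sa at hf
  induction hf using Submodule.span_induction with
  | mem x hx =>
    obtain ⟨j, hj, rfl⟩ := hx
    have hj' : j ≤ b := hj
    rw [mul_add, mul_smul_comm, mul_smul_comm]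
    refine Submodule.add_mem _ (Submodule.smul_mem _ _ (Submodule.subset_span ⟨j + 1, ?_, ?_⟩))
      (Submodule.smul_mem _ _ (Submodule.subset_span ⟨j, ?_, ?_⟩))
    · show j + 1 ≤ b + 1
      omega
    · funext z
      show l₁ z ^ (j + 1) * l₂ z ^ (b + 1 - (j + 1)) = (l₁ z ^ j * l₂ z ^ (b - j)) * l₁ z
      rw [show b + 1 - (j + 1) = b - j by omega, pow_succ]
      ring
    · show j ≤ b + 1
      omega
    · funext z
      show l₁ z ^ j * l₂ z ^ (b + 1 - j) = (l₁ z ^ j * l₂ z ^ (b - j)) * l₂ z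
      rw [show b + 1 - j = b - j + 1 by omega, pow_succ]
      ring
  | zero => rw [zero_mul]; exact Submodule.zero_mem _
  | add x y _ _ hx hy => rw [add_mul]; exact Submodule.add_mem _ hx hy
  | smul a x _ hx => rw [smul_mul_assoc]; exact Submodule.smul_mem _ _ hx

theorem mono_mem_Sa {x y : X → k} {a₁ a₂ c₁ c₂ : k} (hx : x = a₁ • l₁ + a₂ • l₂)
    (hy : y = c₁ • l₁ + c₂ • l₂) (i j : ℕ) : x ^ i * y ^ j ∈ Sa l₁ l₂ (i + j) := by
  have h0 : (1 : X → k) ∈ Sa l₁ l₂ 0 := by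
    refine Submodule.subset_span ⟨0, le_refl 0, ?_⟩
    funext z
    show l₁ z ^ 0 * l₂ z ^ (0 - 0) = 1
    simp
  have h1 : ∀ j : ℕ, y ^ j ∈ Sa l₁ l₂ j := by
    intro j
    induction j with
    | zero => rw [pow_zero]; exact h0
    | succ j ih =>
      have := mul_mem_Sa ih c₁ c₂
      rwa [← hy, ← pow_succ] at this
  induction i with
  | zero => rw [pow_zero, one_mul, zero_add]; exact h1 j
  | succ i ih =>
    have := mul_mem_Sa ih a₁ a₂
    rw [← hx] at this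
    have h2 : x ^ i * y ^ j * x = x ^ (i + 1) * y ^ j := by rw [pow_succ]; ring
    rwa [h2, show i + j + 1 = i + 1 + j by omega] at this

include p in
/-- change of the linear functions -/
theorem mon_mem_Sp {x y : X → k} {a₁ a₂ c₁ c₂ : k} (hx : x = a₁ • l₁ + a₂ • l₂)
    (hy : y = c₁ • l₁ + c₂ • l₂) (b : ℕ) : ∀ m ∈ Bb k b, x ^ m * y ^ (b - m) ∈ Sp l₁ l₂ b := by
  have hp : p.Prime := Fact.out
  induction b using Nat.strong_induction_on with
  | _ b ih =>
    intro m hm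
    rcases Nat.eq_zero_or_pos b with rfl | hb0
    · have h0 : m = 0 := Nat.le_zero.1 hm.1
      subst h0
      have h1 := mono_mem_Sa hx hy 0 0
      rwa [Sa_eq p hp.pos] at h1
    have hbd := Nat.div_add_mod b p
    have hmd := Nat.div_add_mod m p
    have hbr := Nat.mod_lt b hp.pos
    have hmr := Nat.mod_lt m hp.pos
    have h1 := hm.2
    rw [← hbd, ← hmd, ch_mul p _ _ hbr hmr] at h1
    have h2 := left_ne_zero_of_mul h1
    have h3 := right_ne_zero_of_mul h1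
    have h4 : m % p ≤ b % p := by
      by_contra hc
      rw [Nat.choose_eq_zero_of_lt (by omega), Nat.cast_zero] at h2
      exact h2 rfl
    have h5 : m / p ≤ b / p := by
      by_contra hc
      rw [Nat.choose_eq_zero_of_lt (by omega), Nat.cast_zero] at h3
      exact h3 rfl
    have h6 := pow_mem_Sp p (ih (b / p) (Nat.div_lt_self hb0 hp.one_lt) (m / p) ⟨h5, h3⟩)
    have h7 := mono_mem_Sa hx hy (m % p) (b % p - m % p)
    rw [show m % p + (b % p - m % p) = b % p by omega, Sa_eq p hbr] at h7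
    have h8 := mul_mem_Sp p hbr h6 h7
    rw [hbd] at h8
    convert h8 using 1
    have h9 : p * (m / p) ≤ p * (b / p) := Nat.mul_le_mul_left p h5
    have h10 : b - m = p * (b / p - m / p) + (b % p - m % p) := by
      rw [Nat.mul_sub]
      omega
    rw [h10, mul_pow, ← pow_mul, ← pow_mul, mul_comm _ p, mul_comm _ p, pow_add]
    have h11 : x ^ m = x ^ (p * (m / p)) * x ^ (m % p) := by
      rw [← pow_add, hmd]
    rw [h11]
    ring

end Span

variable {k : Type*} [Field k] {F : Type*} [Field F] [Fintype F] [DecidableEq F] (ι : F →+* k)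

theorem fRep_lin {g : SpecialLinearGroup (Fin 2) F} {v : Fin 2 → k} {ζ : k} (h : (g.1.map ι).mulVec v = ζ • v) :
    fRep k F g (lin ι v) = ζ • lin ι v := by
  have h0 : ι (g.1 0 0) * v 0 + ι (g.1 0 1) * v 1 = ζ * v 0 := by
    have := congrFun h 0
    simpa [Matrix.mulVec, dotProduct, Fin.sum_univ_two] using this
  have h1 : ι (g.1 1 0) * v 0 + ι (g.1 1 1) * v 1 = ζ * v 1 := by
    have := congrFun h 1
    simpa [Matrix.mulVec, dotProduct, Fin.sum_univ_two] using this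
  funext z
  show ι (z.1 * g.1 0 0 + z.2 * g.1 1 0) * v 0 + ι (z.1 * g.1 0 1 + z.2 * g.1 1 1) * v 1 =
    ζ * (ι z.1 * v 0 + ι z.2 * v 1)
  rw [map_add, map_add, map_mul, map_mul, map_mul, map_mul]
  linear_combination ι z.1 * h0 + ι z.2 * h1

theorem fRep_mono {g : SpecialLinearGroup (Fin 2) F} {l₁ l₂ : F × F → k} {ζ ξ : k} (h1 : fRep k F g l₁ = ζ • l₁)
    (h2 : fRep k F g l₂ = ξ • l₂) (i j : ℕ) :
    fRep k F g (fun z => l₁ z ^ i * l₂ z ^ j) = (ζ ^ i * ξ ^ j) • fun z => l₁ z ^ i * l₂ z ^ j := by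
  funext z
  have e1 := congrFun h1 z
  have e2 := congrFun h2 z
  have e1' : l₁ (z.1 * g.1 0 0 + z.2 * g.1 1 0, z.1 * g.1 0 1 + z.2 * g.1 1 1) = ζ * l₁ z := e1
  have e2' : l₂ (z.1 * g.1 0 0 + z.2 * g.1 1 0, z.1 * g.1 0 1 + z.2 * g.1 1 1) = ξ * l₂ z := e2
  show l₁ (z.1 * g.1 0 0 + z.2 * g.1 1 0, z.1 * g.1 0 1 + z.2 * g.1 1 1) ^ i *
    l₂ (z.1 * g.1 0 0 + z.2 * g.1 1 0, z.1 * g.1 0 1 + z.2 * g.1 1 1) ^ j = (ζ ^ i * ξ ^ j) * (l₁ z ^ i * l₂ z ^ j)
  rw [e1', e2']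
  ring

variable [DecidableEq k] (p : ℕ) [Fact p.Prime] [CharP k p] [CharP F p]

include p in
theorem Vb_le_Sp {v₁ v₂ : Fin 2 → k} (hD : v₁ 0 * v₂ 1 - v₁ 1 * v₂ 0 ≠ 0) (b : ℕ) :
    Vb ι b ≤ Sp (lin ι v₁) (lin ι v₂) b := by
  refine (Vb_le ι b).trans (Submodule.span_le.2 ?_)
  rintro _ ⟨m, hm, rfl⟩
  refine mon_mem_Sp p (l₁ := lin ι v₁) (l₂ := lin ι v₂) (x := fun z => ι z.1) (y := fun z => ι z.2)
    (a₁ := v₂ 1 / (v₁ 0 * v₂ 1 - v₁ 1 * v₂ 0)) (a₂ := -v₁ 1 / (v₁ 0 * v₂ 1 - v₁ 1 * v₂ 0))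
    (c₁ := -v₂ 0 / (v₁ 0 * v₂ 1 - v₁ 1 * v₂ 0)) (c₂ := v₁ 0 / (v₁ 0 * v₂ 1 - v₁ 1 * v₂ 0)) ?_ ?_ b m hm
  · funext z
    show ι z.1 = v₂ 1 / (v₁ 0 * v₂ 1 - v₁ 1 * v₂ 0) * (ι z.1 * v₁ 0 + ι z.2 * v₁ 1) +
      -v₁ 1 / (v₁ 0 * v₂ 1 - v₁ 1 * v₂ 0) * (ι z.1 * v₂ 0 + ι z.2 * v₂ 1)
    rw [div_mul_eq_mul_div, div_mul_eq_mul_div, ← add_div, eq_div_iff hD]
    ring
  · funext z
    show ι z.2 = -v₂ 0 / (v₁ 0 * v₂ 1 - v₁ 1 * v₂ 0) * (ι z.1 * v₁ 0 + ι z.2 * v₁ 1) +
      v₁ 0 / (v₁ 0 * v₂ 1 - v₁ 1 * v₂ 0) * (ι z.1 * v₂ 0 + ι z.2 * v₂ 1)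
    rw [div_mul_eq_mul_div, div_mul_eq_mul_div, ← add_div, eq_div_iff hD]
    ring

/-- **the multiplicities of the eigenvalues of a semisimple element on `V_b`** -/
theorem finrank_eig_ss {b : ℕ} (hb : b ≤ Fintype.card F - 1) {g : SpecialLinearGroup (Fin 2) F} {ζ : k}
    (hg : IsSS ι g ζ) (ν : k) :
    Module.finrank k (eig (RB ι p hb) g ν) = ((Bf k b).filter fun m => ζ ^ m * ζ⁻¹ ^ (b - m) = ν).card := by
  obtain ⟨v₁, v₂, h1, h2, hD⟩ := hg
  have hfr := Cfsg.Agent.H179.SLC.finrank_Vb ι p ι.injective (neg_one_pow_Q ι) hb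
  let w : Bf k b → F × F → k := fun m z => lin ι v₁ z ^ (m : ℕ) * lin ι v₂ z ^ (b - m)
  let f : (Bf k b → k) →ₗ[k] (F × F → k) := Fintype.linearCombination k w
  have hf : ∀ x, f x = ∑ m : Bf k b, x m • w m := fun x => rfl
  have hle : Vb ι b ≤ LinearMap.range f := by
    refine (Vb_le_Sp ι p hD b).trans (Submodule.span_le.2 ?_)
    rintro _ ⟨m, hm, rfl⟩
    refine ⟨Pi.single ⟨m, mem_Bf.2 hm⟩ 1, ?_⟩
    rw [hf, Finset.sum_eq_single (⟨m, mem_Bf.2 hm⟩ : Bf k b)]
    · rw [Pi.single_eq_same, one_smul]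
    · intro m' _ hne
      rw [Pi.single_eq_of_ne hne, zero_smul]
    · intro h0
      exact absurd (Finset.mem_univ _) h0
  have hrk : Module.finrank k (LinearMap.range f) ≤ Module.finrank k (Vb ι b) := by
    rw [hfr]
    refine (LinearMap.finrank_range_le f).trans ?_
    rw [Module.finrank_fintype_fun_eq_card, Fintype.card_coe]
  have heq : Vb ι b = LinearMap.range f := Submodule.eq_of_le_of_finrank_le hle hrk
  have hinj : Function.Injective f := by
    rw [← LinearMap.ker_eq_bot, ← Submodule.finrank_eq_zero]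
    have h3 := LinearMap.finrank_range_add_finrank_ker f
    rw [← heq, hfr, Module.finrank_fintype_fun_eq_card, Fintype.card_coe] at h3
    omega
  let e : (Bf k b → k) ≃ₗ[k] Vb ι b := (LinearEquiv.ofInjective f hinj).trans (LinearEquiv.ofEq _ _ heq.symm)
  have he : ∀ x, ((e x : Vb ι b) : F × F → k) = ∑ m : Bf k b, x m • w m := fun x => rfl
  have h3 := finrank_diag e (RB ι p hb g) (fun m => ζ ^ (m : ℕ) * ζ⁻¹ ^ (b - m)) (by
    intro x
    apply Subtype.ext
    rw [he]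
    show fRep k F g ((e x : Vb ι b) : F × F → k) = _
    rw [he, map_sum]
    refine Finset.sum_congr rfl fun m _ => ?_
    rw [map_smul]
    show x m • fRep k F g (fun z => lin ι v₁ z ^ (m : ℕ) * lin ι v₂ z ^ (b - m)) = _
    rw [fRep_mono (fRep_lin ι h1) (fRep_lin ι h2), smul_smul, mul_comm (x m)]) ν
  unfold eig
  rw [h3, Fintype.card_subtype]
  rw [← Finset.card_map (Function.Embedding.subtype fun m => m ∈ Bf k b)]
  congr 1
  ext m
  simp only [Finset.mem_map, Finset.mem_filter, Finset.mem_univ, true_and, Function.Embedding.coe_subtype]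
  constructor
  · rintro ⟨m', h2, rfl⟩
    exact ⟨m'.2, h2⟩
  · rintro ⟨h2, h3⟩
    exact ⟨⟨m, h2⟩, h3, rfl⟩

end Cfsg.Agent.R2.H28.SL2
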