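import Cfsg.Agent.R2.H28.SL2.HOne
import Cfsg.Agent.R2.H28.SL2.Gen

/-!
# Composition multiplicities for `SL(2, q)` in the defining characteristic (helper28)

`exists_isMult` : every finite-dimensional module over an algebraically closed field has a multiplicity function `n`:
dimension, multiplicities of the eigenvalues of all semisimple elements, `Z¹`; `IsMult.pressure` :
`n 0 ≤ dim V ^ S + ∑ n b * hb p a b`. General version of `H179/SLC/Mult.lean` (helper179, `q = 64`).
-/

set_option autoImplicit false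
set_option linter.unusedSectionVars false

namespace Cfsg.Agent.R2.H28.SL2

open Matrix Cfsg.Agent.H943.SL2Rel Cfsg.Agent.H943.SL2Mod Cfsg.Agent.H943.RepAdd
open Cfsg.Agent.H179.SLC (IsSS Z1 fx finrank_Z1_le finrank_Z1_iso finrank_le mem_fx)

variable {k : Type*} [Field k] [DecidableEq k] {F : Type*} [Field F] [Fintype F] [DecidableEq F] (ι : F →+* k)
variable (p : ℕ) [Fact p.Prime] [CharP k p] [CharP F p]

/-- the multiplicity of the eigenvalue `ν` of a semisimple element with the eigenvalue `ζ` on `V_b` -/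
def mf (b : ℕ) (ζ ν : k) : ℕ := ((Bf k b).filter fun m => ζ ^ m * ζ⁻¹ ^ (b - m) = ν).card

/-- `n` is a multiplicity function of the module -/
structure IsMult (a : ℕ) {V : Type*} [AddCommGroup V] [Module k V]
    (ρ : Representation k (SpecialLinearGroup (Fin 2) F) V) (n : ℕ → ℕ) : Prop where
  dim : Module.finrank k V = ∑ b ∈ Finset.range (p ^ a), n b * (Bf k b).card
  eigen : ∀ (g : SpecialLinearGroup (Fin 2) F) (ζ : k) (N : ℕ), IsSS ι g ζ → ζ ^ N = 1 → (N : k) ≠ 0 → ∀ ν : k, ν ^ N = 1 →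
    Module.finrank k (eig ρ g ν) = ∑ b ∈ Finset.range (p ^ a), n b * mf b ζ ν
  z1 : Module.finrank k (Z1 ρ) + n 0 ≤ ∑ b ∈ Finset.range (p ^ a), n b * ((Bf k b).card + hb p a b)
  supp : ∀ b, n b ≠ 0 → b < p ^ a

variable {a : ℕ}

theorem IsMult.of_iso {V V₂ : Type*} [AddCommGroup V] [Module k V] [AddCommGroup V₂] [Module k V₂]
    {ρ : Representation k (SpecialLinearGroup (Fin 2) F) V} {ρ₂ : Representation k (SpecialLinearGroup (Fin 2) F) V₂}
    {n : ℕ → ℕ} (h : IsMult ι p a ρ n) (φ : V ≃ₗ[k] V₂) (hφ : ∀ g x, φ (ρ g x) = ρ₂ g (φ x)) : IsMult ι p a ρ₂ n where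
  dim := by rw [← φ.finrank_eq, h.dim]
  eigen := fun g ζ N hg h1 h2 ν hν => by rw [← finrank_eig_iso ρ ρ₂ φ hφ, h.eigen g ζ N hg h1 h2 ν hν]
  z1 := by rw [← finrank_Z1_iso ρ ρ₂ φ hφ]; exact h.z1
  supp := h.supp

theorem pow_eq_one_of_isSS {g : SpecialLinearGroup (Fin 2) F} {ζ : k} (hg : IsSS ι g ζ)
    {N : ℕ} (h : ζ ^ N = 1) : g ^ N = 1 := by
  have h1 := hg.pow ι N
  rw [h] at h1
  exact h1.eq_one ι ι.injective

/-- additivity -/
theorem IsMult.add {V : Type*} [AddCommGroup V] [Module k V] [FiniteDimensional k V]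
    {ρ : Representation k (SpecialLinearGroup (Fin 2) F) V} {W : Submodule k V} {hW : ∀ g, ∀ x ∈ W, ρ g x ∈ W}
    {n₁ n₂ : ℕ → ℕ} (h1 : IsMult ι p a (subRep ρ W hW) n₁) (h2 : IsMult ι p a (quotRep ρ W hW) n₂) :
    IsMult ι p a ρ (n₁ + n₂) where
  dim := by
    rw [← Submodule.finrank_quotient_add_finrank W, h1.dim, h2.dim, ← Finset.sum_add_distrib]
    refine Finset.sum_congr rfl fun b _ => ?_
    rw [Pi.add_apply]
    ring
  eigen := fun g ζ N hg hζ hN ν hν => by
    have hν0 : ν ≠ 0 := by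
      rintro rfl
      by_cases hN0 : N = 0
      · exact hN (by rw [hN0, Nat.cast_zero])
      · rw [zero_pow hN0] at hν
        exact zero_ne_one hν
    rw [finrank_eig ρ W hW (g := g) (n := N) (by rw [← map_pow, pow_eq_one_of_isSS ι hg hζ, map_one]) hN hν hν0,
      h1.eigen g ζ N hg hζ hN ν hν, h2.eigen g ζ N hg hζ hN ν hν, ← Finset.sum_add_distrib]
    refine Finset.sum_congr rfl fun b _ => ?_
    rw [Pi.add_apply]
    ring
  z1 := by
    have e1 := finrank_Z1_le ρ W hW
    have e2 := h1.z1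
    have e3 := h2.z1
    have e4 : ∑ b ∈ Finset.range (p ^ a), (n₁ + n₂) b * ((Bf k b).card + hb p a b) =
        ∑ b ∈ Finset.range (p ^ a), n₁ b * ((Bf k b).card + hb p a b) +
        ∑ b ∈ Finset.range (p ^ a), n₂ b * ((Bf k b).card + hb p a b) := by
      rw [← Finset.sum_add_distrib]
      refine Finset.sum_congr rfl fun b _ => ?_
      rw [Pi.add_apply]
      ring
    rw [e4, Pi.add_apply]
    omega
  supp := fun b hb => by
    by_contra hc
    have e1 : n₁ b = 0 := by
      by_contra h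
      exact hc (h1.supp b h)
    have e2 : n₂ b = 0 := by
      by_contra h
      exact hc (h2.supp b h)
    exact hb (by rw [Pi.add_apply, e1, e2])

theorem sum_single {q b : ℕ} (hb : b < q) (f : ℕ → ℕ) :
    ∑ c ∈ Finset.range q, (Pi.single b 1 : ℕ → ℕ) c * f c = f b := by
  rw [Finset.sum_eq_single b]
  · rw [Pi.single_eq_same, one_mul]
  · intro c _ hc
    rw [Pi.single_eq_of_ne hc, zero_mul]
  · intro h
    exact absurd (Finset.mem_range.2 hb) h

theorem rb_zero {b : ℕ} (hb0 : b = 0) (hb : b ≤ Fintype.card F - 1) (g : SpecialLinearGroup (Fin 2) F) (x : Vb ι b) :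
    RB ι p hb g x = x := by
  subst hb0
  apply Subtype.ext
  show fRep k F g (x : F × F → k) = x
  obtain ⟨c, hc⟩ := mem_span_mon ι (Vb_le ι 0 x.2)
  rw [hc, map_sum]
  refine Finset.sum_congr rfl fun m hm => ?_
  rw [map_smul]
  congr 1
  have hm0 : m = 0 := by
    rw [Finset.mem_range] at hm
    omega
  subst hm0
  funext z
  show ι _ ^ 0 * ι _ ^ (0 - 0) = ι _ ^ 0 * ι _ ^ (0 - 0)
  simp

theorem isMult_rb (hF : Fintype.card F = p ^ a) {b : ℕ} (hb' : b ≤ Fintype.card F - 1)
    {V : Type*} [AddCommGroup V] [Module k V] [FiniteDimensional k V]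
    (ρ : Representation k (SpecialLinearGroup (Fin 2) F) V) (ψ : Vb ι b ≃ₗ[k] V)
    (hψ : ∀ g x, ψ (RB ι p hb' g x) = ρ g (ψ x)) :
    IsMult ι p a ρ (Pi.single b 1) := by
  have hq := one_lt (F := F)
  have hbq : b < p ^ a := by omega
  have hd : Module.finrank k V = (Bf k b).card := by
    rw [← ψ.finrank_eq, Cfsg.Agent.H179.SLC.finrank_Vb ι p ι.injective (neg_one_pow_Q ι) hb']
  constructor
  · rw [sum_single hbq, hd]
  · intro g ζ N hg hζ hN ν hν
    rw [sum_single hbq, ← finrank_eig_iso (RB ι p hb') ρ ψ hψ, finrank_eig_ss ι p hb' hg]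
    rfl
  · rw [sum_single hbq]
    have h1 := finrank_Z1_RB ι p hF hb' ρ ψ hψ
    rw [hd] at h1
    by_cases hb0 : b = 0
    · have h2 : fx ρ = ⊤ := by
        rw [eq_top_iff]
        intro x _
        rw [mem_fx]
        intro g
        obtain ⟨y, rfl⟩ := ψ.surjective x
        rw [← hψ, rb_zero ι p hb0]
      rw [h2, finrank_top, hd] at h1
      have h3 : (Bf k b).card = 1 := by
        rw [hb0]
        have : Bf k 0 = {0} := by
          ext m
          rw [mem_Bf, Finset.mem_singleton]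
          unfold Bb
          rw [Set.mem_ofPred_eq]
          constructor
          · intro h
            omega
          · rintro rfl
            exact ⟨le_rfl, by rw [Nat.choose_self, Nat.cast_one]; exact one_ne_zero⟩
        rw [this, Finset.card_singleton]
      have h4 : (Pi.single b 1 : ℕ → ℕ) 0 = 1 := by rw [hb0, Pi.single_eq_same]
      rw [h4]
      omega
    · have h4 : (Pi.single b 1 : ℕ → ℕ) 0 = 0 := Pi.single_eq_of_ne (Ne.symm hb0) 1
      rw [h4]
      omega
  · intro c hc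
    by_cases hcb : c = b
    · rw [hcb]
      exact hbq
    · exact absurd (Pi.single_eq_of_ne hcb 1) hc

theorem isMult_zero {V : Type*} [AddCommGroup V] [Module k V] [Subsingleton V]
    (ρ : Representation k (SpecialLinearGroup (Fin 2) F) V) : IsMult ι p a ρ 0 where
  dim := by rw [Module.finrank_zero_of_subsingleton]; simp
  eigen := fun g ζ N hg hζ hN ν hν => by rw [Module.finrank_zero_of_subsingleton]; simp
  z1 := by
    have : Subsingleton (Z1 ρ) := ⟨fun x y => Subtype.ext (funext fun g => Subsingleton.elim _ _)⟩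
    rw [Module.finrank_zero_of_subsingleton]
    exact Nat.zero_le _
  supp := fun b hb => absurd rfl hb

/-- **the pressure inequality** -/
theorem IsMult.pressure {V : Type*} [AddCommGroup V] [Module k V] [FiniteDimensional k V]
    {ρ : Representation k (SpecialLinearGroup (Fin 2) F) V} {n : ℕ → ℕ} (h : IsMult ι p a ρ n) :
    n 0 ≤ Module.finrank k (fx ρ) + ∑ b ∈ Finset.range (p ^ a), n b * hb p a b := by
  have h1 := finrank_le ρ
  have h2 := h.z1
  rw [h.dim] at h1
  have h3 : ∑ b ∈ Finset.range (p ^ a), n b * ((Bf k b).card + hb p a b) =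
      ∑ b ∈ Finset.range (p ^ a), n b * (Bf k b).card + ∑ b ∈ Finset.range (p ^ a), n b * hb p a b := by
    rw [← Finset.sum_add_distrib]
    exact Finset.sum_congr rfl fun b _ => Nat.mul_add _ _ _
  omega

/-- the centre -/
theorem IsMult.even {V : Type*} [AddCommGroup V] [Module k V] [FiniteDimensional k V]
    {ρ : Representation k (SpecialLinearGroup (Fin 2) F) V} {n : ℕ → ℕ} (H : IsMult ι p a ρ n) (hp2 : p ≠ 2)
    (hc : ρ (h (-1)) = 1) : ∀ b, n b ≠ 0 → Even b := by
  intro b hb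
  by_contra hcon
  rw [Nat.not_even_iff_odd] at hcon
  have h2 : (2 : k) ≠ 0 := by
    intro h0
    have h1 : ((2 : ℕ) : k) = 0 := by exact_mod_cast h0
    rw [CharP.cast_eq_zero_iff k p] at h1
    exact hp2 ((Nat.prime_dvd_prime_iff_eq Fact.out Nat.prime_two).1 h1)
  have hss : IsSS ι (h (-1)) (-1 : k) := by
    have := Cfsg.Agent.H179.SLC.isSS_h ι (-1 : Fˣ)
    rwa [Units.val_neg, Units.val_one, map_neg, map_one] at this
  have h3 := H.eigen (Cfsg.Agent.H943.SL2Rel.h (-1)) (-1) 2 hss (by ring) (by exact_mod_cast h2) (-1) (by ring)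
  have h4 : Module.finrank k (eig ρ (Cfsg.Agent.H943.SL2Rel.h (-1)) (-1 : k)) = 0 := by
    rw [Submodule.finrank_eq_zero, eq_bot_iff]
    intro x hx
    rw [mem_eig, hc, Module.End.one_apply, neg_one_smul] at hx
    have h5 : (2 : k) • x = 0 := by
      rw [two_smul]
      nth_rw 2 [hx]
      exact add_neg_cancel x
    exact (Submodule.mem_bot k).2 ((smul_eq_zero.1 h5).resolve_left h2)
  rw [h4] at h3
  have h5 := (Finset.sum_eq_zero_iff.1 h3.symm) b (Finset.mem_range.2 (H.supp b hb))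
  have h6 : mf b (-1 : k) (-1) ≠ 0 := by
    unfold mf
    rw [Ne, Finset.card_eq_zero, ← Ne, ← Finset.nonempty_iff_ne_empty]
    refine ⟨b, Finset.mem_filter.2 ⟨mem_Bf.2 ⟨le_rfl, by rw [Nat.choose_self, Nat.cast_one]; exact one_ne_zero⟩, ?_⟩⟩
    rw [Nat.sub_self, pow_zero, mul_one, hcon.neg_one_pow]
  exact (mul_ne_zero hb h6) h5

variable [IsAlgClosed k]

universe v

theorem irr_of_min {V : Type v} [AddCommGroup V] [Module k V] (ρ : Representation k (SpecialLinearGroup (Fin 2) F) V)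
    {W : Submodule k V} (hW : ∀ g, ∀ x ∈ W, ρ g x ∈ W) (hW0 : W ≠ ⊥)
    (hmin : ∀ W' ≤ W, (∀ g, ∀ x ∈ W', ρ g x ∈ W') → W' = ⊥ ∨ W' = W) : Irr (subRep ρ W hW) := by
  refine ⟨Submodule.nontrivial_iff_ne_bot.2 hW0, fun W' hW' => ?_⟩
  rcases hmin (W'.map W.subtype) (Submodule.map_subtype_le _ _) (by
    rintro g _ ⟨x, hx, rfl⟩
    exact ⟨_, hW' g x hx, rfl⟩) with h1 | h1
  · left
    rw [eq_bot_iff]
    intro x hx
    have h2 : (x : V) ∈ W'.map W.subtype := ⟨x, hx, rfl⟩
    rw [h1] at h2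
    exact (Submodule.mem_bot k).2 (Subtype.ext ((Submodule.mem_bot k).1 h2))
  · right
    rw [eq_top_iff]
    intro x _
    have h2 : (x : V) ∈ W'.map W.subtype := by rw [h1]; exact x.2
    obtain ⟨y, hy, e⟩ := h2
    rwa [← Subtype.ext (p := fun z => z ∈ W) e]

/-- **every module has a multiplicity function** -/
theorem exists_isMult (hF : Fintype.card F = p ^ a) {V : Type v} [AddCommGroup V] [Module k V]
    [FiniteDimensional k V] (ρ : Representation k (SpecialLinearGroup (Fin 2) F) V) :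
    ∃ n : ℕ → ℕ, IsMult ι p a ρ n := by
  have key : ∀ (d : ℕ) (V : Type v) [AddCommGroup V] [Module k V] [FiniteDimensional k V]
      (ρ : Representation k (SpecialLinearGroup (Fin 2) F) V) (_ : Module.finrank k V = d),
      ∃ n : ℕ → ℕ, IsMult ι p a ρ n := by
    intro d
    induction d using Nat.strong_induction_on with
    | _ d ih =>
      intro V _ _ _ ρ hd
      rcases subsingleton_or_nontrivial V with hV | hV
      · exact ⟨0, isMult_zero ι p ρ⟩
      · obtain ⟨W, hW, hW0, hmin⟩ := exists_irr_sub ρ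
        have hIW : Irr (subRep ρ W hW) := irr_of_min ρ hW hW0 hmin
        have hpos : 0 < Module.finrank k W := by
          have := hIW.1
          exact Module.finrank_pos
        have hadd := Submodule.finrank_quotient_add_finrank W
        obtain ⟨n₂, h2⟩ := ih (Module.finrank k (V ⧸ W)) (by omega) (V ⧸ W) (quotRep ρ W hW) rfl
        obtain ⟨b, hb, φ, hφ⟩ := Cfsg.Agent.H179.SLC.irr_iso ι p (subRep ρ W hW) ι.injective (neg_one_pow_Q ι) hIW
        exact ⟨_, (isMult_rb ι p hF hb (subRep ρ W hW) φ hφ).add ι p h2⟩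
  exact key _ V ρ rfl

/-- the submodule version -/
theorem exists_isMult_sub (hF : Fintype.card F = p ^ a) {V : Type v} [AddCommGroup V] [Module k V]
    [FiniteDimensional k V] (ρ : Representation k (SpecialLinearGroup (Fin 2) F) V) (W : Submodule k V)
    (hW : ∀ g, ∀ x ∈ W, ρ g x ∈ W) : ∃ n₁ n₂ : ℕ → ℕ, IsMult ι p a (subRep ρ W hW) n₁ ∧
      IsMult ι p a (quotRep ρ W hW) n₂ ∧ IsMult ι p a ρ (n₁ + n₂) := by
  obtain ⟨n₁, h1⟩ := exists_isMult ι p hF (subRep ρ W hW)
  obtain ⟨n₂, h2⟩ := exists_isMult ι p hF (quotRep ρ W hW)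
  exact ⟨n₁, n₂, h1, h2, h1.add ι p h2⟩

end Cfsg.Agent.R2.H28.SL2
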