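import Cfsg.Agent.R2.H28.SL2.JH
import Cfsg.Agent.R2.H28.SL2.Mult

/-!
# The composition factors of the modules of `SL(2, q)` in the defining characteristic (helper28)

`IsV ρ b` : `ρ ≅ V_b`; `Sy` : the labelling; `isMult_cf` : `b ↦ count b (cf ρ)` is a multiplicity function.
-/

set_option autoImplicit false
set_option linter.unusedSectionVars false

namespace Cfsg.Agent.R2.H28.SL2

open Matrix Cfsg.Agent.H943.SL2Rel Cfsg.Agent.H943.SL2Mod Cfsg.Agent.H943.RepAdd

universe u v w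

variable {k : Type u} [Field k] [DecidableEq k] {F : Type w} [Field F] [Fintype F] [DecidableEq F] (ι : F →+* k)
variable (p : ℕ) [Fact p.Prime] [CharP k p] [CharP F p]

/-- `ρ ≅ V_b` -/
def IsV {V : Type*} [AddCommGroup V] [Module k V] (ρ : Representation k (SpecialLinearGroup (Fin 2) F) V) (b : ℕ) :
    Prop :=
  ∃ (hb : b ≤ Fintype.card F - 1) (φ : Vb ι b ≃ₗ[k] V), ∀ g x, φ (RB ι p hb g x) = ρ g (φ x)

variable {V : Type*} [AddCommGroup V] [Module k V] {ρ : Representation k (SpecialLinearGroup (Fin 2) F) V}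

theorem IsV.iso {V' : Type*} [AddCommGroup V'] [Module k V'] {ρ' : Representation k (SpecialLinearGroup (Fin 2) F) V'}
    {b : ℕ} (e : V ≃ₗ[k] V') (he : ∀ g x, e (ρ g x) = ρ' g (e x)) (h : IsV ι p ρ b) : IsV ι p ρ' b := by
  obtain ⟨hb, φ, hφ⟩ := h
  exact ⟨hb, φ.trans e, fun g x => by rw [LinearEquiv.trans_apply, LinearEquiv.trans_apply, hφ, he]⟩

theorem IsV.finite {b : ℕ} (h : IsV ι p ρ b) : FiniteDimensional k V := by
  obtain ⟨hb, φ, hφ⟩ := h
  exact LinearEquiv.finiteDimensional φ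

theorem IsV.irr {b : ℕ} (h : IsV ι p ρ b) : Irrd ρ := by
  obtain ⟨hb, φ, hφ⟩ := h
  have h1 := Cfsg.Agent.H179.SLC.irr_rb ι p ι.injective (neg_one_pow_Q ι) hb
  have hn := h1.1
  refine ⟨φ.symm.toEquiv.nontrivial, fun W hW => ?_⟩
  have hW' : Inv (RB ι p hb) (W.comap (φ : Vb ι b →ₗ[k] V)) := by
    intro g x hx
    show φ (RB ι p hb g x) ∈ W
    rw [hφ]
    exact hW g _ hx
  rcases h1.2 _ hW' with h2 | h2
  · left
    rw [eq_bot_iff]
    intro x hx
    have h3 : φ.symm x ∈ W.comap (φ : Vb ι b →ₗ[k] V) := by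
      show φ (φ.symm x) ∈ W
      rwa [φ.apply_symm_apply]
    rw [h2, Submodule.mem_bot] at h3
    rw [Submodule.mem_bot, ← φ.apply_symm_apply x, h3, map_zero]
  · right
    rw [eq_top_iff]
    intro x _
    have h3 : φ.symm x ∈ W.comap (φ : Vb ι b →ₗ[k] V) := by rw [h2]; trivial
    have h4 : φ (φ.symm x) ∈ W := h3
    rwa [φ.apply_symm_apply] at h4

/-- the highest weight vector -/
theorem IsV.hw {b : ℕ} (h : IsV ι p ρ b) : ∃ m : V, m ≠ 0 ∧ (∀ t, ρ (u t) m = m) ∧ (∀ a, ρ (Cfsg.Agent.H943.SL2Rel.h a) m = ι a ^ b • m) ∧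
    SS ρ m = cb k F b • m ∧ ∀ x, (∀ t, ρ (u t) x = x) → ∃ c : k, x = c • m := by
  obtain ⟨hb, φ, hφ⟩ := h
  have hgood := Cfsg.Agent.H179.SLC.good_Db ι p (neg_one_pow_Q ι) hb
  have hmb : mon ι b b ∈ Vb ι b := Cfsg.Agent.H179.SLC.Db_le ι p (neg_one_pow_Q ι) hb (mon_mem_Db ι b)
  have hm0 : (⟨_, hmb⟩ : Vb ι b) ≠ 0 := fun h0 => mon_ne_zero ι b (congrArg Subtype.val h0)
  refine ⟨φ ⟨_, hmb⟩, fun h0 => hm0 (φ.map_eq_zero_iff.1 h0), fun t => ?_, fun a => ?_, ?_, fun x hx => ?_⟩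
  · rw [← hφ]
    congr 1
    exact Subtype.ext (hgood.ufix t _ (mon_mem_Db ι b))
  · rw [← hφ, ← map_smul]
    congr 1
    apply Subtype.ext
    show fRep k F (Cfsg.Agent.H943.SL2Rel.h a) (mon ι b b) = ι a ^ b • mon ι b b
    rw [h_mon, Nat.sub_self, pow_zero, mul_one]
  · have h1 : SS (RB ι p hb) ⟨_, hmb⟩ = cb k F b • (⟨_, hmb⟩ : Vb ι b) := by
      apply Subtype.ext
      rw [SS_apply, Submodule.coe_sum]
      show ∑ t : F, fRep k F (u t) (fRep k F Cfsg.Agent.H943.SL2Rel.w (mon ι b b)) = cb k F b • mon ι b b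
      rw [← SS_apply, hgood.ss _ (mon_mem_Db ι b)]
    rw [← map_smul, ← h1, SS_apply, SS_apply, map_sum]
    exact Finset.sum_congr rfl fun t _ => by rw [hφ, hφ]
  · have hq : b < Fintype.card F := by
      have := one_lt (F := F)
      omega
    have h1 : ((φ.symm x : Vb ι b) : F × F → k) ∈ Db ι b := fixed_Vb ι ι.injective hq (φ.symm x).2 fun t => by
      have h2 : RB ι p hb (u t) (φ.symm x) = φ.symm x := by
        apply φ.injective
        rw [hφ, φ.apply_symm_apply, hx]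
      exact congrArg Subtype.val h2
    obtain ⟨c, hc⟩ := Submodule.mem_span_singleton.1 h1
    refine ⟨c, ?_⟩
    rw [← map_smul, ← φ.apply_symm_apply x]
    congr 1
    exact Subtype.ext hc.symm

theorem IsV.uniq {b c : ℕ} (h : IsV ι p ρ b) (h' : IsV ι p ρ c) : b = c := by
  have hb := h.choose
  have hc := h'.choose
  have hq := one_lt (F := F)
  obtain ⟨m, hm0, hmu, hmh, hms, -⟩ := h.hw
  obtain ⟨n, hn0, hnu, hnh, hns, hn⟩ := h'.hw
  obtain ⟨x, rfl⟩ := hn m hmu
  have hx : x ≠ 0 := by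
    rintro rfl
    exact hm0 (zero_smul _ _)
  -- the scalars
  have h1 : cb k F b = cb k F c := by
    rw [map_smul, hns, smul_comm] at hms
    have h2 : (cb k F c - cb k F b) • (x • n) = 0 := by rw [sub_smul, hms, sub_self]
    rw [smul_eq_zero, or_iff_left hm0] at h2
    exact (sub_eq_zero.1 h2).symm
  have h2 : ∀ a : Fˣ, ι a ^ b = ι a ^ c := by
    intro a
    have h3 := hmh a
    rw [map_smul, hnh, smul_comm] at h3
    have h4 : (ι a ^ c - ι a ^ b) • (x • n) = 0 := by rw [sub_smul, h3, sub_self]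
    rw [smul_eq_zero, or_iff_left hm0] at h4
    exact (sub_eq_zero.1 h4).symm
  obtain ⟨lam, hlam⟩ := IsCyclic.exists_generator (α := Fˣ)
  have hprim := primitive ι ι.injective hlam
  unfold cb at h1
  by_cases hbq : b < Fintype.card F - 1
  · by_cases hcq : c < Fintype.card F - 1
    · exact hprim.pow_inj hbq hcq (h2 lam)
    · rw [if_pos hbq, if_neg hcq] at h1
      exact absurd h1.symm (neg_ne_zero.2 one_ne_zero)
  · by_cases hcq : c < Fintype.card F - 1
    · rw [if_neg hbq, if_pos hcq] at h1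
      exact absurd h1 (neg_ne_zero.2 one_ne_zero)
    · omega

/-- **the labelling of the irreducible modules** -/
def Sy [IsAlgClosed k] : Sys.{u, v, w} k (SpecialLinearGroup (Fin 2) F) ℕ where
  P := fun ρ b => IsV ι p ρ b
  iso := fun _ _ _ e he h => IsV.iso ι p e he h
  irr := fun _ _ h => IsV.irr ι p h
  uniq := fun _ _ _ h h' => IsV.uniq ι p h h'
  ex := fun ρ h => Cfsg.Agent.H179.SLC.irr_iso ι p ρ ι.injective (neg_one_pow_Q ι) h

variable [IsAlgClosed k] {a : ℕ} (hF : Fintype.card F = p ^ a)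

include hF in
theorem isMult_JHn (n : ℕ) : ∀ {V : Type v} [AddCommGroup V] [Module k V] [FiniteDimensional k V]
    {ρ : Representation k (SpecialLinearGroup (Fin 2) F) V} {s : Multiset ℕ},
    JHn (Sy.{u, v, w} ι p) n ρ s → IsMult ι p a ρ fun b => s.count b := by
  induction n with
  | zero =>
    intro V _ _ _ ρ s h
    have h1 := h.1
    rw [h.2]
    have h2 := isMult_zero ι p (a := a) ρ
    exact h2
  | succ n ih =>
    intro V _ _ _ ρ s h
    obtain ⟨W, hW, b, t, hb, rfl, ht⟩ := h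
    obtain ⟨hb', φ, hφ⟩ := hb
    have h1 := (isMult_rb ι p hF hb' (subRep ρ W hW) φ hφ).add ι p (ih ht)
    have h2 : (fun c => (b ::ₘ t).count c) = (Pi.single b 1 : ℕ → ℕ) + fun c => t.count c := by
      funext c
      rw [Pi.add_apply, Multiset.count_cons, add_comm]
      congr 1
      by_cases hcb : c = b
      · rw [if_pos hcb, hcb, Pi.single_eq_same]
      · rw [if_neg hcb, Pi.single_eq_of_ne hcb]
    rw [h2]
    exact h1

include hF in
/-- **the multiplicities of the composition factors** -/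
theorem isMult_cf {V : Type v} [AddCommGroup V] [Module k V] [FiniteDimensional k V]
    (ρ : Representation k (SpecialLinearGroup (Fin 2) F) V) :
    IsMult ι p a ρ fun b => (cf (Sy.{u, v, w} ι p) ρ).count b := by
  obtain ⟨n, hn⟩ := cf_spec (Sy.{u, v, w} ι p) ρ
  exact isMult_JHn ι p hF n hn

end Cfsg.Agent.R2.H28.SL2
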