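import Mathlib

/-!
# Digits and binomial coefficients modulo `p` (helper28)

* `not_dvd_choose_iff` : `p ∤ C(n, m)` iff the digits of `m` are at most those of `n`;
* `dg_single` : the digits of `c p ^ i`;
* `choose_shift` : `C(q - 1 - n, m) = (-1) ^ m C(n + m, m)` in characteristic `p`, `n + m < q = p ^ a`.
-/

set_option autoImplicit false

namespace Cfsg.Agent.R2.H28.SL2

/-- for digits -/
theorem not_dvd_choose_lt {p : ℕ} (hp : p.Prime) {a b : ℕ} (ha : a < p) : ¬ p ∣ a.choose b ↔ b ≤ a := by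
  constructor
  · intro h
    by_contra hc
    rw [Nat.choose_eq_zero_of_lt (by omega)] at h
    exact h (dvd_zero p)
  · intro h hd
    have h1 : p ∣ a.factorial := by
      rw [← Nat.choose_mul_factorial_mul_factorial h]
      exact Dvd.dvd.mul_right (Dvd.dvd.mul_right hd _) _
    rw [hp.dvd_factorial] at h1
    omega

/-- **Lucas** -/
theorem not_dvd_choose_iff {p : ℕ} (hp : p.Prime) {n m : ℕ} :
    ¬ p ∣ n.choose m ↔ ∀ i, m / p ^ i % p ≤ n / p ^ i % p := by
  have : Fact p.Prime := ⟨hp⟩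
  obtain ⟨a, ha⟩ : ∃ a, n < p ^ a ∧ m < p ^ a := by
    refine ⟨n + m, ?_, ?_⟩
    · exact lt_of_le_of_lt (Nat.le_add_right n m) (Nat.lt_pow_self hp.one_lt)
    · exact lt_of_le_of_lt (Nat.le_add_left m n) (Nat.lt_pow_self hp.one_lt)
  have h1 := Choose.choose_modEq_prod_range_choose_nat (p := p) (a := a) (n := n) (k := m) ha.1 ha.2
  rw [h1.dvd_iff (dvd_refl p), hp.prime.dvd_finsetProd_iff]
  push Not
  constructor
  · intro h i
    by_cases hi : i < a
    · exact (not_dvd_choose_lt hp (Nat.mod_lt _ hp.pos)).1 (h i (Finset.mem_range.2 hi))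
    · have h2 : m < p ^ i := lt_of_lt_of_le ha.2 (Nat.pow_le_pow_right hp.pos (by omega))
      rw [Nat.div_eq_of_lt h2, Nat.zero_mod]
      exact Nat.zero_le _
  · intro h i _
    exact (not_dvd_choose_lt hp (Nat.mod_lt _ hp.pos)).2 (h i)

/-- the digits of `c p ^ i` -/
theorem dg_single {p : ℕ} (hp : 1 < p) {c : ℕ} (hc : c < p) (i l : ℕ) :
    (c * p ^ i) / p ^ l % p = if l = i then c else 0 := by
  split_ifs with h
  · rw [h, Nat.mul_div_cancel _ (Nat.pow_pos (by omega)), Nat.mod_eq_of_lt hc]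
  · rcases Nat.lt_or_gt_of_ne h with h1 | h1
    · obtain ⟨d, rfl⟩ : ∃ d, i = l + (d + 1) := ⟨i - l - 1, by omega⟩
      rw [show c * p ^ (l + (d + 1)) = c * p ^ d * p * p ^ l by ring, Nat.mul_div_cancel _ (Nat.pow_pos (by omega))]
      exact Nat.mul_mod_left _ _
    · have h2 : c * p ^ i < p ^ l := by
        calc c * p ^ i < p * p ^ i := Nat.mul_lt_mul_of_pos_right hc (Nat.pow_pos (by omega))
          _ = p ^ (i + 1) := by rw [pow_succ, mul_comm]
          _ ≤ p ^ l := Nat.pow_le_pow_right (by omega) (by omega)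
      rw [Nat.div_eq_of_lt h2, Nat.zero_mod]

theorem dg_lt {p : ℕ} (hp : 0 < p) (n i : ℕ) : n / p ^ i % p < p := Nat.mod_lt _ hp

theorem dg_zero_of_le {p n a i : ℕ} (hp : 0 < p) (hn : n < p ^ a) (hi : a ≤ i) : n / p ^ i % p = 0 := by
  rw [Nat.div_eq_of_lt (lt_of_lt_of_le hn (Nat.pow_le_pow_right hp hi)), Nat.zero_mod]

section

variable {k : Type*} [Field k] (p : ℕ) [Fact p.Prime] [CharP k p]

theorem choose_ne_iff {n m : ℕ} : ((n.choose m : ℕ) : k) ≠ 0 ↔ ∀ i, m / p ^ i % p ≤ n / p ^ i % p := by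
  rw [Ne, CharP.cast_eq_zero_iff k p, not_dvd_choose_iff Fact.out]

theorem choose_q {a m : ℕ} (hm : 1 ≤ m) (hm' : m < p ^ a) : (((p ^ a).choose m : ℕ) : k) = 0 := by
  rw [CharP.cast_eq_zero_iff k p]
  exact (Fact.out : p.Prime).dvd_choose_pow (by omega) (by omega)

/-- the divided power relation -/
theorem choose_shift {a : ℕ} (n m : ℕ) (h : n + m < p ^ a) :
    (-1) ^ m * (((p ^ a - 1 - n).choose m : ℕ) : k) = (((n + m).choose m : ℕ) : k) := by
  induction n generalizing m with
  | zero =>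
    rw [Nat.sub_zero, zero_add, Nat.choose_self, Nat.cast_one]
    induction m with
    | zero => simp
    | succ m ih =>
      have h1 : p ^ a - 1 + 1 = p ^ a := Nat.sub_add_cancel (by omega)
      have h2 := choose_q (k := k) p (a := a) (m := m + 1) (by omega) (by omega)
      rw [← h1, Nat.choose_succ_succ, Nat.cast_add] at h2
      have h3 := ih (by omega)
      rw [pow_succ]
      linear_combination (-1) ^ (m + 1) * h2 + h3
  | succ n ih =>
    induction m with
    | zero => simp
    | succ m ihm =>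
      have h3 := ih (m + 1) (by omega)
      have h4 := ihm (by omega)
      have h5 : p ^ a - 1 - n = (p ^ a - 1 - (n + 1)) + 1 := by omega
      rw [h5, Nat.choose_succ_succ, Nat.cast_add, mul_add] at h3
      have h6 : n + 1 + (m + 1) = (n + 1 + m) + 1 := by omega
      rw [h6, Nat.choose_succ_succ, Nat.cast_add, ← h4]
      have h7 : n + (m + 1) = n + 1 + m := by omega
      rw [h7] at h3
      rw [← h3, pow_succ]
      ring

end

end Cfsg.Agent.R2.H28.SL2
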