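import Cfsg.Agent.R2.H28.SL2.SqTab

/-!
# Small dimensions (helper28)

`card_Bf_mul` : `dim V_{p b + r} = (r + 1) dim V_b`; the even labels of dimension 1, 2, 3, 6.
-/

set_option autoImplicit false
set_option linter.unusedSectionVars false

namespace Cfsg.Agent.R2.H28.SL2

open Cfsg.Agent.H943.SL2Rel Cfsg.Agent.H943.SL2Mod

variable (k : Type*) [Field k] [DecidableEq k] (p : ℕ) [Fact p.Prime] [CharP k p]

theorem card_Bf_mul (b : ℕ) {r : ℕ} (hr : r < p) : (Bf k (p * b + r)).card = (r + 1) * (Bf k b).card := by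
  have hp : p.Prime := Fact.out
  rw [← Finset.card_range (r + 1), ← Finset.card_product]
  symm
  refine Finset.card_nbij' (fun x => p * x.2 + x.1) (fun m => (m % p, m / p)) ?_ ?_ ?_ ?_
  · rintro ⟨s, m⟩ hx
    rw [Finset.coe_product, Set.mem_prod, Finset.mem_coe, Finset.mem_coe, Finset.mem_range] at hx
    exact (mem_Bf_mul k p hr (by have := hx.1; dsimp only at this; omega)).2 ⟨by have := hx.1; dsimp only at this; omega, hx.2⟩
  · intro m hm
    rw [Finset.mem_coe, ← Nat.div_add_mod m p, mem_Bf_mul k p hr (Nat.mod_lt m hp.pos)] at hm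
    rw [Finset.coe_product, Set.mem_prod, Finset.mem_coe, Finset.mem_coe, Finset.mem_range]
    exact ⟨by show m % p < r + 1; omega, hm.2⟩
  · rintro ⟨s, m⟩ hx
    rw [Finset.coe_product, Set.mem_prod, Finset.mem_coe, Finset.mem_coe, Finset.mem_range] at hx
    have hs : s < p := by
      have := hx.1
      dsimp only at this
      omega
    show ((p * m + s) % p, (p * m + s) / p) = (s, m)
    rw [Nat.mul_add_mod, Nat.mod_eq_of_lt hs, Nat.mul_add_div hp.pos, Nat.div_eq_of_lt hs, add_zero]
  · intro m _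
    exact Nat.div_add_mod m p

theorem card_Bf_low (b : ℕ) : (Bf k b).card = (b % p + 1) * (Bf k (b / p)).card := by
  have hp : p.Prime := Fact.out
  have h := card_Bf_mul k p (b / p) (Nat.mod_lt b hp.pos)
  rwa [Nat.div_add_mod] at h

include p in
/-- labels of small dimension, `p` odd -/
theorem card_cases (hp2 : p ≠ 2) (b : ℕ) : ((Bf k b).card = 1 → b = 0) ∧ ((Bf k b).card = 2 → b % 2 = 1) ∧
    ((Bf k b).card = 3 → b % 2 = 0 ∧ ∃ l, b = 2 * p ^ l) ∧ ((Bf k b).card = 6 → b % 2 = 1) := by
  have hp : p.Prime := Fact.out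
  have hodd : p % 2 = 1 := (hp.eq_two_or_odd).resolve_left hp2
  induction b using Nat.strong_induction_on with
  | _ b ih =>
    rcases Nat.eq_zero_or_pos b with rfl | hb
    · rw [card_Bf_zero]
      refine ⟨fun _ => rfl, fun h => ?_, fun h => ?_, fun h => ?_⟩ <;> omega
    have h1 := card_Bf_low k p b
    have h2 := ih (b / p) (Nat.div_lt_self hb hp.one_lt)
    have h3 := Nat.div_add_mod b p
    have hpos : 0 < (Bf k (b / p)).card := by
      rcases Nat.eq_zero_or_pos (b / p) with h | h
      · rw [h, card_Bf_zero]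
        omega
      · have := card_Bf_pos (k := k) h
        omega
    obtain ⟨r, hr⟩ : ∃ r, r = b % p := ⟨_, rfl⟩
    obtain ⟨b', hb'⟩ : ∃ b', b' = b / p := ⟨_, rfl⟩
    obtain ⟨d, hd⟩ : ∃ d, d = (Bf k (b / p)).card := ⟨_, rfl⟩
    rw [← hr, ← hd] at h1
    rw [← hd, ← hb'] at h2
    rw [← hr, ← hb'] at h3
    rw [← hd] at hpos
    have hpar : b % 2 = (b' + r) % 2 := by
      rw [← h3, Nat.add_mod, Nat.mul_mod, hodd, one_mul, Nat.mod_mod, ← Nat.add_mod]
    have hrp : r < p := by rw [hr]; exact Nat.mod_lt _ hp.pos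
    obtain ⟨k1, k2, k3, k6⟩ := h2
    rw [h1]
    refine ⟨fun h => ?_, fun h => ?_, fun h => ?_, fun h => ?_⟩
    · have h4 : (r + 1) ∣ 1 := ⟨d, h.symm⟩
      have h5 : r = 0 := by
        have := Nat.le_of_dvd (by omega) h4
        omega
      subst h5
      have h6 := k1 (by omega)
      subst h6
      omega
    · have h4 : (r + 1) ∣ 2 := ⟨d, h.symm⟩
      have h5 := Nat.le_of_dvd (by omega) h4
      have h6 : r = 0 ∨ r = 1 := by omega
      rcases h6 with rfl | rfl
      · have := k2 (by omega)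
        omega
      · have := k1 (by omega)
        omega
    · have h4 : (r + 1) ∣ 3 := ⟨d, h.symm⟩
      have h5 := Nat.le_of_dvd (by omega) h4
      have h6 : r = 0 ∨ r = 1 ∨ r = 2 := by omega
      rcases h6 with rfl | rfl | rfl
      · obtain ⟨h7, l, h8⟩ := k3 (by omega)
        refine ⟨by omega, l + 1, ?_⟩
        rw [← h3, h8, pow_succ]
        ring
      · omega
      · have h7 := k1 (by omega)
        subst h7
        exact ⟨by omega, 0, by rw [pow_zero]; omega⟩
    · have h4 : (r + 1) ∣ 6 := ⟨d, h.symm⟩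
      have h5 := Nat.le_of_dvd (by omega) h4
      have h6 : r = 0 ∨ r = 1 ∨ r = 2 ∨ r = 3 ∨ r = 4 ∨ r = 5 := by omega
      rcases h6 with rfl | rfl | rfl | rfl | rfl | rfl
      · have := k6 (by omega)
        omega
      · have := k3 (by omega)
        omega
      · have := k2 (by omega)
        omega
      · omega
      · omega
      · have := k1 (by omega)
        omega

end Cfsg.Agent.R2.H28.SL2
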