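import Cfsg.Agent.R2.H28.SL2.Chr
import Cfsg.Agent.R2.H28.SL2.CF
import Mathlib.LinearAlgebra.TensorProduct.Basis
import Mathlib.LinearAlgebra.Matrix.ToLin
import Mathlib.RepresentationTheory.Basic

/-!
# Brauer characters (helper28)

`bc ρ g ζ N z = ∑ j < N, dim (eigenspace of ζ ^ j) * z ^ j`. Eigenbases, tensor products, homomorphisms, symmetric
squares.
-/

set_option autoImplicit false
set_option linter.unusedSectionVars false

namespace Cfsg.Agent.R2.H28.SL2

open Cfsg.Agent.H943.SL2Mod Cfsg.Agent.H943.RepAdd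
open scoped TensorProduct

section gen

theorem zpow_red {K : Type*} [Field K] {x : K} {N : ℕ} (hx : x ^ N = 1) (hN : 0 < N) (e : ℤ) :
    x ^ e = x ^ ((e % (N : ℤ)).toNat) := by
  have hx0 : x ≠ 0 := by
    rintro rfl
    rw [zero_pow hN.ne'] at hx
    exact zero_ne_one hx
  have h1 : (0 : ℤ) ≤ e % (N : ℤ) := Int.emod_nonneg _ (by omega)
  rw [← zpow_natCast x, Int.toNat_of_nonneg h1]
  conv_lhs => rw [← Int.mul_ediv_add_emod e N, zpow_add₀ hx0, zpow_mul, zpow_natCast, hx, one_zpow, one_mul]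

theorem zpow_red_lt {N : ℕ} (hN : 0 < N) (e : ℤ) : (e % (N : ℤ)).toNat < N := by
  have h1 : (0 : ℤ) ≤ e % (N : ℤ) := Int.emod_nonneg _ (by omega)
  have h2 : e % (N : ℤ) < N := Int.emod_lt_of_pos _ (by omega)
  omega

variable {k : Type*} [Field k] [DecidableEq k]

theorem count_sum {I : Type*} (S : Finset I) (e : I → ℤ) {ζ : k} {N : ℕ} (hζ : IsPrimitiveRoot ζ N) (hN : 0 < N)
    {z : ℂ} (hz : z ^ N = 1) :
    ∑ j ∈ Finset.range N, ((S.filter fun i => ζ ^ (e i) = ζ ^ j).card : ℂ) * z ^ j = ∑ i ∈ S, z ^ (e i) := by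
  have h1 : ∀ j ∈ Finset.range N, ((S.filter fun i => ζ ^ (e i) = ζ ^ j).card : ℂ) * z ^ j =
      ∑ i ∈ S, if ζ ^ (e i) = ζ ^ j then z ^ j else 0 := by
    intro j _
    rw [← Finset.sum_filter, Finset.sum_const, nsmul_eq_mul]
  rw [Finset.sum_congr rfl h1, Finset.sum_comm]
  refine Finset.sum_congr rfl fun i _ => ?_
  have h2 := zpow_red_lt hN (e i)
  rw [Finset.sum_eq_single ((e i % (N : ℤ)).toNat)]
  · rw [if_pos (zpow_red hζ.pow_eq_one hN (e i)), ← zpow_red hz hN]
  · intro j hj hne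
    rw [if_neg]
    rw [zpow_red hζ.pow_eq_one hN (e i)]
    intro h3
    exact hne (hζ.pow_inj (Finset.mem_range.1 hj) h2 h3.symm)
  · intro h3
    exact absurd (Finset.mem_range.2 h2) h3

variable {G : Type*} [Group G]

/-- the Brauer character -/
noncomputable def bc {V : Type*} [AddCommGroup V] [Module k V] (ρ : Representation k G V) (g : G) (ζ : k) (N : ℕ)
    (z : ℂ) : ℂ :=
  ∑ j ∈ Finset.range N, (Module.finrank k (eig ρ g (ζ ^ j)) : ℂ) * z ^ j

variable {V : Type*} [AddCommGroup V] [Module k V] {ρ : Representation k G V} {g : G} {ζ : k} {N : ℕ}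

theorem bc_iso {V' : Type*} [AddCommGroup V'] [Module k V'] {ρ' : Representation k G V'} (φ : V ≃ₗ[k] V')
    (h : ∀ g x, φ (ρ g x) = ρ' g (φ x)) (z : ℂ) : bc ρ g ζ N z = bc ρ' g ζ N z := by
  unfold bc
  refine Finset.sum_congr rfl fun j _ => ?_
  rw [finrank_eig_iso ρ ρ' φ h]

theorem finrank_eig_basis {I : Type*} [Fintype I] [DecidableEq I] (v : Module.Basis I k V) (μ : I → k)
    (h : ∀ i, ρ g (v i) = μ i • v i) (ν : k) :
    Module.finrank k (eig ρ g ν) = (Finset.univ.filter fun i => μ i = ν).card := by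
  unfold eig
  rw [finrank_diag v.equivFun.symm (ρ g) μ (fun x => ?_) ν, Fintype.card_subtype]
  rw [Module.Basis.equivFun_symm_apply, Module.Basis.equivFun_symm_apply, map_sum]
  refine Finset.sum_congr rfl fun i _ => ?_
  rw [map_smul, h, smul_smul, mul_comm]

theorem bc_basis {I : Type*} [Fintype I] (v : Module.Basis I k V) (e : I → ℤ)
    (h : ∀ i, ρ g (v i) = ζ ^ (e i) • v i) (hζ : IsPrimitiveRoot ζ N) (hN : 0 < N) {z : ℂ} (hz : z ^ N = 1) :
    bc ρ g ζ N z = ∑ i, z ^ (e i) := by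
  classical
  unfold bc
  rw [← count_sum Finset.univ e hζ hN hz]
  refine Finset.sum_congr rfl fun j _ => ?_
  rw [finrank_eig_basis v (fun i => ζ ^ (e i)) h]

/-- **the eigenvectors span** -/
theorem span_eig (hζ : IsPrimitiveRoot ζ N) (hN : (N : k) ≠ 0) (hg : ρ g ^ N = 1) :
    Submodule.span k {v : V | ∃ j : ℕ, ρ g v = ζ ^ j • v} = ⊤ := by
  have hN0 : N ≠ 0 := by
    rintro rfl
    exact hN Nat.cast_zero
  have hζ0 : ζ ≠ 0 := hζ.ne_zero hN0
  rw [eq_top_iff]
  intro x _
  have h1 : ∑ j ∈ Finset.range N, proj ρ g N (ζ ^ j) x = x := by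
    have h2 : ∀ j, proj ρ g N (ζ ^ j) x = (N : k)⁻¹ • ∑ i ∈ Finset.range N, ((ζ⁻¹ ^ i) ^ j) • ((ρ g) ^ i) x := by
      intro j
      rw [proj_apply]
      congr 1
      refine Finset.sum_congr rfl fun i _ => ?_
      rw [← inv_pow, ← pow_mul, ← pow_mul, mul_comm]
    simp only [h2]
    rw [← Finset.smul_sum, Finset.sum_comm]
    have h3 : ∀ i ∈ Finset.range N, ∑ j ∈ Finset.range N, ((ζ⁻¹ ^ i) ^ j) • ((ρ g) ^ i) x =
        if i = 0 then (N : k) • x else 0 := by
      intro i hi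
      rw [← Finset.sum_smul]
      split_ifs with h0
      · subst h0
        simp
      · have h4 : ζ⁻¹ ^ i ≠ 1 := by
          intro h5
          have h6 := (hζ.inv).pow_eq_one_iff_dvd i
          have h7 := Nat.le_of_dvd (by omega) (h6.1 h5)
          have := Finset.mem_range.1 hi
          omega
        have h5 : (∑ j ∈ Finset.range N, (ζ⁻¹ ^ i) ^ j) * (ζ⁻¹ ^ i - 1) = 0 := by
          rw [geom_sum_mul, ← pow_mul, mul_comm, pow_mul, inv_pow, hζ.pow_eq_one, inv_one, one_pow, sub_self]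
        rw [(mul_eq_zero.1 h5).resolve_right (sub_ne_zero.2 h4), zero_smul]
    rw [Finset.sum_congr rfl h3, Finset.sum_ite_eq' (Finset.range N) 0, if_pos (Finset.mem_range.2 (by omega)),
      smul_smul, inv_mul_cancel₀ hN, one_smul]
  rw [← h1]
  refine Submodule.sum_mem _ fun j _ => Submodule.subset_span ⟨j, ?_⟩
  have h2 := proj_mem ρ (n := N) hg (μ := ζ ^ j) (by rw [← pow_mul, mul_comm, pow_mul, hζ.pow_eq_one, one_pow])
    (pow_ne_zero _ hζ0) x
  exact (mem_eig ρ).1 h2

/-- **eigenbases** -/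
theorem exists_eigbasis [FiniteDimensional k V] (hζ : IsPrimitiveRoot ζ N) (hN : (N : k) ≠ 0) (hg : ρ g ^ N = 1) :
    ∃ (v : Module.Basis (Fin (Module.finrank k V)) k V) (e : Fin (Module.finrank k V) → ℤ),
      ∀ i, ρ g (v i) = ζ ^ (e i) • v i := by
  obtain ⟨b, hb1, hb2, hb3⟩ := exists_linearIndependent k {v : V | ∃ j : ℕ, ρ g v = ζ ^ j • v}
  rw [span_eig hζ hN hg] at hb2
  let v : Module.Basis b k V := Module.Basis.mk hb3 (by rw [Subtype.range_coe_subtype, Set.ofPred_mem_eq, hb2])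
  have : Fintype b := FiniteDimensional.fintypeBasisIndex v
  have hc : Fintype.card b = Module.finrank k V := (Module.finrank_eq_card_basis v).symm
  let v' := v.reindex (Fintype.equivFinOfCardEq hc)
  have h1 : ∀ i, ∃ j : ℕ, ρ g (v' i) = ζ ^ j • v' i := by
    intro i
    have h2 : v' i = (((Fintype.equivFinOfCardEq hc).symm i : b) : V) := by
      rw [Module.Basis.reindex_apply, Module.Basis.mk_apply]
    rw [h2]
    exact hb1 ((Fintype.equivFinOfCardEq hc).symm i).2
  choose e he using h1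
  exact ⟨v', fun i => e i, fun i => by rw [zpow_natCast]; exact he i⟩

/-- tensor products -/
theorem bc_tens [FiniteDimensional k V] {W : Type*} [AddCommGroup W] [Module k W] [FiniteDimensional k W]
    {σ : Representation k G W} (hζ : IsPrimitiveRoot ζ N) (hN : (N : k) ≠ 0) (hg : ρ g ^ N = 1) (hg' : σ g ^ N = 1)
    {z : ℂ} (hz : z ^ N = 1) : bc (ρ.tprod σ) g ζ N z = bc ρ g ζ N z * bc σ g ζ N z := by
  have hN0 : 0 < N := Nat.pos_of_ne_zero (by
    rintro rfl
    exact hN Nat.cast_zero)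
  have hζ0 : ζ ≠ 0 := hζ.ne_zero hN0.ne'
  have hz0 : z ≠ 0 := by
    rintro rfl
    rw [zero_pow hN0.ne'] at hz
    exact zero_ne_one hz
  obtain ⟨v, e, he⟩ := exists_eigbasis (ρ := ρ) hζ hN hg
  obtain ⟨w, f, hf⟩ := exists_eigbasis (ρ := σ) hζ hN hg'
  rw [bc_basis v e he hζ hN0 hz, bc_basis w f hf hζ hN0 hz,
    bc_basis (v.tensorProduct w) (fun x => e x.1 + f x.2) (fun x => ?_) hζ hN0 hz]
  · rw [Finset.sum_mul_sum, Fintype.sum_prod_type]
    refine Finset.sum_congr rfl fun i _ => Finset.sum_congr rfl fun j _ => ?_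
    rw [zpow_add₀ hz0]
  · rw [Module.Basis.tensorProduct_apply', Representation.tprod_apply, TensorProduct.map_tmul, he, hf,
      TensorProduct.smul_tmul_smul, zpow_add₀ hζ0]

/-- homomorphisms -/
theorem bc_hom [FiniteDimensional k V] {W : Type*} [AddCommGroup W] [Module k W] [FiniteDimensional k W]
    {σ : Representation k G W} (hζ : IsPrimitiveRoot ζ N) (hN : (N : k) ≠ 0) (hg : ρ g ^ N = 1) (hg' : σ g ^ N = 1)
    {z : ℂ} (hz : z ^ N = 1) : bc (Representation.linHom ρ σ) g ζ N z = bc ρ g ζ N z⁻¹ * bc σ g ζ N z := by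
  classical
  have hN0 : 0 < N := Nat.pos_of_ne_zero (by
    rintro rfl
    exact hN Nat.cast_zero)
  have hζ0 : ζ ≠ 0 := hζ.ne_zero hN0.ne'
  have hz0 : z ≠ 0 := by
    rintro rfl
    rw [zero_pow hN0.ne'] at hz
    exact zero_ne_one hz
  obtain ⟨v, e, he⟩ := exists_eigbasis (ρ := ρ) hζ hN hg
  obtain ⟨w, f, hf⟩ := exists_eigbasis (ρ := σ) hζ hN hg'
  have he' : ∀ i, ρ g⁻¹ (v i) = ζ ^ (-e i) • v i := by
    intro i
    have h1 : ρ g⁻¹ (ρ g (v i)) = v i := by
      rw [← Module.End.mul_apply, ← map_mul, inv_mul_cancel, map_one, Module.End.one_apply]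
    rw [he, map_smul] at h1
    rw [zpow_neg, eq_inv_smul_iff₀ (zpow_ne_zero _ hζ0)]
    exact h1
  rw [bc_basis v e he hζ hN0 (by rw [inv_pow, hz, inv_one]), bc_basis w f hf hζ hN0 hz,
    bc_basis (v.linearMap w) (fun x => f x.1 - e x.2) (fun x => ?_) hζ hN0 hz]
  · rw [Finset.sum_mul_sum, Fintype.sum_prod_type, Finset.sum_comm]
    refine Finset.sum_congr rfl fun i _ => Finset.sum_congr rfl fun j _ => ?_
    rw [zpow_sub₀ hz0, inv_zpow, div_eq_mul_inv, mul_comm]
  · refine v.ext fun l => ?_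
    rw [Representation.linHom_apply, LinearMap.comp_apply, LinearMap.comp_apply, he', map_smul,
      LinearMap.smul_apply, Module.Basis.linearMap_apply_apply]
    split_ifs with h1
    · rw [map_smul, hf, smul_smul, ← zpow_add₀ hζ0, h1]
      congr 2
      ring
    · rw [smul_zero, map_zero, smul_zero]

/-! ## Spanning families of eigenvectors -/

theorem proj_eig_ne (hN : 0 < N) {μ ν : k} (hμ : μ ^ N = 1) (hν : ν ^ N = 1) (hne : μ ≠ ν)
    {x : V} (hx : ρ g x = μ • x) : proj ρ g N ν x = 0 := by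
  have hν0 : ν ≠ 0 := by
    rintro rfl
    rw [zero_pow hN.ne'] at hν
    exact zero_ne_one hν
  rw [proj_apply]
  have h1 : ∀ i ∈ Finset.range N, (ν⁻¹) ^ i • ((ρ g) ^ i) x = ((ν⁻¹ * μ) ^ i) • x := by
    intro i _
    rw [pow_apply_eig ρ hx, smul_smul, ← mul_pow]
  rw [Finset.sum_congr rfl h1, ← Finset.sum_smul]
  have h2 : (∑ i ∈ Finset.range N, (ν⁻¹ * μ) ^ i) * (ν⁻¹ * μ - 1) = 0 := by
    rw [geom_sum_mul, mul_pow, inv_pow, hν, hμ, inv_one, one_mul, sub_self]
  have h3 : ν⁻¹ * μ - 1 ≠ 0 := by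
    rw [sub_ne_zero]
    intro h4
    apply hne
    rw [inv_mul_eq_iff_eq_mul₀ hν0, mul_one] at h4
    exact h4
  rw [(mul_eq_zero.1 h2).resolve_right h3, zero_smul, smul_zero]

theorem finrank_eig_le_span (hN : (N : k) ≠ 0) (hg : ρ g ^ N = 1) {I : Type*} (S : Finset I)
    (w : I → V) (μ : I → k) (hμ : ∀ i ∈ S, μ i ^ N = 1) (h : ∀ i ∈ S, ρ g (w i) = μ i • w i)
    (hs : Submodule.span k (w '' (S : Set I)) = ⊤) {ν : k} (hν : ν ^ N = 1) :
    Module.finrank k (eig ρ g ν) ≤ (S.filter fun i => μ i = ν).card := by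
  classical
  have hN0 : 0 < N := Nat.pos_of_ne_zero (by
    rintro rfl
    exact hN Nat.cast_zero)
  have hν0 : ν ≠ 0 := by
    rintro rfl
    rw [zero_pow hN0.ne'] at hν
    exact zero_ne_one hν
  have h1 : eig ρ g ν ≤ Submodule.span k (((S.filter fun i => μ i = ν).image w : Finset V) : Set V) := by
    intro x hx
    rw [← proj_of_mem ρ hN hν0 hx]
    have h2 : x ∈ Submodule.span k (w '' (S : Set I)) := by rw [hs]; trivial
    clear hx
    induction h2 using Submodule.span_induction with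
    | mem x hx =>
      obtain ⟨i, hi, rfl⟩ := hx
      have hi' : i ∈ S := hi
      by_cases h3 : μ i = ν
      · rw [proj_of_mem ρ hN hν0 ((mem_eig ρ).2 (by rw [h i hi', h3]))]
        apply Submodule.subset_span
        rw [Finset.mem_coe, Finset.mem_image]
        exact ⟨i, Finset.mem_filter.2 ⟨hi', h3⟩, rfl⟩
      · rw [proj_eig_ne hN0 (hμ i hi') hν h3 (h i hi')]
        exact Submodule.zero_mem _
    | zero => rw [map_zero]; exact Submodule.zero_mem _
    | add x y _ _ hx hy => rw [map_add]; exact Submodule.add_mem _ hx hy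
    | smul a x _ hx => rw [map_smul]; exact Submodule.smul_mem _ _ hx
  exact (Submodule.finrank_mono h1).trans ((finrank_span_finset_le_card _).trans Finset.card_image_le)

/-! ## The symmetric square -/

/-- the alternating tensors -/
def Alt (k : Type*) [Field k] (V : Type*) [AddCommGroup V] [Module k V] : Submodule k (V ⊗[k] V) :=
  Submodule.span k {z | ∃ x y : V, z = x ⊗ₜ[k] y - y ⊗ₜ[k] x}

theorem alt_inv (ρ : Representation k G V) : ∀ g, ∀ x ∈ Alt k V, ρ.tprod ρ g x ∈ Alt k V := by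
  intro g x hx
  unfold Alt at hx
  induction hx using Submodule.span_induction with
  | mem x hx =>
    obtain ⟨a, b, rfl⟩ := hx
    rw [map_sub, Representation.tprod_apply, TensorProduct.map_tmul, TensorProduct.map_tmul]
    exact Submodule.subset_span ⟨_, _, rfl⟩
  | zero => rw [map_zero]; exact Submodule.zero_mem _
  | add x y _ _ hx hy => rw [map_add]; exact Submodule.add_mem _ hx hy
  | smul a x _ hx => rw [map_smul]; exact Submodule.smul_mem _ _ hx

/-- the symmetric square -/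
noncomputable def Sq (ρ : Representation k G V) : Representation k G ((V ⊗[k] V) ⧸ Alt k V) :=
  quotRep (ρ.tprod ρ) (Alt k V) (alt_inv ρ)

theorem span_alt {n : ℕ} (v : Module.Basis (Fin n) k V) : Submodule.span k
    ((fun x : Fin n × Fin n => v x.1 ⊗ₜ[k] v x.2 - v x.2 ⊗ₜ[k] v x.1) ''
      ((Finset.univ.filter fun x : Fin n × Fin n => x.1 < x.2 : Finset (Fin n × Fin n)) : Set (Fin n × Fin n))) = Alt k V := by
  apply le_antisymm
  · refine Submodule.span_le.2 ?_
    rintro _ ⟨x, -, rfl⟩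
    exact Submodule.subset_span ⟨_, _, rfl⟩
  · unfold Alt
    refine Submodule.span_le.2 ?_
    rintro _ ⟨x, y, rfl⟩
    have h1 : x ⊗ₜ[k] y - y ⊗ₜ[k] x = ∑ i, ∑ j, (v.repr x i * v.repr y j) • (v i ⊗ₜ[k] v j - v j ⊗ₜ[k] v i) := by
      have hx : ∑ i, v.repr x i • v i = x := v.sum_repr x
      have hy : ∑ i, v.repr y i • v i = y := v.sum_repr y
      have h2 : ∀ a b : Fin n → k, (∑ i, a i • v i) ⊗ₜ[k] (∑ j, b j • v j) = ∑ i, ∑ j, (a i * b j) • (v i ⊗ₜ[k] v j) := by
        intro a b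
        rw [TensorProduct.sum_tmul]
        refine Finset.sum_congr rfl fun i _ => ?_
        rw [TensorProduct.tmul_sum]
        refine Finset.sum_congr rfl fun j _ => ?_
        rw [TensorProduct.smul_tmul_smul]
      conv_lhs => rw [← hx, ← hy, h2, h2]
      rw [Finset.sum_comm (f := fun i j => (v.repr y i * v.repr x j) • (v i ⊗ₜ[k] v j)), ← Finset.sum_sub_distrib]
      refine Finset.sum_congr rfl fun i _ => ?_
      rw [← Finset.sum_sub_distrib]
      refine Finset.sum_congr rfl fun j _ => ?_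
      rw [smul_sub, mul_comm (v.repr y j)]
    rw [h1]
    refine Submodule.sum_mem _ fun i _ => Submodule.sum_mem _ fun j _ => Submodule.smul_mem _ _ ?_
    rcases lt_trichotomy i j with h2 | rfl | h2
    · exact Submodule.subset_span ⟨(i, j), by simpa using h2, rfl⟩
    · rw [sub_self]
      exact Submodule.zero_mem _
    · rw [← neg_sub]
      exact Submodule.neg_mem _ (Submodule.subset_span ⟨(j, i), by simpa using h2, rfl⟩)

theorem span_sq {n : ℕ} (v : Module.Basis (Fin n) k V) : Submodule.span k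
    ((fun x : Fin n × Fin n => (Alt k V).mkQ (v x.1 ⊗ₜ[k] v x.2)) ''
      ((Finset.univ.filter fun x : Fin n × Fin n => x.1 ≤ x.2 : Finset (Fin n × Fin n)) : Set (Fin n × Fin n))) = ⊤ := by
  rw [eq_top_iff]
  intro z _
  obtain ⟨y, rfl⟩ := (Alt k V).mkQ_surjective z
  have h1 : y ∈ Submodule.span k (Set.range (v.tensorProduct v)) := by
    rw [(v.tensorProduct v).span_eq]
    trivial
  induction h1 using Submodule.span_induction with
  | mem x hx =>
    obtain ⟨⟨i, j⟩, rfl⟩ := hx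
    rw [Module.Basis.tensorProduct_apply]
    rcases le_total i j with h2 | h2
    · exact Submodule.subset_span ⟨(i, j), by simpa using h2, rfl⟩
    · have h3 : (Alt k V).mkQ (v i ⊗ₜ[k] v j) = (Alt k V).mkQ (v j ⊗ₜ[k] v i) := by
        rw [← sub_eq_zero, ← map_sub, Submodule.mkQ_apply, Submodule.Quotient.mk_eq_zero]
        exact Submodule.subset_span ⟨_, _, rfl⟩
      rw [h3]
      exact Submodule.subset_span ⟨(j, i), by simpa using h2, rfl⟩
  | zero => rw [map_zero]; exact Submodule.zero_mem _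
  | add x y _ _ hx hy => rw [map_add]; exact Submodule.add_mem _ (hx trivial) (hy trivial)
  | smul a x _ hx => rw [map_smul]; exact Submodule.smul_mem _ _ (hx trivial)

theorem bc_sq [FiniteDimensional k V] (hζ : IsPrimitiveRoot ζ N) (hN : (N : k) ≠ 0) (hg : g ^ N = 1)
    {z : ℂ} (hz : z ^ N = 1) : bc (Sq ρ) g ζ N z = ((bc ρ g ζ N z) ^ 2 + bc ρ g ζ N (z ^ 2)) / 2 := by
  classical
  have hg1 : ρ g ^ N = 1 := by rw [← map_pow, hg, map_one]
  have hg2 : (ρ.tprod ρ) g ^ N = 1 := by rw [← map_pow, hg, map_one]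
  have hg3 : (subRep (ρ.tprod ρ) (Alt k V) (alt_inv ρ)) g ^ N = 1 := by rw [← map_pow, hg, map_one]
  have hg4 : (Sq ρ) g ^ N = 1 := by rw [← map_pow, hg, map_one]
  have hN0 : 0 < N := Nat.pos_of_ne_zero (by
    rintro rfl
    exact hN Nat.cast_zero)
  have hζ0 : ζ ≠ 0 := hζ.ne_zero hN0.ne'
  have hz0 : z ≠ 0 := by
    rintro rfl
    rw [zero_pow hN0.ne'] at hz
    exact zero_ne_one hz
  obtain ⟨n, v, e, he⟩ : ∃ (n : ℕ) (v : Module.Basis (Fin n) k V) (e : Fin n → ℤ), ∀ i, ρ g (v i) = ζ ^ (e i) • v i :=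
    ⟨_, exists_eigbasis (ρ := ρ) hζ hN hg1⟩
  have hz1 : ∀ m : ℤ, (ζ ^ m) ^ N = 1 := by
    intro m
    rw [← zpow_natCast, zpow_comm, zpow_natCast, hζ.pow_eq_one, one_zpow]
  have hz2 : ∀ m : ℕ, (ζ ^ m) ^ N = 1 := by
    intro m
    have := hz1 m
    rwa [zpow_natCast] at this
  have hT : ∀ x : Fin n × Fin n, (ρ.tprod ρ) g (v x.1 ⊗ₜ[k] v x.2) = ζ ^ (e x.1 + e x.2) • (v x.1 ⊗ₜ[k] v x.2) := by
    intro x
    rw [Representation.tprod_apply, TensorProduct.map_tmul, he, he, TensorProduct.smul_tmul_smul, zpow_add₀ hζ0]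
  -- the eigenspaces of `Alt`
  have hA : ∀ j : ℕ, Module.finrank k (eig (subRep (ρ.tprod ρ) (Alt k V) (alt_inv ρ)) g (ζ ^ j)) ≤
      ((Finset.univ.filter fun x : Fin n × Fin n => x.1 < x.2).filter fun x => ζ ^ (e x.1 + e x.2) = ζ ^ j).card := by
    intro j
    refine finrank_eig_le_span hN hg3 (Finset.univ.filter fun x : Fin n × Fin n => x.1 < x.2)
      (fun x => (⟨v x.1 ⊗ₜ[k] v x.2 - v x.2 ⊗ₜ[k] v x.1, Submodule.subset_span ⟨_, _, rfl⟩⟩ : Alt k V))
      (fun x => ζ ^ (e x.1 + e x.2)) (fun x _ => hz1 _) (fun x _ => ?_) ?_ (hz2 j)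
    · apply Subtype.ext
      rw [coe_subRep]
      show (ρ.tprod ρ) g (v x.1 ⊗ₜ[k] v x.2 - v x.2 ⊗ₜ[k] v x.1) = ζ ^ (e x.1 + e x.2) • (v x.1 ⊗ₜ[k] v x.2 - v x.2 ⊗ₜ[k] v x.1)
      rw [map_sub, hT x, hT (x.2, x.1), smul_sub, add_comm (e x.2)]
    · apply Submodule.map_injective_of_injective (Alt k V).injective_subtype
      rw [Submodule.map_span, Submodule.map_top, Submodule.range_subtype, ← Set.image_comp]
      exact span_alt v
  have hB : ∀ j : ℕ, Module.finrank k (eig (Sq ρ) g (ζ ^ j)) ≤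
      ((Finset.univ.filter fun x : Fin n × Fin n => x.1 ≤ x.2).filter fun x => ζ ^ (e x.1 + e x.2) = ζ ^ j).card := by
    intro j
    refine finrank_eig_le_span hN hg4 (Finset.univ.filter fun x : Fin n × Fin n => x.1 ≤ x.2)
      (fun x => (Alt k V).mkQ (v x.1 ⊗ₜ[k] v x.2))
      (fun x => ζ ^ (e x.1 + e x.2)) (fun x _ => hz1 _) (fun x _ => ?_) (span_sq v) (hz2 j)
    unfold Sq
    rw [quotRep_mk, hT, map_smul]
  have hC : ∀ j : ℕ, Module.finrank k (eig (Sq ρ) g (ζ ^ j)) =
      ((Finset.univ.filter fun x : Fin n × Fin n => x.1 ≤ x.2).filter fun x => ζ ^ (e x.1 + e x.2) = ζ ^ j).card := by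
    intro j
    have h1 := finrank_eig (ρ.tprod ρ) (Alt k V) (alt_inv ρ) hg2 hN (hz2 j) (pow_ne_zero _ hζ0)
    rw [finrank_eig_basis (v.tensorProduct v) (fun x => ζ ^ (e x.1 + e x.2)) (fun x => by
      rw [Module.Basis.tensorProduct_apply']; exact hT x)] at h1
    have h2 : (Finset.univ.filter fun x : Fin n × Fin n => ζ ^ (e x.1 + e x.2) = ζ ^ j).card =
        ((Finset.univ.filter fun x : Fin n × Fin n => x.1 < x.2).filter fun x => ζ ^ (e x.1 + e x.2) = ζ ^ j).card +
        ((Finset.univ.filter fun x : Fin n × Fin n => x.1 ≤ x.2).filter fun x => ζ ^ (e x.1 + e x.2) = ζ ^ j).card := by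
      have h3 : ((Finset.univ.filter fun x : Fin n × Fin n => x.1 < x.2).filter fun x => ζ ^ (e x.1 + e x.2) = ζ ^ j).card =
          ((Finset.univ.filter fun x : Fin n × Fin n => x.2 < x.1).filter fun x => ζ ^ (e x.1 + e x.2) = ζ ^ j).card := by
        refine Finset.card_bij' (fun x _ => (x.2, x.1)) (fun x _ => (x.2, x.1)) ?_ ?_ (fun _ _ => rfl) (fun _ _ => rfl)
        · intro x hx
          simp only [Finset.mem_filter, Finset.mem_univ, true_and] at hx ⊢
          exact ⟨hx.1, by rw [add_comm]; exact hx.2⟩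
        · intro x hx
          simp only [Finset.mem_filter, Finset.mem_univ, true_and] at hx ⊢
          exact ⟨hx.1, by rw [add_comm]; exact hx.2⟩
      rw [h3, ← Finset.card_union_of_disjoint]
      · congr 1
        ext x
        simp only [Finset.mem_filter, Finset.mem_univ, true_and, Finset.mem_union]
        constructor
        · intro h
          rcases lt_or_ge x.2 x.1 with h4 | h4
          · exact Or.inl ⟨h4, h⟩
          · exact Or.inr ⟨h4, h⟩
        · rintro (h | h)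
          · exact h.2
          · exact h.2
      · rw [Finset.disjoint_left]
        intro x hx hx'
        simp only [Finset.mem_filter, Finset.mem_univ, true_and] at hx hx'
        exact absurd hx.1 (not_lt.2 hx'.1)
    rw [h2] at h1
    have h3 := hA j
    have h4 := hB j
    have h5 : Module.finrank k (eig (quotRep (ρ.tprod ρ) (Alt k V) (alt_inv ρ)) g (ζ ^ j)) =
      Module.finrank k (eig (Sq ρ) g (ζ ^ j)) := rfl
    omega
  have hD : bc (Sq ρ) g ζ N z = ∑ x ∈ Finset.univ.filter (fun x : Fin n × Fin n => x.1 ≤ x.2), z ^ (e x.1 + e x.2) := by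
    rw [← count_sum _ (fun x : Fin n × Fin n => e x.1 + e x.2) hζ hN0 hz]
    unfold bc
    exact Finset.sum_congr rfl fun j _ => by rw [hC j]
  have hz3 : (z ^ 2) ^ N = 1 := by rw [← pow_mul, mul_comm, pow_mul, hz, one_pow]
  rw [hD, bc_basis v e he hζ hN0 hz, bc_basis v e he hζ hN0 hz3, eq_div_iff two_ne_zero, sq, Finset.sum_mul_sum,
    ← Finset.sum_product']
  have h1 : ∑ x ∈ Finset.univ.filter (fun x : Fin n × Fin n => x.1 ≤ x.2), z ^ (e x.1 + e x.2) =
      ∑ x ∈ Finset.univ.filter (fun x : Fin n × Fin n => x.2 ≤ x.1), z ^ (e x.1 + e x.2) := by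
    refine Finset.sum_nbij' (fun x => (x.2, x.1)) (fun x => (x.2, x.1)) ?_ ?_ (fun _ _ => rfl) (fun _ _ => rfl) ?_
    · intro x hx
      simp only [Finset.mem_filter, Finset.mem_univ, true_and] at hx ⊢
      exact hx
    · intro x hx
      simp only [Finset.mem_filter, Finset.mem_univ, true_and] at hx ⊢
      exact hx
    · intro x _
      rw [add_comm]
  have h2 : ∑ i, (z ^ 2) ^ e i = ∑ x ∈ Finset.univ.filter (fun x : Fin n × Fin n => x.1 = x.2), z ^ (e x.1 + e x.2) := by
    refine Finset.sum_nbij' (fun i => (i, i)) (fun x => x.1) ?_ ?_ (fun _ _ => rfl) ?_ ?_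
    · intro i _
      simp
    · intro i _
      simp
    · intro x hx
      simp only [Finset.mem_filter, Finset.mem_univ, true_and] at hx
      exact Prod.ext rfl hx
    · intro i _
      rw [← zpow_natCast, ← zpow_mul]
      congr 1
      push_cast
      ring
  have h3 : ∑ x ∈ Finset.univ ×ˢ Finset.univ, z ^ e x.1 * z ^ e x.2 = ∑ x : Fin n × Fin n, z ^ (e x.1 + e x.2) := by
    rw [Finset.univ_product_univ]
    exact Finset.sum_congr rfl fun x _ => by rw [zpow_add₀ hz0]
  rw [h3, h2, mul_two]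
  nth_rewrite 2 [h1]
  have h4 := Finset.sum_union_inter (s₁ := Finset.univ.filter (fun x : Fin n × Fin n => x.1 ≤ x.2))
    (s₂ := Finset.univ.filter (fun x : Fin n × Fin n => x.2 ≤ x.1)) (f := fun x : Fin n × Fin n => z ^ (e x.1 + e x.2))
  rw [← h4]
  congr 1
  · refine Finset.sum_congr ?_ fun _ _ => rfl
    ext x
    simp only [Finset.mem_filter, Finset.mem_univ, true_and, Finset.mem_union, iff_true]
    exact le_total _ _
  · refine Finset.sum_congr ?_ fun _ _ => rfl
    ext x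
    simp only [Finset.mem_filter, Finset.mem_univ, true_and, Finset.mem_inter]
    exact ⟨fun h => le_antisymm h.1 h.2, fun h => ⟨h.le, h.ge⟩⟩

end gen

end Cfsg.Agent.R2.H28.SL2
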