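import Cfsg.Agent.R2.H28.SL2.HOne

/-!
# The simple modules of `SL(2, q)` with non-trivial first cohomology (helper28)

* `exc_odd` : `p` odd, `Exc p a b i` : `a = 1` and `b = p - 3`, or `a ≥ 2` and `b = (p - 2) p ^ i + p ^ ((i + 1) % a)`;
* `exc_two` : `p = 2` : `a = 1` and `b = 0`, or `a ≥ 2` and `b = 2 ^ ((i + 1) % a)`;
* `hb_le_one` : `hb p a b ≤ 1` unless `p ^ a = 9`.
-/

set_option autoImplicit false
set_option linter.unusedSectionVars false

namespace Cfsg.Agent.R2.H28.SL2

/-- the digits of `p ^ a - 1` -/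
theorem dg_top {p a i : ℕ} (hp : 1 < p) (hi : i < a) : (p ^ a - 1) / p ^ i % p = p - 1 := by
  obtain ⟨d, rfl⟩ : ∃ d, a = i + (d + 1) := ⟨a - i - 1, by omega⟩
  have hpi : 0 < p ^ i := Nat.pow_pos (by omega)
  have hpd : 0 < p ^ d := Nat.pow_pos (by omega)
  have h1 : (p ^ (i + (d + 1)) - 1) / p ^ i = p ^ (d + 1) - 1 := by
    rw [pow_add]
    have h2 : p ^ i * p ^ (d + 1) - 1 = p ^ i * (p ^ (d + 1) - 1) + (p ^ i - 1) := by
      have h3 : 0 < p ^ (d + 1) := Nat.pow_pos (by omega)
      have h4 : p ^ i * (p ^ (d + 1) - 1) + p ^ i = p ^ i * p ^ (d + 1) := by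
        rw [← Nat.mul_succ, Nat.succ_eq_add_one, Nat.sub_add_cancel h3]
      omega
    rw [h2, Nat.mul_add_div hpi, Nat.div_eq_of_lt (by omega), add_zero]
  rw [h1, pow_succ]
  have h3 : p ^ d * p - 1 = p * (p ^ d - 1) + (p - 1) := by
    have h4 : p * (p ^ d - 1) + p = p ^ d * p := by
      rw [← Nat.mul_succ, Nat.succ_eq_add_one, Nat.sub_add_cancel hpd, mul_comm]
    omega
  rw [h3, Nat.mul_add_mod, Nat.mod_eq_of_lt (by omega)]

theorem exc_lt {p a b i : ℕ} (hp : 1 < p) (hi : i < a) (hb : b < p ^ a) (hE : Exc p a b i) : b < p ^ a - 1 := by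
  by_contra hc
  have h1 : b = p ^ a - 1 := by omega
  have h2 := hE.1
  rw [h1, dg_top hp hi] at h2
  omega

/-- **the exceptional modules, `p` odd** -/
theorem exc_odd {p a b i : ℕ} (hp : p.Prime) (hp2 : p ≠ 2) (hi : i < a) (hb : b < p ^ a) (hE : Exc p a b i) :
    (a = 1 ∧ b = p - 3) ∨ (2 ≤ a ∧ b = (p - 2) * p ^ i + p ^ ((i + 1) % a)) := by
  have hp1 := hp.one_lt
  have hp3 : 3 ≤ p := by omega
  have hodd : p % 2 = 1 := (hp.eq_two_or_odd).resolve_left hp2
  have hlt := exc_lt hp1 hi hb hE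
  obtain ⟨hE1, hE2⟩ := hE
  rw [Nat.mod_eq_of_lt hlt] at hE2
  have hpi : 0 < p ^ i := Nat.pow_pos (by omega)
  have hpa : p ^ i * p ≤ p ^ a := by
    rw [← pow_succ]
    exact Nat.pow_le_pow_right (by omega) hi
  unfold en at hE2
  set c := b / p ^ i % p with hc
  have e1 : 2 * ((c + 1) * p ^ i) = (2 * (c + 1)) * p ^ i := by ring
  rw [e1] at hE2
  rcases Nat.lt_or_ge (2 * (c + 1)) p with hs | hs
  · -- small
    have h1 : 2 * (c + 1) * p ^ i ≤ p ^ a - 1 := by
      have h2 : 2 * (c + 1) * p ^ i < p * p ^ i := Nat.mul_lt_mul_of_pos_right hs hpi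
      rw [mul_comm p] at h2
      omega
    rcases Nat.lt_or_ge (2 * (c + 1) * p ^ i) (p ^ a - 1) with h2 | h2
    · exfalso
      rw [Nat.mod_eq_of_lt h2] at hE2
      rw [← hE2, Nat.mul_div_cancel _ hpi, Nat.mod_eq_of_lt hs] at hc
      omega
    · have h3 : 2 * (c + 1) * p ^ i = p ^ a - 1 := by omega
      rw [h3, Nat.mod_self] at hE2
      have hc0 : c = 0 := by
        rw [hc, ← hE2, Nat.zero_div, Nat.zero_mod]
      have hi0 : i = 0 := by
        by_contra h
        have h4 : p ∣ p ^ a - 1 := by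
          rw [← h3]
          exact Dvd.dvd.mul_left (dvd_pow_self p h) _
        have h5 : p ∣ p ^ a := dvd_pow_self p (by omega)
        have h6 := Nat.dvd_sub h5 h4
        rw [Nat.sub_sub_self (by omega)] at h6
        exact hp.one_lt.ne' (Nat.dvd_one.1 h6)
      rw [hc0, hi0, pow_zero] at h3
      have h4 : p ^ a = 3 := by omega
      have h5 : p ≤ p ^ a := Nat.le_self_pow (by omega) p
      have h6 : p = 3 := by omega
      left
      refine ⟨?_, by omega⟩
      rw [h6] at h4
      by_contra h7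
      have h8 : 3 ^ 2 ≤ 3 ^ a := Nat.pow_le_pow_right (by norm_num) (by omega)
      omega
  · obtain ⟨s, hs'⟩ : ∃ s, 2 * (c + 1) = p + s := ⟨2 * (c + 1) - p, by omega⟩
    have hs1 : s ≤ p - 2 := by omega
    have hs0 : 1 ≤ s := by omega
    rcases Nat.lt_or_ge (i + 1) a with hia | hia
    · right
      have hpa2 : p ^ i * p * p ≤ p ^ a := by
        rw [← pow_succ, ← pow_succ]
        exact Nat.pow_le_pow_right (by omega) hia
      have h1 : 2 * (c + 1) * p ^ i < p ^ a - 1 := by
        have h2 : 2 * (c + 1) * p ^ i + 2 * p ^ i ≤ (2 * p) * p ^ i := by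
          rw [← add_mul]
          exact Nat.mul_le_mul_right _ (by omega)
        have h3 : 2 * p * p ^ i ≤ p ^ i * p * p := by
          calc 2 * p * p ^ i ≤ p * p * p ^ i := Nat.mul_le_mul_right _ (Nat.mul_le_mul_right _ (by omega))
            _ = p ^ i * p * p := by ring
        omega
      rw [Nat.mod_eq_of_lt h1] at hE2
      have h4 : c = s := by
        rw [hc, ← hE2, Nat.mul_div_cancel _ hpi, hs', Nat.add_mod_left, Nat.mod_eq_of_lt (by omega)]
      refine ⟨by omega, ?_⟩
      rw [Nat.mod_eq_of_lt hia, ← hE2, hs', show p - 2 = s by omega, pow_succ]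
      ring
    · have hia' : a = i + 1 := by omega
      have hpa2 : p ^ a = p ^ i * p := by rw [hia', pow_succ]
      have h1 : 2 * (c + 1) * p ^ i = (p ^ a - 1) + (1 + s * p ^ i) := by
        rw [hs', add_mul, hpa2, mul_comm p (p ^ i)]
        have : 0 < p ^ i * p := Nat.mul_pos hpi (by omega)
        omega
      rw [h1, Nat.add_mod_left] at hE2
      have h5 : s * p ^ i + 2 * p ^ i ≤ p ^ a := by
        rw [hpa2, ← add_mul, mul_comm (p ^ i)]
        exact Nat.mul_le_mul_right _ (by omega)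
      rcases Nat.eq_zero_or_pos i with hi0 | hi0
      · left
        subst hi0
        rw [pow_zero, mul_one] at hE2 h5
        rw [pow_zero, Nat.div_one] at hc
        rw [zero_add] at hia'
        rw [hia', pow_one] at hE2 hlt hb h5
        refine ⟨hia', ?_⟩
        rw [Nat.mod_eq_of_lt hb] at hc
        rcases Nat.lt_or_ge (1 + s) (p - 1) with h6 | h6
        · rw [Nat.mod_eq_of_lt h6] at hE2
          omega
        · have h7 : 1 + s = p - 1 := by omega
          rw [h7, Nat.mod_self] at hE2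
          omega
      · right
        have h6 : 1 + s * p ^ i < p ^ a - 1 := by
          have : p ≤ p ^ i := Nat.le_self_pow (by omega) p
          omega
        rw [Nat.mod_eq_of_lt h6] at hE2
        have h7 : c = s := by
          have h8 : 1 < p ^ i := Nat.one_lt_pow (by omega) hp1
          rw [hc, ← hE2, add_comm, mul_comm, Nat.mul_add_div hpi, Nat.div_eq_of_lt h8, add_zero,
            Nat.mod_eq_of_lt (by omega)]
        refine ⟨by omega, ?_⟩
        rw [← hE2, show p - 2 = s by omega, hia', Nat.mod_self, pow_zero, add_comm]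

/-- **the exceptional modules, `p = 2`** -/
theorem exc_two {a b i : ℕ} (hi : i < a) (hb : b < 2 ^ a) (hE : Exc 2 a b i) :
    (a = 1 ∧ b = 0) ∨ (2 ≤ a ∧ b = 2 ^ ((i + 1) % a)) := by
  have hlt := exc_lt (by norm_num) hi hb hE
  obtain ⟨hE1, hE2⟩ := hE
  rw [Nat.mod_eq_of_lt hlt] at hE2
  unfold en at hE2
  have hc : b / 2 ^ i % 2 = 0 := by omega
  rw [hc, zero_add, one_mul] at hE2
  rcases Nat.lt_or_ge (i + 1) a with hia | hia
  · right
    refine ⟨by omega, ?_⟩
    have h1 : 2 ^ (i + 1) * 2 ≤ 2 ^ a := by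
      rw [← pow_succ]
      exact Nat.pow_le_pow_right (by norm_num) hia
    have h3 : 0 < 2 ^ i := Nat.pow_pos (by norm_num)
    have h2 : 2 ^ (i + 1) = 2 * 2 ^ i := by rw [pow_succ, mul_comm]
    rw [← h2, Nat.mod_eq_of_lt (by omega)] at hE2
    rw [Nat.mod_eq_of_lt hia, hE2]
  · have hia' : a = i + 1 := by omega
    have h2 : 2 * 2 ^ i = (2 ^ a - 1) + 1 := by
      rw [hia', pow_succ, mul_comm]
      have : 0 < 2 ^ i := Nat.pow_pos (by norm_num)
      omega
    rw [h2, Nat.add_mod_left] at hE2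
    rcases Nat.eq_zero_or_pos i with hi0 | hi0
    · left
      subst hi0
      rw [zero_add] at hia'
      subst hia'
      norm_num at hlt
      exact ⟨rfl, hlt⟩
    · right
      refine ⟨by omega, ?_⟩
      have h3 : 2 ^ 2 ≤ 2 ^ a := Nat.pow_le_pow_right (by norm_num) (by omega)
      rw [Nat.mod_eq_of_lt (by omega)] at hE2
      rw [← hE2, hia', Nat.mod_self, pow_zero]

/-- the digits of a sum of two powers -/
theorem dg_two {p c i j l : ℕ} (hp : 1 < p) (hij : i ≠ j) (hc : c < p) :
    (c * p ^ i + p ^ j) / p ^ l % p = if l = i then c else if l = j then 1 else 0 := by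
  have h1 : ∀ m n : ℕ, m < p ^ n → ∀ d l : ℕ, (m + d * p ^ n) / p ^ l % p =
      if l < n then m / p ^ l % p else d / p ^ (l - n) % p := by
    intro m n hm d l
    split_ifs with h
    · obtain ⟨e, rfl⟩ : ∃ e, n = l + (e + 1) := ⟨n - l - 1, by omega⟩
      have h2 : m + d * p ^ (l + (e + 1)) = m + p ^ l * (d * p ^ e * p) := by ring
      rw [h2, Nat.add_mul_div_left _ _ (Nat.pow_pos (by omega)), Nat.add_mul_mod_self_right]
    · obtain ⟨e, rfl⟩ : ∃ e, l = n + e := ⟨l - n, by omega⟩
      rw [pow_add, ← Nat.div_div_eq_div_mul, Nat.add_mul_div_right _ _ (Nat.pow_pos (by omega)),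
        Nat.div_eq_of_lt hm, zero_add, Nat.add_sub_cancel_left]
  rcases Nat.lt_or_gt_of_ne hij with h | h
  · have h2 : c * p ^ i < p ^ j := by
      calc c * p ^ i < p * p ^ i := Nat.mul_lt_mul_of_pos_right hc (Nat.pow_pos (by omega))
        _ = p ^ (i + 1) := by rw [pow_succ, mul_comm]
        _ ≤ p ^ j := Nat.pow_le_pow_right (by omega) (by omega)
    have h3 := h1 (c * p ^ i) j h2 1 l
    rw [one_mul, dg_single hp hc] at h3
    rw [h3]
    by_cases hlj : l < j
    · rw [if_pos hlj, if_neg (show l ≠ j by omega)]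
    · rw [if_neg hlj, if_neg (show l ≠ i by omega)]
      have h4 := dg_single hp (show 1 < p from hp) 0 (l - j)
      rw [pow_zero, one_mul] at h4
      rw [h4]
      by_cases hl : l = j
      · rw [if_pos hl, if_pos (by omega)]
      · rw [if_neg hl, if_neg (by omega)]
  · have h2 : p ^ j < p ^ i := Nat.pow_lt_pow_right hp h
    have h3 := h1 (p ^ j) i h2 c l
    rw [add_comm] at h3
    rw [h3]
    have h5 := dg_single hp (show 1 < p from hp) j l
    rw [one_mul] at h5
    by_cases hlj : l < i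
    · rw [if_pos hlj, if_neg (show l ≠ i by omega), h5]
    · rw [if_neg hlj]
      have h4 := dg_single hp hc 0 (l - i)
      rw [pow_zero, mul_one] at h4
      rw [h4]
      by_cases hl : l = i
      · rw [if_pos hl, if_pos (by omega)]
      · rw [if_neg hl, if_neg (by omega), if_neg (by omega)]

theorem succ_mod_ne {a i : ℕ} (ha : 2 ≤ a) (hi : i < a) : i ≠ (i + 1) % a := by
  rcases Nat.lt_or_ge (i + 1) a with h | h
  · rw [Nat.mod_eq_of_lt h]
    omega
  · have h1 : i + 1 = a := by omega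
    rw [h1, Nat.mod_self]
    omega

/-- **at most one exceptional digit** -/
theorem hb_le_one {p a b : ℕ} (hp : p.Prime) (hb' : b < p ^ a) (h9 : p ^ a ≠ 9) : hb p a b ≤ 1 := by
  unfold hb
  rw [Finset.card_le_one]
  intro i hi j hj
  rw [Finset.mem_filter, Finset.mem_range] at hi hj
  by_contra hij
  have ha2 : 2 ≤ a := by omega
  have hp1 := hp.one_lt
  by_cases hp2 : p = 2
  · subst hp2
    have e1 := (exc_two hi.1 hb' hi.2).resolve_left (by omega)
    have e2 := (exc_two hj.1 hb' hj.2).resolve_left (by omega)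
    have e3 : 2 ^ ((i + 1) % a) = 2 ^ ((j + 1) % a) := by rw [← e1.2, e2.2]
    have e4 := Nat.pow_right_injective (le_refl 2) e3
    apply hij
    rcases Nat.lt_or_ge (i + 1) a with h1 | h1 <;> rcases Nat.lt_or_ge (j + 1) a with h2 | h2
    · rw [Nat.mod_eq_of_lt h1, Nat.mod_eq_of_lt h2] at e4
      omega
    · rw [Nat.mod_eq_of_lt h1, show j + 1 = a by omega, Nat.mod_self] at e4
      omega
    · rw [Nat.mod_eq_of_lt h2, show i + 1 = a by omega, Nat.mod_self] at e4
      omega
    · omega
  · have e1 := (exc_odd hp hp2 hi.1 hb' hi.2).resolve_left (by omega)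
    have e2 := (exc_odd hp hp2 hj.1 hb' hj.2).resolve_left (by omega)
    have d1 : ∀ l, b / p ^ l % p = if l = i then p - 2 else if l = (i + 1) % a then 1 else 0 := by
      intro l
      rw [e1.2]
      exact dg_two hp1 (succ_mod_ne ha2 hi.1) (by omega)
    have d2 : ∀ l, b / p ^ l % p = if l = j then p - 2 else if l = (j + 1) % a then 1 else 0 := by
      intro l
      rw [e2.2]
      exact dg_two hp1 (succ_mod_ne ha2 hj.1) (by omega)
    have f1 := (d1 i).symm.trans (d2 i)
    rw [if_pos rfl, if_neg hij] at f1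
    have f2 := (d2 j).symm.trans (d1 j)
    rw [if_pos rfl, if_neg (Ne.symm hij)] at f2
    have hp3 : 3 ≤ p := by omega
    have g1 : i = (j + 1) % a := by
      by_contra h
      rw [if_neg h] at f1
      omega
    have g2 : j = (i + 1) % a := by
      by_contra h
      rw [if_neg h] at f2
      omega
    rw [if_pos g1] at f1
    have hp3' : p = 3 := by omega
    apply h9
    have ha : a = 2 := by
      rcases Nat.lt_or_ge (i + 1) a with h1 | h1 <;> rcases Nat.lt_or_ge (j + 1) a with h2 | h2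
      · rw [Nat.mod_eq_of_lt h1] at g2
        rw [Nat.mod_eq_of_lt h2] at g1
        omega
      · rw [Nat.mod_eq_of_lt h1] at g2
        rw [show j + 1 = a by omega, Nat.mod_self] at g1
        omega
      · rw [Nat.mod_eq_of_lt h2] at g1
        rw [show i + 1 = a by omega, Nat.mod_self] at g2
        omega
      · omega
    rw [hp3', ha]
    norm_num

end Cfsg.Agent.R2.H28.SL2
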