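import Cfsg.Agent.R2.H28.SL2.Dgt
import Cfsg.Agent.R2.H28.SL2.ExcB

/-!
# Tensor products without overflow (helper28)

`cs_cg` : `V_b ⊗ V_d` when no digit overflows; `mem_cg` : the digits of the factors.
-/

set_option autoImplicit false
set_option linter.unusedSectionVars false

namespace Cfsg.Agent.R2.H28.SL2

open Cfsg.Agent.H943.SL2Rel Cfsg.Agent.H943.SL2Mod

/-- Clebsch-Gordan for one digit -/
def cgd (r s : ℕ) : Multiset ℕ := (Multiset.range (min r s + 1)).map fun j => r + s - 2 * j

theorem mem_cgd {r s t : ℕ} (h : t ∈ cgd r s) : t ≤ r + s ∧ r ≤ s + t ∧ s ≤ r + t ∧ (r + s + t) % 2 = 0 := by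
  unfold cgd at h
  obtain ⟨j, hj, rfl⟩ := Multiset.mem_map.1 h
  have := Multiset.mem_range.1 hj
  omega

theorem zero_mem_cgd (r : ℕ) : 0 ∈ cgd r r := by
  unfold cgd
  refine Multiset.mem_map.2 ⟨r, Multiset.mem_range.2 ?_, ?_⟩
  · rw [min_self]
    omega
  · omega

theorem nodup_cgd (r s : ℕ) : (cgd r s).Nodup := by
  unfold cgd
  refine Multiset.Nodup.map_on ?_ (Multiset.nodup_range _)
  intro i hi j hj h
  have h1 := Multiset.mem_range.1 hi
  have h2 := Multiset.mem_range.1 hj
  omega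

/-- the factors of `V_b ⊗ V_d` -/
def cg (p : ℕ) : ℕ → ℕ → ℕ → Multiset ℕ
  | 0, _, _ => {0}
  | n + 1, b, d => (cgd (b % p) (d % p)).bind fun t => (cg p n (b / p) (d / p)).map fun c => p * c + t

theorem digit_zero {p c t : ℕ} (ht : t < p) : (p * c + t) / p ^ 0 % p = t := by
  rw [pow_zero, Nat.div_one, Nat.mul_add_mod, Nat.mod_eq_of_lt ht]

theorem digit_succ {p c t : ℕ} (ht : t < p) (i : ℕ) : (p * c + t) / p ^ (i + 1) % p = c / p ^ i % p := by
  rw [pow_succ', ← Nat.div_div_eq_div_mul, Nat.mul_add_div (by omega), Nat.div_eq_of_lt ht, add_zero]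

theorem digit_shift {p : ℕ} (b i : ℕ) : b / p ^ (i + 1) % p = b / p / p ^ i % p := by
  rw [pow_succ', ← Nat.div_div_eq_div_mul]

/-- **the digits of the factors** -/
theorem mem_cg {p : ℕ} (hp : 0 < p) (n : ℕ) : ∀ {b d c : ℕ}, (∀ i < n, b / p ^ i % p + d / p ^ i % p < p) → c ∈ cg p n b d →
    c < p ^ n ∧ ∀ i < n, c / p ^ i % p ≤ b / p ^ i % p + d / p ^ i % p ∧ b / p ^ i % p ≤ d / p ^ i % p + c / p ^ i % p ∧
      d / p ^ i % p ≤ b / p ^ i % p + c / p ^ i % p ∧ (b / p ^ i % p + d / p ^ i % p + c / p ^ i % p) % 2 = 0 := by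
  induction n with
  | zero =>
    intro b d c _ hc
    unfold cg at hc
    rw [Multiset.mem_singleton] at hc
    subst hc
    exact ⟨Nat.pow_pos hp, fun i hi => absurd hi (Nat.not_lt_zero i)⟩
  | succ n ih =>
    intro b d c hbd hc
    unfold cg at hc
    rw [Multiset.mem_bind] at hc
    obtain ⟨t, ht, hc⟩ := hc
    obtain ⟨c', hc', rfl⟩ := Multiset.mem_map.1 hc
    have h1 := mem_cgd ht
    have h2 := hbd 0 (Nat.succ_pos n)
    rw [pow_zero, Nat.div_one, Nat.div_one] at h2
    have htp : t < p := by omega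
    obtain ⟨h3, h4⟩ := ih (b := b / p) (d := d / p) (fun i hi => by
      have := hbd (i + 1) (by omega)
      rwa [digit_shift, digit_shift] at this) hc'
    refine ⟨?_, fun i hi => ?_⟩
    · rw [pow_succ']
      have h5 : p * (c' + 1) ≤ p * p ^ n := Nat.mul_le_mul_left p h3
      rw [Nat.mul_succ] at h5
      omega
    · rcases Nat.eq_zero_or_pos i with rfl | hi0
      · rw [digit_zero htp, pow_zero, Nat.div_one, Nat.div_one]
        omega
      · obtain ⟨i, rfl⟩ : ∃ i', i = i' + 1 := ⟨i - 1, by omega⟩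
        rw [digit_succ htp, digit_shift, digit_shift]
        exact h4 i (by omega)

theorem zero_mem_cg (p n b : ℕ) : 0 ∈ cg p n b b := by
  induction n generalizing b with
  | zero =>
    unfold cg
    exact Multiset.mem_singleton_self 0
  | succ n ih =>
    unfold cg
    rw [Multiset.mem_bind]
    exact ⟨0, zero_mem_cgd _, Multiset.mem_map.2 ⟨0, ih _, rfl⟩⟩

theorem nodup_cg {p : ℕ} (n : ℕ) : ∀ {b d : ℕ}, (∀ i < n, b / p ^ i % p + d / p ^ i % p < p) → (cg p n b d).Nodup := by
  induction n with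
  | zero =>
    intro b d _
    unfold cg
    exact Multiset.nodup_singleton 0
  | succ n ih =>
    intro b d hbd
    unfold cg
    rw [Multiset.nodup_bind]
    have h2 := hbd 0 (Nat.succ_pos n)
    rw [pow_zero, Nat.div_one, Nat.div_one] at h2
    have h3 : ∀ t ∈ cgd (b % p) (d % p), t < p := fun t ht => by
      have := mem_cgd ht
      omega
    refine ⟨fun t ht => ?_, ?_⟩
    · refine Multiset.Nodup.map_on ?_ (ih fun i hi => by
        have := hbd (i + 1) (by omega)
        rwa [digit_shift, digit_shift] at this)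
      intro x _ y _ hxy
      have h4 : p * x = p * y := by omega
      have h5 := h3 t ht
      exact Nat.eq_of_mul_eq_mul_left (by omega) h4
    · refine (nodup_cgd _ _).pairwise fun s hs t ht hst => ?_
      rw [Function.onFun, Multiset.disjoint_left]
      intro x hx hx'
      obtain ⟨y, -, rfl⟩ := Multiset.mem_map.1 hx
      obtain ⟨y', -, h4⟩ := Multiset.mem_map.1 hx'
      apply hst
      have h5 := congrArg (· % p) h4
      simp only [Nat.mul_add_mod] at h5
      rw [Nat.mod_eq_of_lt (h3 s hs), Nat.mod_eq_of_lt (h3 t ht)] at h5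
      exact h5.symm

section

variable (k : Type*) [Field k] [DecidableEq k] (p : ℕ) [Fact p.Prime] [CharP k p]

theorem cs_bind (m : Multiset ℕ) (f : ℕ → Multiset ℕ) (z : ℂ) : cs k (m.bind f) z = (m.map fun t => cs k (f t) z).sum := by
  unfold cs
  rw [Multiset.map_bind, Multiset.sum_bind]

theorem cs_shift {t : ℕ} (ht : t < p) (s : Multiset ℕ) (z : ℂ) :
    cs k (s.map fun c => p * c + t) z = chi t z * cs k s (z ^ p) := by
  unfold cs
  rw [Multiset.map_map, ← Multiset.sum_map_mul_left]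
  congr 1
  refine Multiset.map_congr rfl fun c _ => ?_
  exact chB_mul k p c ht z

theorem sum_cgd (r s : ℕ) {z : ℂ} (hz : z ≠ 0) : ((cgd r s).map fun t => chi t z).sum = chi r z * chi s z := by
  unfold cgd
  rw [chi_mul' r s hz, Multiset.map_map, Finset.sum_eq_multiset_sum]
  rfl

theorem chB_low (b : ℕ) (z : ℂ) : chB k b z = chi (b % p) z * chB k (b / p) (z ^ p) := by
  have hp : p.Prime := Fact.out
  have h := chB_mul k p (b / p) (Nat.mod_lt b hp.pos) z
  rwa [Nat.div_add_mod] at h

/-- **tensor products without overflow** -/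
theorem cs_cg (n : ℕ) : ∀ {b d : ℕ}, b < p ^ n → d < p ^ n → (∀ i < n, b / p ^ i % p + d / p ^ i % p < p) → ∀ {z : ℂ}, z ≠ 0 →
    cs k (cg p n b d) z = chB k b z * chB k d z := by
  have hp : p.Prime := Fact.out
  induction n with
  | zero =>
    intro b d hb hd _ z _
    rw [pow_zero, Nat.lt_one_iff] at hb hd
    subst hb hd
    unfold cg
    rw [cs_singleton, chB_zero, mul_one]
  | succ n ih =>
    intro b d hb hd hbd z hz
    unfold cg
    rw [cs_bind]
    have h2 := hbd 0 (Nat.succ_pos n)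
    rw [pow_zero, Nat.div_one, Nat.div_one] at h2
    have h3 : ∀ t ∈ cgd (b % p) (d % p), cs k ((cg p n (b / p) (d / p)).map fun c => p * c + t) z =
        chi t z * (chB k (b / p) (z ^ p) * chB k (d / p) (z ^ p)) := by
      intro t ht
      have h4 := mem_cgd ht
      rw [cs_shift k p (by omega), ih (Nat.div_lt_of_lt_mul (by rwa [← pow_succ'])) (Nat.div_lt_of_lt_mul (by rwa [← pow_succ']))
        (fun i hi => by
          have := hbd (i + 1) (by omega)
          rwa [digit_shift, digit_shift] at this) (pow_ne_zero p hz)]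
    rw [Multiset.map_congr rfl h3, Multiset.sum_map_mul_right, sum_cgd _ _ hz, chB_low k p b, chB_low k p d]
    ring

end

/-! ## The exceptional factors -/

/-- the number of the exceptional factors -/
def Hs (p a : ℕ) (s : Multiset ℕ) : ℕ := (s.map (hb p a)).sum

theorem Hs_add (p a : ℕ) (s t : Multiset ℕ) : Hs p a (s + t) = Hs p a s + Hs p a t := by
  unfold Hs
  rw [Multiset.map_add, Multiset.sum_add]

theorem Hs_eq_zero {p a : ℕ} {s : Multiset ℕ} (h : ∀ b ∈ s, hb p a b = 0) : Hs p a s = 0 := by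
  unfold Hs
  rw [Multiset.map_congr rfl h]
  simp

theorem hb_eq_zero_of_digits {p a : ℕ} (hp : p.Prime) (hp2 : p ≠ 2) (ha : 2 ≤ a) {b : ℕ} (hb' : b < p ^ a)
    (h : ∀ i < a, b / p ^ i % p < p - 2) : hb p a b = 0 := by
  have hp1 := hp.one_lt
  unfold hb
  rw [Finset.card_eq_zero, Finset.filter_eq_empty_iff]
  intro i hi hE
  rw [Finset.mem_range] at hi
  rcases exc_odd hp hp2 hi hb' hE with h1 | h1
  · omega
  · have h2 := h i hi
    rw [h1.2, dg_two hp1 (succ_mod_ne ha hi) (by omega), if_pos rfl] at h2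
    omega

theorem Hs_cg_eq_zero {p a : ℕ} (hp : p.Prime) (hp2 : p ≠ 2) (ha : 2 ≤ a) {b d : ℕ}
    (h : ∀ i < a, b / p ^ i % p + d / p ^ i % p < p - 2) : Hs p a (cg p a b d) = 0 := by
  have hp1 := hp.one_lt
  refine Hs_eq_zero fun c hc => ?_
  obtain ⟨h1, h2⟩ := mem_cg hp.pos a (fun i hi => by have := h i hi; omega) hc
  exact hb_eq_zero_of_digits hp hp2 ha h1 fun i hi => lt_of_le_of_lt (h2 i hi).1 (h i hi)

/-- `Hs` of a nodup multiset counts -/
theorem Hs_le_of_unique {p a : ℕ} (hp : p.Prime) (h9 : p ^ a ≠ 9) {s : Multiset ℕ} (hs : s.Nodup) (hlt : ∀ b ∈ s, b < p ^ a)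
    (x : ℕ) (hu : ∀ b ∈ s, hb p a b ≠ 0 → b = x) : Hs p a s ≤ 1 := by
  classical
  unfold Hs
  induction s using Multiset.induction with
  | empty => simp
  | cons b s ih =>
    rw [Multiset.map_cons, Multiset.sum_cons]
    rw [Multiset.nodup_cons] at hs
    by_cases h0 : hb p a b = 0
    · rw [h0, zero_add]
      exact ih hs.2 (fun c hc => hlt c (Multiset.mem_cons_of_mem hc)) fun c hc => hu c (Multiset.mem_cons_of_mem hc)
    · have h1 := hb_le_one hp (hlt b (Multiset.mem_cons_self b s)) h9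
      have h2 : (s.map (hb p a)).sum = 0 := by
        have h3 : ∀ c ∈ s, hb p a c = 0 := by
          intro c hc
          by_contra h4
          have h5 := hu c (Multiset.mem_cons_of_mem hc) h4
          have h6 := hu b (Multiset.mem_cons_self b s) h0
          apply hs.1
          rw [h6, ← h5]
          exact hc
        rw [Multiset.map_congr rfl h3]
        simp
      omega

end Cfsg.Agent.R2.H28.SL2
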