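import Cfsg.Agent.R2.H28.SL2.Mult
import Mathlib.Analysis.SpecialFunctions.Trigonometric.Basic
import Mathlib.Algebra.Polynomial.Roots

/-!
# The characters of the modules `V_b` as functions on the complex roots of unity (helper28)

`chB b z = ∑_{m ∈ B_b} z ^ (2 m - b)`; `chB_mul` (Steinberg), `exists_R` : it is a monic polynomial of degree `b` in
`z + z⁻¹`; `chB_indep` : the `chB b`, `b < q`, are linearly independent on the `z` with `z ^ (q - 1) = 1` or
`z ^ (q + 1) = 1`.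
-/

set_option autoImplicit false
set_option linter.unusedSectionVars false

namespace Cfsg.Agent.R2.H28.SL2

open Cfsg.Agent.H943.SL2Rel Cfsg.Agent.H943.SL2Mod

/-- `z ^ n + z ^ (n - 2) + ... + z ^ (-n)` -/
noncomputable def chi (n : ℕ) (z : ℂ) : ℂ := ∑ j ∈ Finset.range (n + 1), z ^ j * z⁻¹ ^ (n - j)

theorem chi_zero (z : ℂ) : chi 0 z = 1 := by
  unfold chi
  simp

theorem chi_succ (n : ℕ) (z : ℂ) : chi (n + 1) z = z⁻¹ * chi n z + z ^ (n + 1) := by
  unfold chi
  rw [Finset.sum_range_succ, Nat.sub_self, pow_zero, mul_one, Finset.mul_sum]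
  congr 1
  refine Finset.sum_congr rfl fun j hj => ?_
  have h1 := Finset.mem_range.1 hj
  rw [show n + 1 - j = n - j + 1 by omega, pow_succ]
  ring

theorem chi_symm (n : ℕ) (z : ℂ) : chi n z⁻¹ = chi n z := by
  unfold chi
  rw [← Finset.sum_range_reflect]
  refine Finset.sum_congr rfl fun j hj => ?_
  have h1 := Finset.mem_range.1 hj
  rw [inv_inv, show n + 1 - 1 - j = n - j by omega, show n - (n - j) = j by omega, mul_comm]

theorem chi_succ' (n : ℕ) (z : ℂ) : chi (n + 1) z = z * chi n z + z⁻¹ ^ (n + 1) := by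
  rw [← chi_symm, chi_succ, chi_symm, inv_inv]

theorem chi_two (n : ℕ) {z : ℂ} (hz : z ≠ 0) : chi (n + 2) z = (z + z⁻¹) * chi (n + 1) z - chi n z := by
  have h1 := chi_succ (n + 1) z
  have h2 := chi_succ n z
  have h3 : z * chi (n + 1) z = chi n z + z ^ (n + 1 + 1) := by
    rw [h2, mul_add, ← mul_assoc, mul_inv_cancel₀ hz, one_mul, pow_succ z (n + 1)]
    ring
  rw [show n + 2 = n + 1 + 1 from rfl, h1, add_mul, h3]
  ring

theorem chi_one (z : ℂ) : chi 1 z = z + z⁻¹ := by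
  rw [show (1 : ℕ) = 0 + 1 from rfl, chi_succ, chi_zero]
  ring

theorem chi_sub {n : ℕ} {z : ℂ} (hz : z ≠ 0) : chi (n + 2) z - chi n z = z ^ (n + 2) + z⁻¹ ^ (n + 2) := by
  have h1 := chi_succ (n + 1) z
  have h2 := chi_succ' n z
  rw [show n + 2 = n + 1 + 1 from rfl, h1, h2, mul_add, ← mul_assoc, inv_mul_cancel₀ hz, one_mul, pow_succ z⁻¹ (n + 1)]
  ring

open Polynomial in
theorem exists_S (n : ℕ) : ∃ P : Polynomial ℂ, P.Monic ∧ P.natDegree = n ∧
    ∀ z : ℂ, z ≠ 0 → P.eval (z + z⁻¹) = chi n z := by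
  induction n using Nat.strong_induction_on with
  | _ n ih =>
    match n, ih with
    | 0, _ => exact ⟨1, monic_one, natDegree_one, fun z _ => by rw [Polynomial.eval_one, chi_zero]⟩
    | 1, _ => exact ⟨X, monic_X, natDegree_X, fun z _ => by rw [eval_X, chi_one]⟩
    | n + 2, ih =>
      obtain ⟨P, hP1, hP2, hP3⟩ := ih (n + 1) (by omega)
      obtain ⟨Q, hQ1, hQ2, hQ3⟩ := ih n (by omega)
      have h1 : (X * P).natDegree = n + 2 := by
        rw [monic_X.natDegree_mul hP1, natDegree_X, hP2]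
        ring
      have h2 : Q.natDegree < (X * P).natDegree := by rw [h1, hQ2]; omega
      refine ⟨X * P - Q, (monic_X.mul hP1).sub_of_left (degree_lt_degree h2), ?_, fun z hz => ?_⟩
      · rw [natDegree_sub_eq_left_of_natDegree_lt h2, h1]
      · rw [eval_sub, eval_mul, eval_X, hP3 z hz, hQ3 z hz, chi_two n hz]

open Polynomial in
theorem exists_C {n : ℕ} (hn : 0 < n) : ∃ P : Polynomial ℂ, P.Monic ∧ P.natDegree = n ∧
    ∀ z : ℂ, z ≠ 0 → P.eval (z + z⁻¹) = z ^ n + z⁻¹ ^ n := by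
  match n, hn with
  | 1, _ => exact ⟨X, monic_X, natDegree_X, fun z _ => by rw [eval_X, pow_one, pow_one]⟩
  | n + 2, _ =>
    obtain ⟨P, hP1, hP2, hP3⟩ := exists_S (n + 2)
    obtain ⟨Q, hQ1, hQ2, hQ3⟩ := exists_S n
    have h2 : Q.natDegree < P.natDegree := by omega
    refine ⟨P - Q, hP1.sub_of_left (degree_lt_degree h2), ?_, fun z hz => ?_⟩
    · rw [natDegree_sub_eq_left_of_natDegree_lt h2, hP2]
    · rw [eval_sub, hP3 z hz, hQ3 z hz, chi_sub hz]

variable (k : Type*) [Field k] [DecidableEq k]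

/-- the character of `V_b` -/
noncomputable def chB (b : ℕ) (z : ℂ) : ℂ := ∑ m ∈ Bf k b, z ^ m * z⁻¹ ^ (b - m)

theorem chB_zero (z : ℂ) : chB k 0 z = 1 := by
  have h : Bf k 0 = {0} := by
    ext m
    rw [mem_Bf, Finset.mem_singleton]
    constructor
    · intro h
      exact Nat.le_zero.1 h.1
    · rintro rfl
      exact ⟨le_refl 0, by simp⟩
  unfold chB
  rw [h, Finset.sum_singleton]
  simp

variable (p : ℕ) [Fact p.Prime] [CharP k p]

theorem mem_Bf_mul {b m r s : ℕ} (hr : r < p) (hs : s < p) :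
    p * m + s ∈ Bf k (p * b + r) ↔ s ≤ r ∧ m ∈ Bf k b := by
  have hp : p.Prime := Fact.out
  rw [mem_Bf, mem_Bf]
  constructor
  · intro h
    have h2 := h.2
    rw [ch_mul p b m hr hs] at h2
    have h3 := left_ne_zero_of_mul h2
    have h4 := right_ne_zero_of_mul h2
    refine ⟨?_, ?_, h4⟩
    · by_contra hc
      rw [Nat.choose_eq_zero_of_lt (by omega), Nat.cast_zero] at h3
      exact h3 rfl
    · by_contra hc
      rw [Nat.choose_eq_zero_of_lt (by omega), Nat.cast_zero] at h4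
      exact h4 rfl
  · rintro ⟨h1, h2, h3⟩
    refine ⟨?_, ?_⟩
    · have := Nat.mul_le_mul_left p h2
      omega
    · rw [ch_mul p b m hr hs]
      refine mul_ne_zero ?_ h3
      rw [Ne, CharP.cast_eq_zero_iff k p, not_dvd_choose_lt hp hr]
      exact h1

/-- **Steinberg's tensor product theorem for the characters** -/
theorem chB_mul (b : ℕ) {r : ℕ} (hr : r < p) (z : ℂ) :
    chB k (p * b + r) z = chi r z * chB k b (z ^ p) := by
  have hp : p.Prime := Fact.out
  unfold chi chB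
  rw [Finset.sum_mul_sum, ← Finset.sum_product']
  symm
  refine Finset.sum_nbij' (fun x => p * x.2 + x.1) (fun m => (m % p, m / p)) ?_ ?_ ?_ ?_ ?_
  · rintro ⟨s, m⟩ hx
    rw [Finset.mem_product, Finset.mem_range] at hx
    exact (mem_Bf_mul k p hr (by omega)).2 ⟨by omega, hx.2⟩
  · intro m hm
    rw [← Nat.div_add_mod m p, mem_Bf_mul k p hr (Nat.mod_lt m hp.pos)] at hm
    rw [Finset.mem_product, Finset.mem_range]
    exact ⟨by show m % p < r + 1; omega, hm.2⟩
  · rintro ⟨s, m⟩ hx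
    rw [Finset.mem_product, Finset.mem_range] at hx
    have hs : s < p := by
      have := hx.1
      dsimp only at this
      omega
    show ((p * m + s) % p, (p * m + s) / p) = (s, m)
    rw [Nat.mul_add_mod, Nat.mod_eq_of_lt hs, Nat.mul_add_div hp.pos, Nat.div_eq_of_lt hs, add_zero]
  · intro m _
    exact Nat.div_add_mod m p
  · rintro ⟨s, m⟩ hx
    rw [Finset.mem_product, Finset.mem_range, mem_Bf] at hx
    have h1 := hx.1
    have h2 := hx.2.1
    dsimp only at h1 h2 ⊢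
    have h3 := Nat.mul_le_mul_left p h2
    have h4 : p * b + r - (p * m + s) = (r - s) + p * (b - m) := by
      rw [Nat.mul_sub]
      omega
    rw [h4, pow_add, pow_add, ← inv_pow, ← pow_mul, ← pow_mul]
    ring

include p in
open Polynomial in
theorem exists_R (b : ℕ) : ∃ P : Polynomial ℂ, P.Monic ∧ P.natDegree = b ∧
    ∀ z : ℂ, z ≠ 0 → P.eval (z + z⁻¹) = chB k b z := by
  have hp : p.Prime := Fact.out
  induction b using Nat.strong_induction_on with
  | _ b ih =>
    rcases Nat.eq_zero_or_pos b with rfl | hb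
    · exact ⟨1, monic_one, natDegree_one, fun z _ => by rw [Polynomial.eval_one, chB_zero]⟩
    obtain ⟨P, hP1, hP2, hP3⟩ := ih (b / p) (Nat.div_lt_self hb hp.one_lt)
    obtain ⟨C, hC1, hC2, hC3⟩ := exists_C hp.pos
    obtain ⟨S, hS1, hS2, hS3⟩ := exists_S (b % p)
    have h0 : (P.comp C).Monic := hP1.comp hC1 (by rw [hC2]; exact hp.pos.ne')
    refine ⟨S * P.comp C, hS1.mul h0, ?_, fun z hz => ?_⟩
    · rw [hS1.natDegree_mul h0, natDegree_comp, hP2, hC2, hS2, mul_comm]
      exact Nat.mod_add_div b p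
    · rw [eval_mul, eval_comp, hS3 z hz, hC3 z hz, inv_pow, hP3 (z ^ p) (pow_ne_zero _ hz),
        ← chB_mul k p _ (Nat.mod_lt b hp.pos), Nat.div_add_mod]

/-- the angles -/
noncomputable def ang (q i : ℕ) : ℝ :=
  if i ≤ (q - 1) / 2 then 2 * Real.pi * i / ((q - 1 : ℕ) : ℝ) else 2 * Real.pi * ((i - (q - 1) / 2 : ℕ) : ℝ) / ((q + 1 : ℕ) : ℝ)

theorem ang_mem {q i : ℕ} (hq : 2 ≤ q) (hi : i < q) : ang q i ∈ Set.Icc 0 Real.pi := by
  have hpi := Real.pi_pos
  unfold ang
  split_ifs with h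
  · have h1 : (0 : ℝ) < ((q - 1 : ℕ) : ℝ) := by
      have : 0 < q - 1 := by omega
      exact_mod_cast this
    have h2 : 2 * (i : ℝ) ≤ ((q - 1 : ℕ) : ℝ) := by
      have : 2 * i ≤ q - 1 := by omega
      exact_mod_cast this
    constructor
    · positivity
    · rw [div_le_iff₀ h1]
      nlinarith
  · have h1 : (0 : ℝ) < ((q + 1 : ℕ) : ℝ) := by positivity
    have h2 : 2 * ((i - (q - 1) / 2 : ℕ) : ℝ) ≤ ((q + 1 : ℕ) : ℝ) := by
      have : 2 * (i - (q - 1) / 2) ≤ q + 1 := by omega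
      exact_mod_cast this
    constructor
    · positivity
    · rw [div_le_iff₀ h1]
      nlinarith

theorem ang_ne {q i j : ℕ} (hq : 2 ≤ q) (hi : i ≤ (q - 1) / 2) (hj : (q - 1) / 2 < j) (hjq : j < q) :
    ang q i ≠ ang q j := by
  have hpi := Real.pi_pos
  unfold ang
  rw [if_pos hi, if_neg (by omega)]
  intro h
  have h1 : ((q - 1 : ℕ) : ℝ) ≠ 0 := by
    have : q - 1 ≠ 0 := by omega
    exact_mod_cast this
  have h2 : ((q + 1 : ℕ) : ℝ) ≠ 0 := by positivity
  rw [div_eq_div_iff h1 h2] at h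
  have h3 : (i : ℝ) * ((q + 1 : ℕ) : ℝ) = ((j - (q - 1) / 2 : ℕ) : ℝ) * ((q - 1 : ℕ) : ℝ) := by
    have h4 : (2 * Real.pi) * ((i : ℝ) * ((q + 1 : ℕ) : ℝ)) = (2 * Real.pi) * (((j - (q - 1) / 2 : ℕ) : ℝ) * ((q - 1 : ℕ) : ℝ)) := by
      linarith
    exact mul_left_cancel₀ (by positivity) h4
  have h4 : i * (q + 1) = (j - (q - 1) / 2) * (q - 1) := by exact_mod_cast h3
  set j' := j - (q - 1) / 2 with hj'
  have h5 : 1 ≤ j' := by omega
  have h6 : i + j' < q := by omega
  obtain ⟨r, rfl⟩ : ∃ r, q = r + 1 := ⟨q - 1, by omega⟩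
  rw [Nat.add_sub_cancel] at h4
  have h7 : i < j' := by
    by_contra hc
    have h8 : j' * r ≤ i * r := Nat.mul_le_mul_right r (by omega)
    nlinarith
  obtain ⟨s, hs⟩ : ∃ s, j' = i + 1 + s := ⟨j' - i - 1, by omega⟩
  rw [hs] at h4 h6
  nlinarith

theorem ang_inj {q : ℕ} (hq : 2 ≤ q) : Set.InjOn (ang q) (Finset.range q : Set ℕ) := by
  have hpi := Real.pi_pos
  have h1 : ((q - 1 : ℕ) : ℝ) ≠ 0 := by
    have : q - 1 ≠ 0 := by omega
    exact_mod_cast this
  have h2 : ((q + 1 : ℕ) : ℝ) ≠ 0 := by positivity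
  intro i hi j hj hij
  rw [Finset.coe_range, Set.mem_Iio] at hi hj
  by_cases h3 : i ≤ (q - 1) / 2
  · by_cases h4 : j ≤ (q - 1) / 2
    · unfold ang at hij
      rw [if_pos h3, if_pos h4, div_left_inj' h1] at hij
      have := mul_left_cancel₀ (by positivity : (2 * Real.pi : ℝ) ≠ 0) hij
      exact_mod_cast this
    · exact absurd hij (ang_ne hq h3 (by omega) hj)
  · by_cases h4 : j ≤ (q - 1) / 2
    · exact absurd hij.symm (ang_ne hq h4 (by omega) hi)
    · unfold ang at hij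
      rw [if_neg h3, if_neg h4, div_left_inj' h2] at hij
      have := mul_left_cancel₀ (by positivity : (2 * Real.pi : ℝ) ≠ 0) hij
      have : i - (q - 1) / 2 = j - (q - 1) / 2 := by exact_mod_cast this
      omega

theorem ang_pow {q i : ℕ} (hq : 2 ≤ q) : (Complex.exp ((ang q i : ℝ) * Complex.I)) ^ (q - 1) = 1 ∨
    (Complex.exp ((ang q i : ℝ) * Complex.I)) ^ (q + 1) = 1 := by
  have h1 : ((q - 1 : ℕ) : ℝ) ≠ 0 := by
    have : q - 1 ≠ 0 := by omega
    exact_mod_cast this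
  have h2 : ((q + 1 : ℕ) : ℝ) ≠ 0 := by positivity
  unfold ang
  split_ifs with h
  · left
    rw [← Complex.exp_nat_mul, Complex.exp_eq_one_iff]
    refine ⟨i, ?_⟩
    have h3 : ((q - 1 : ℕ) : ℂ) * ((2 * Real.pi * i / ((q - 1 : ℕ) : ℝ) : ℝ) : ℂ) = 2 * Real.pi * i := by
      have : ((q - 1 : ℕ) : ℝ) * (2 * Real.pi * i / ((q - 1 : ℕ) : ℝ)) = 2 * Real.pi * i := mul_div_cancel₀ _ h1
      exact_mod_cast congrArg (fun x : ℝ => (x : ℂ)) this
    rw [← mul_assoc, h3]
    push_cast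
    ring
  · right
    rw [← Complex.exp_nat_mul, Complex.exp_eq_one_iff]
    refine ⟨((i - (q - 1) / 2 : ℕ) : ℤ), ?_⟩
    have h3 : ((q + 1 : ℕ) : ℂ) * ((2 * Real.pi * ((i - (q - 1) / 2 : ℕ) : ℝ) / ((q + 1 : ℕ) : ℝ) : ℝ) : ℂ) =
        2 * Real.pi * ((i - (q - 1) / 2 : ℕ) : ℂ) := by
      have : ((q + 1 : ℕ) : ℝ) * (2 * Real.pi * ((i - (q - 1) / 2 : ℕ) : ℝ) / ((q + 1 : ℕ) : ℝ)) =
        2 * Real.pi * ((i - (q - 1) / 2 : ℕ) : ℝ) := mul_div_cancel₀ _ h2
      exact_mod_cast congrArg (fun x : ℝ => (x : ℂ)) this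
    rw [← mul_assoc, h3]
    push_cast
    ring

theorem coeff_indep {R : ℕ → Polynomial ℂ} (hR1 : ∀ b, (R b).Monic) (hR2 : ∀ b, (R b).natDegree = b) (c : ℕ → ℂ) (n : ℕ)
    (h : ∑ b ∈ Finset.range n, Polynomial.C (c b) * R b = 0) : ∀ b < n, c b = 0 := by
  induction n with
  | zero => intro b hb; omega
  | succ n ih =>
    have h1 : c n = 0 := by
      have h2 := congrArg (fun P => Polynomial.coeff P n) h
      simp only [Polynomial.coeff_zero, Polynomial.finsetSum_coeff] at h2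
      rw [Finset.sum_range_succ, Finset.sum_eq_zero, zero_add, Polynomial.coeff_C_mul] at h2
      · have h3 : (R n).coeff n = 1 := by
          have := hR1 n
          rwa [Polynomial.Monic, Polynomial.leadingCoeff, hR2] at this
        rwa [h3, mul_one] at h2
      · intro b hb
        rw [Polynomial.coeff_C_mul, Polynomial.coeff_eq_zero_of_natDegree_lt, mul_zero]
        rw [hR2]
        exact Finset.mem_range.1 hb
    intro b hb
    rw [Finset.sum_range_succ, h1, Polynomial.C_0, zero_mul, add_zero] at h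
    rcases Nat.lt_succ_iff_lt_or_eq.1 hb with h2 | rfl
    · exact ih h b h2
    · exact h1

include p in
/-- **linear independence of the characters** -/
theorem chB_indep {q : ℕ} (hq : 2 ≤ q) (c : ℕ → ℂ)
    (h : ∀ z : ℂ, (z ^ (q - 1) = 1 ∨ z ^ (q + 1) = 1) → ∑ b ∈ Finset.range q, c b * chB k b z = 0) :
    ∀ b < q, c b = 0 := by
  choose R hR1 hR2 hR3 using exists_R k p
  apply coeff_indep hR1 hR2
  have hinj : Set.InjOn (fun i => ((2 * Real.cos (ang q i) : ℝ) : ℂ)) (Finset.range q : Set ℕ) := by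
    intro i hi j hj hij
    have h1 : (2 * Real.cos (ang q i) : ℝ) = 2 * Real.cos (ang q j) := Complex.ofReal_injective hij
    have h2 : Real.cos (ang q i) = Real.cos (ang q j) := by linarith
    exact ang_inj hq hi hj (Real.injOn_cos (ang_mem hq (Finset.mem_range.1 hi)) (ang_mem hq (Finset.mem_range.1 hj)) h2)
  refine Polynomial.eq_zero_of_natDegree_lt_card_of_eval_eq_zero' _
    ((Finset.range q).image fun i => ((2 * Real.cos (ang q i) : ℝ) : ℂ)) ?_ ?_
  · intro x hx
    obtain ⟨i, hi, rfl⟩ := Finset.mem_image.1 hx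
    set z := Complex.exp ((ang q i : ℝ) * Complex.I) with hz
    have hz0 : z ≠ 0 := Complex.exp_ne_zero _
    have h1 : ((2 * Real.cos (ang q i) : ℝ) : ℂ) = z + z⁻¹ := by
      rw [hz, ← Complex.exp_neg, ← neg_mul, Complex.ofReal_mul, Complex.ofReal_cos]
      have := Complex.two_cos (ang q i : ℂ)
      rw [← this]
      norm_num
    rw [h1, Polynomial.eval_finsetSum]
    have h2 := h z (ang_pow hq)
    rw [← h2]
    refine Finset.sum_congr rfl fun b _ => ?_
    rw [Polynomial.eval_mul, Polynomial.eval_C, hR3 b z hz0]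
  · rw [Finset.card_image_of_injOn hinj, Finset.card_range]
    refine lt_of_le_of_lt (Polynomial.natDegree_sum_le_of_forall_le (n := q - 1) _ _ fun b hb => ?_) (by omega)
    refine (Polynomial.natDegree_C_mul_le _ _).trans ?_
    rw [hR2]
    have := Finset.mem_range.1 hb
    omega

end Cfsg.Agent.R2.H28.SL2
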