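import Cfsg.Agent.R2.H28.SL2.Tens

/-!
# Digit rules for tensor products (helper28)

`cg p n b d` : the factors of `V_b ⊗ V_d` when no digit overflows (Clebsch-Gordan in every digit); `chi_over` : the
overflow rule; `sq_rec` : symmetric squares of single digits.
-/

set_option autoImplicit false
set_option linter.unusedSectionVars false

namespace Cfsg.Agent.R2.H28.SL2

open Cfsg.Agent.H943.SL2Rel Cfsg.Agent.H943.SL2Mod

/-! ## Identities of `chi` -/

theorem chi_mul_one (n : ℕ) {z : ℂ} (hz : z ≠ 0) : chi (n + 1) z * chi 1 z = chi (n + 2) z + chi n z := by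
  rw [chi_two n hz, chi_one]
  ring

/-- Clebsch-Gordan -/
theorem chi_mul (r s : ℕ) {z : ℂ} (hz : z ≠ 0) :
    chi (r + s) z * chi s z = ∑ j ∈ Finset.range (s + 1), chi (r + s + s - 2 * j) z := by
  induction s using Nat.strong_induction_on generalizing r with
  | _ s ih =>
    match s, ih with
    | 0, _ => simp [chi_zero]
    | 1, _ =>
      rw [chi_mul_one r hz, Finset.sum_range_succ, Finset.sum_range_one]
      rfl
    | s + 2, ih =>
      have h1 := ih (s + 1) (by omega) (r + 1)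
      have h2 := ih s (by omega) (r + 2)
      have e1 : r + 1 + (s + 1) = r + (s + 2) := by omega
      have e2 : r + 2 + s = r + (s + 2) := by omega
      rw [e1] at h1
      rw [e2] at h2
      rw [chi_two s hz, mul_sub, h2, mul_comm (z + z⁻¹), ← mul_assoc, h1]
      obtain ⟨N, hN⟩ : ∃ N, N = r + (s + 2) := ⟨_, rfl⟩
      rw [← hN]
      have h3 : ∀ m : ℕ, chi (m + 1) z * (z + z⁻¹) = chi (m + 2) z + chi m z := by
        intro m
        rw [chi_two m hz]
        ring
      have h4 : (∑ j ∈ Finset.range (s + 1 + 1), chi (N + (s + 1) - 2 * j) z) * (z + z⁻¹) =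
          (∑ j ∈ Finset.range (s + 1 + 1), chi (N + (s + 2) - 2 * j) z) +
          ∑ j ∈ Finset.range (s + 1 + 1), chi (N + s - 2 * j) z := by
        rw [Finset.sum_mul, ← Finset.sum_add_distrib]
        refine Finset.sum_congr rfl fun j hj => ?_
        have hj' := Finset.mem_range.1 hj
        have e3 : N + (s + 1) - 2 * j = (N + s - 2 * j) + 1 := by omega
        have e4 : N + (s + 2) - 2 * j = (N + s - 2 * j) + 2 := by omega
        rw [e3, e4, h3]
      rw [h4, Finset.sum_range_succ (fun j => chi (N + s - 2 * j) z) (s + 1), Finset.sum_range_succ (fun j => chi (N + (s + 2) - 2 * j) z) (s + 2)]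
      have e5 : N + (s + 2) - 2 * (s + 2) = N + s - 2 * (s + 1) := by omega
      rw [e5]
      ring

theorem chi_mul' (r s : ℕ) {z : ℂ} (hz : z ≠ 0) :
    chi r z * chi s z = ∑ j ∈ Finset.range (min r s + 1), chi (r + s - 2 * j) z := by
  rcases le_total s r with h | h
  · obtain ⟨t, rfl⟩ := Nat.exists_eq_add_of_le' h
    rw [chi_mul t s hz, min_eq_right h]
  · obtain ⟨t, rfl⟩ := Nat.exists_eq_add_of_le' h
    rw [mul_comm, chi_mul t r hz, min_eq_left h]
    refine Finset.sum_congr rfl fun j _ => ?_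
    rw [add_comm r (t + r)]

/-- the overflow rule -/
theorem chi_over (j s : ℕ) (hj : j + 2 ≤ s) {z : ℂ} (hz : z ≠ 0) :
    chi (j + s) z = chi j z * chi 1 (z ^ s) + chi (s - j - 2) z := by
  have hC : chi 1 (z ^ s) = z ^ s + z⁻¹ ^ s := by rw [chi_one, inv_pow]
  rw [hC]
  induction j using Nat.strong_induction_on with
  | _ j ih =>
    match j, hj, ih with
    | 0, hj, _ =>
      obtain ⟨t, rfl⟩ : ∃ t, s = t + 2 := ⟨s - 2, by omega⟩
      rw [chi_zero, one_mul, ← chi_sub hz, zero_add]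
      simp
    | 1, hj, ih =>
      obtain ⟨t, rfl⟩ : ∃ t, s = t + 3 := ⟨s - 3, by omega⟩
      have h0 := ih 0 (by omega) (by omega)
      rw [chi_zero, one_mul, zero_add] at h0
      have h1 := chi_two (t + 2) hz
      have h2 := chi_two t hz
      rw [show t + 2 + 1 = t + 3 from rfl, show t + 2 + 2 = 1 + (t + 3) by omega] at h1
      rw [show t + 3 - 0 - 2 = t + 1 by omega] at h0
      rw [h1, h0, chi_one, show t + 3 - 1 - 2 = t by omega, h2]
      ring
    | j + 2, hj, ih =>
      obtain ⟨t, rfl⟩ : ∃ t, s = t + (j + 4) := ⟨s - (j + 4), by omega⟩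
      have h0 := ih j (by omega) (by omega)
      have h1 := ih (j + 1) (by omega) (by omega)
      have h2 := chi_two (j + (t + (j + 4))) hz
      rw [show t + (j + 4) - j - 2 = t + 2 by omega] at h0
      rw [show t + (j + 4) - (j + 1) - 2 = t + 1 by omega] at h1
      rw [show j + 2 + (t + (j + 4)) = j + (t + (j + 4)) + 2 by omega, h2,
        show j + (t + (j + 4)) + 1 = j + 1 + (t + (j + 4)) by omega, h1, h0,
        show t + (j + 4) - (j + 2) - 2 = t by omega, chi_two j hz, chi_two t hz]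
      ring

theorem chi_over' (s : ℕ) {z : ℂ} (hz : z ≠ 0) : chi (s + (s + 1)) z = chi s z * chi 1 (z ^ (s + 1)) := by
  rcases Nat.eq_zero_or_pos s with rfl | hs
  · rw [chi_zero, one_mul, zero_add, zero_add, pow_one]
  · obtain ⟨t, rfl⟩ : ∃ t, s = t + 1 := ⟨s - 1, by omega⟩
    have h1 := chi_two (t + 1 + t + 1) hz
    have h2 := chi_over t (t + 2) (by omega) hz
    rcases Nat.eq_zero_or_pos t with rfl | ht
    · have h3 := chi_two 1 hz
      have h4 := chi_two 0 hz
      rw [chi_one (z ^ (0 + 1 + 1))]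
      rw [show 0 + 1 + (0 + 1 + 1) = 1 + 2 by omega, h3, show (1 + 1 : ℕ) = 0 + 2 by omega, h4, chi_zero, chi_one]
      field_simp
      ring
    · obtain ⟨r, rfl⟩ : ∃ r, t = r + 1 := ⟨t - 1, by omega⟩
      have h3 := chi_over r (r + 1 + 2) (by omega) hz
      have h4 := chi_two r hz
      have h5 := chi_two (r + (r + 3)) hz
      rw [show r + 1 + 2 = r + 3 by omega, show r + 3 - r - 2 = 1 by omega] at h3
      rw [show r + 1 + (r + 1 + 2) = r + (r + 3) + 1 by omega, show r + 1 + 2 - (r + 1) - 2 = 0 by omega,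
        show r + 1 + 2 = r + 3 by omega, chi_zero] at h2
      rw [show r + 1 + 1 + (r + 1 + 1 + 1) = r + (r + 3) + 2 by omega, h5, h2, h3,
        show r + 1 + 1 = r + 2 by omega, h4, show r + 2 + 1 = r + 3 by omega, chi_one z]
      ring

/-- the characters of the symmetric and the exterior square of the module with the character `chi n` -/
noncomputable def s2 (n : ℕ) (z : ℂ) : ℂ := ((chi n z) ^ 2 + chi n (z ^ 2)) / 2

noncomputable def a2 (n : ℕ) (z : ℂ) : ℂ := ((chi n z) ^ 2 - chi n (z ^ 2)) / 2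

theorem chi_even_rec (n : ℕ) {z : ℂ} (hz : z ≠ 0) :
    chi (2 * n + 4) z = (z ^ 2 + (z ^ 2)⁻¹) * chi (2 * n + 2) z - chi (2 * n) z := by
  have h1 := chi_two (2 * n + 2) hz
  have h2 := chi_two (2 * n + 1) hz
  have h3 := chi_two (2 * n) hz
  have hw : z ^ 2 + (z ^ 2)⁻¹ = (z + z⁻¹) ^ 2 - 2 := by
    field_simp
    ring
  rw [show 2 * n + 2 + 2 = 2 * n + 4 by omega, show 2 * n + 2 + 1 = 2 * n + 3 by omega] at h1
  rw [show 2 * n + 1 + 2 = 2 * n + 3 by omega, show 2 * n + 1 + 1 = 2 * n + 2 by omega] at h2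
  rw [h1, h2, hw]
  have h4 : (z + z⁻¹) * chi (2 * n + 1) z = chi (2 * n + 2) z + chi (2 * n) z := by
    rw [h3]
    ring
  linear_combination -h4

theorem chi_sq_add (n : ℕ) {z : ℂ} (hz : z ≠ 0) : chi (n + 1) (z ^ 2) + chi n (z ^ 2) = chi (2 * (n + 1)) z := by
  have hz2 := pow_ne_zero 2 hz
  have hb2 : chi 2 z = (z ^ 2 + (z ^ 2)⁻¹) + 1 := by
    have h2 := chi_two 0 hz
    rw [show (2 : ℕ) = 0 + 2 by omega, h2, chi_zero, chi_one]
    field_simp
    ring
  have ha1 : chi 1 (z ^ 2) = z ^ 2 + (z ^ 2)⁻¹ := chi_one _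
  induction n using Nat.strong_induction_on with
  | _ n ih =>
    match n, ih with
    | 0, _ => rw [zero_add, ha1, chi_zero, mul_one, hb2]
    | 1, _ =>
      have h1 := chi_two 0 hz2
      have h2 := chi_even_rec 0 hz
      rw [show (1 + 1 : ℕ) = 0 + 2 by omega, h1, zero_add, ha1, chi_zero, show 2 * 2 = 2 * 0 + 4 by omega, h2,
        show 2 * 0 + 2 = 2 by omega, hb2, show 2 * 0 = 0 by omega, chi_zero]
      ring
    | n + 2, ih =>
      have h1 := chi_two n hz2
      have h2 := chi_two (n + 1) hz2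
      have h3 := chi_even_rec (n + 1) hz
      have i1 := ih (n + 1) (by omega)
      have i2 := ih n (by omega)
      rw [show n + 1 + 1 = n + 2 by omega] at h2 i1
      rw [show n + 1 + 2 = n + 2 + 1 by omega] at h2
      rw [show 2 * (n + 2 + 1) = 2 * (n + 1) + 4 by omega, h3, show 2 * (n + 1) + 2 = 2 * (n + 2) by omega, ← i1, ← i2]
      linear_combination h1 + h2

theorem a2_succ (n : ℕ) {z : ℂ} (hz : z ≠ 0) : a2 (n + 1) z = s2 n z := by
  have h1 := chi_sq_add n hz
  have h2 := chi_mul' (n + 1) (n + 1) hz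
  have h3 := chi_mul' n n hz
  rw [min_self] at h2 h3
  rw [Finset.sum_range_succ'] at h2
  have h4 : ∑ j ∈ Finset.range (n + 1), chi (n + 1 + (n + 1) - 2 * (j + 1)) z = ∑ j ∈ Finset.range (n + 1), chi (n + n - 2 * j) z := by
    refine Finset.sum_congr rfl fun j _ => ?_
    congr 1
    omega
  rw [h4, ← h3, mul_zero, Nat.sub_zero, show n + 1 + (n + 1) = 2 * (n + 1) by omega] at h2
  unfold a2 s2
  rw [sq, h2, ← h1]
  ring

theorem s2_add_two (n : ℕ) {z : ℂ} (hz : z ≠ 0) : s2 (n + 2) z = chi (2 * (n + 2)) z + s2 n z := by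
  have h1 := a2_succ (n + 1) hz
  have h2 := a2_succ n hz
  have h3 := chi_sq_add (n + 1) hz
  have h4 : s2 (n + 1 + 1) z = chi (2 * (n + 1 + 1)) z + a2 (n + 1) z := by
    have h5 := chi_mul' (n + 1 + 1) (n + 1 + 1) hz
    have h6 := chi_mul' (n + 1) (n + 1) hz
    rw [min_self] at h5 h6
    rw [Finset.sum_range_succ'] at h5
    have h7 : ∑ j ∈ Finset.range (n + 1 + 1), chi (n + 1 + 1 + (n + 1 + 1) - 2 * (j + 1)) z =
        ∑ j ∈ Finset.range (n + 1 + 1), chi (n + 1 + (n + 1) - 2 * j) z := by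
      refine Finset.sum_congr rfl fun j _ => ?_
      congr 1
      omega
    rw [h7, ← h6, mul_zero, Nat.sub_zero, show n + 1 + 1 + (n + 1 + 1) = 2 * (n + 1 + 1) by omega] at h5
    unfold s2 a2
    rw [sq, h5, ← h3]
    ring
  rw [show n + 2 = n + 1 + 1 from rfl, h4, h2]

theorem s2_zero (z : ℂ) : s2 0 z = 1 := by
  unfold s2
  rw [chi_zero, chi_zero]
  norm_num

theorem chi_two' {z : ℂ} (hz : z ≠ 0) : chi 2 z = (z + z⁻¹) * (z + z⁻¹) - 1 := by
  have h2 := chi_two 0 hz
  rw [zero_add, zero_add, chi_one, chi_zero] at h2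
  exact h2

theorem s2_one {z : ℂ} (hz : z ≠ 0) : s2 1 z = chi 2 z := by
  unfold s2
  rw [chi_two' hz, chi_one, chi_one]
  field_simp
  ring

theorem a2_zero (z : ℂ) : a2 0 z = 0 := by
  unfold a2
  rw [chi_zero, chi_zero]
  norm_num

end Cfsg.Agent.R2.H28.SL2
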