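import Cfsg.Agent.R2.H28.SL2.Ops
import Cfsg.Agent.R2.H28.SL2.Dig
import Cfsg.Agent.H179.SLC.Vb

/-!
# Extensions of the trivial module by the simple modules `V_b` of `SL(2, q)` (helper28)

`ext_main` : `E / W` trivial, `W ≅ V_b`: the obstructions for lifting the elements of `E / W` to fixed vectors are
linear functionals `z i`, one for each `i` with `Exc p a b i` : `b_i + 1 < p` and `2 (b_i + 1) p ^ i = b` modulo `q - 1`.
General version of `H525/E8L/Ext.lean` (helper525, `q = 81`).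
-/

set_option autoImplicit false
set_option linter.unusedSectionVars false

namespace Cfsg.Agent.R2.H28.SL2

open Matrix Cfsg.Agent.H943.SL2Rel Cfsg.Agent.H943.SL2Mod Cfsg.Agent.H943.RepAdd

/-- the exceptional weight -/
def en (p b i : ℕ) : ℕ := (b / p ^ i % p + 1) * p ^ i

/-- the exceptional digits -/
def Exc (p a b i : ℕ) : Prop := b / p ^ i % p + 1 < p ∧ 2 * en p b i % (p ^ a - 1) = b % (p ^ a - 1)

instance (p a b i : ℕ) : Decidable (Exc p a b i) := by unfold Exc; infer_instance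

/-- the combinatorial lemma -/
theorem exists_digit {p : ℕ} (hp : p.Prime) {a b n : ℕ} (hn : n < p ^ a) (hd : p ∣ b.choose n) :
    ∃ i < a, b / p ^ i % p + 1 < p ∧ ¬ p ∣ n.choose (en p b i) ∧ p ∣ b.choose (en p b i) := by
  have h1 : ¬ ∀ i, n / p ^ i % p ≤ b / p ^ i % p := fun h => (not_dvd_choose_iff hp).2 h hd
  push Not at h1
  obtain ⟨i, hi⟩ := h1
  have hia : i < a := by
    by_contra hc
    rw [dg_zero_of_le hp.pos hn (by omega)] at hi
    omega
  have hlt := dg_lt hp.pos n i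
  refine ⟨i, hia, by omega, ?_, ?_⟩
  · rw [not_dvd_choose_iff hp]
    intro l
    unfold en
    rw [dg_single hp.one_lt (by omega)]
    split_ifs with h
    · rw [h]
      omega
    · exact Nat.zero_le _
  · by_contra hc
    rw [not_dvd_choose_iff hp] at hc
    have h2 := hc i
    unfold en at h2
    rw [dg_single hp.one_lt (by omega), if_pos rfl] at h2
    omega

section

variable {k : Type*} [Field k] {F : Type*} [Field F] [Fintype F] [DecidableEq F] (ι : F →+* k)

include ι in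
theorem neg_one_pow_Q : (-1 : k) ^ (Fintype.card F - 1) = 1 := by
  have h := powQ ι (t := (-1 : F)) (neg_ne_zero.2 one_ne_zero)
  rwa [map_neg, map_one] at h

/-- the representation on `V_b` -/
abbrev RB (p : ℕ) [Fact p.Prime] [CharP k p] [CharP F p] {b : ℕ} (hb : b ≤ Fintype.card F - 1) :
    Representation k (SpecialLinearGroup (Fin 2) F) (Vb ι b) :=
  Cfsg.Agent.H179.SLC.rb ι p (neg_one_pow_Q ι) hb

variable {V : Type*} [AddCommGroup V] [Module k V] (ρ : Representation k (SpecialLinearGroup (Fin 2) F) V)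

/-- **the divided power relations** -/
theorem Dm_mul' (p : ℕ) [Fact p.Prime] [CharP k p] [CharP F p] {a : ℕ} (hF : Fintype.card F = p ^ a) {m n : ℕ}
    (hm : 1 ≤ m) (hn : 1 ≤ n) (hmn : m + n ≤ Fintype.card F - 1) (x : V) :
    Dm ι ρ m (Dm ι ρ n x) = ((m + n).choose m : k) • Dm ι ρ (m + n) x := by
  have hq := one_lt (F := F)
  rw [Dm_mul ι ρ hm hn (by omega) (by omega), hF, choose_shift p n m (by omega), add_comm n m]

theorem Dm_mul_zero {m n : ℕ}
    (hm : 1 ≤ m) (hn : 1 ≤ n) (hm' : m ≤ Fintype.card F - 1) (hn' : n ≤ Fintype.card F - 1)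
    (hmn : Fintype.card F - 1 < m + n) (x : V) : Dm ι ρ m (Dm ι ρ n x) = 0 := by
  rw [Dm_mul ι ρ hm hn hn' hm', Nat.choose_eq_zero_of_lt (by omega), Nat.cast_zero, mul_zero, zero_smul]

end

variable {k : Type*} [Field k] [DecidableEq k] {F : Type*} [Field F] [Fintype F] [DecidableEq F] (ι : F →+* k)

/-- the coefficient of `mon b` -/
theorem eval_one {b : ℕ} {f : F × F → k} (hf : f ∈ Vb ι b) (a : F) : f (a, 0) = ι a ^ b * f (1, 0) := by
  obtain ⟨c, rfl⟩ := mem_span_mon ι (Vb_le ι b hf)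
  rw [Finset.sum_apply, Finset.sum_apply, Finset.mul_sum]
  refine Finset.sum_congr rfl fun m hm => ?_
  rw [Finset.mem_range] at hm
  show c m * mon ι b m (a, 0) = ι a ^ b * (c m * mon ι b m (1, 0))
  unfold mon
  by_cases hmb : m = b
  · rw [hmb, Nat.sub_self, pow_zero, map_one, one_pow]
    ring
  · rw [map_zero, zero_pow (show b - m ≠ 0 by omega)]
    ring

/-- the values of `D_n` at `(1, 0)` -/
theorem Dm_eval {b : ℕ} (hb : b ≤ Fintype.card F - 1) (x : Bf k b → k) {n : ℕ} (hn : 1 ≤ n)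
    (hn' : n ≤ Fintype.card F - 1) :
    Dm ι (fRep k F) n (∑ m : Bf k b, x m • mon ι b m) (1, 0) =
      if h : n ≤ b ∧ b - n ∈ Bf k b then x ⟨b - n, h.2⟩ else 0 := by
  rw [map_sum, Finset.sum_apply]
  have h1 : ∀ m : Bf k b, (Dm ι (fRep k F) n (x m • mon ι b m)) (1, 0) = if (m : ℕ) + n = b then x m else 0 := by
    intro m
    have hm := (mem_Bf.1 m.2).1
    rw [map_smul, Dm_mon ι hb hm hn hn']
    show x m * (((b - (m : ℕ)).choose n : k) * mon ι b ((m : ℕ) + n) (1, 0)) = _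
    by_cases h2 : (m : ℕ) + n = b
    · rw [if_pos h2, show b - (m : ℕ) = n by omega, Nat.choose_self, h2, mon_self, map_one, one_pow]
      ring
    · rw [if_neg h2]
      by_cases h3 : (m : ℕ) + n < b
      · unfold mon
        rw [map_zero, zero_pow (show b - ((m : ℕ) + n) ≠ 0 by omega)]
        ring
      · rw [Nat.choose_eq_zero_of_lt (show b - (m : ℕ) < n by omega)]
        ring
  rw [Finset.sum_congr rfl fun m _ => h1 m]
  split_ifs with h
  · rw [Finset.sum_eq_single (⟨b - n, h.2⟩ : Bf k b)]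
    · rw [if_pos (show b - n + n = b by omega)]
    · intro m _ hm
      rw [if_neg]
      intro h2
      exact hm (Subtype.ext (show (m : ℕ) = b - n by omega))
    · intro h2
      exact absurd (Finset.mem_univ _) h2
  · refine Finset.sum_eq_zero fun m _ => ?_
    rw [if_neg]
    intro h2
    apply h
    refine ⟨by omega, ?_⟩
    have : b - n = (m : ℕ) := by omega
    rw [this]
    exact m.2

section Main

variable {E : Type*} [AddCommGroup E] [Module k E]
  (ρ : Representation k (SpecialLinearGroup (Fin 2) F) E) (W : Submodule k E) (hW : ∀ g, ∀ x ∈ W, ρ g x ∈ W)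

/-- `B`-fixed vectors give fixed vectors -/
theorem avg_fixed {x : E} (hu : ∀ t, ρ (u t) x = x) (hh : ∀ a, ρ (h a) x = x) (g : SpecialLinearGroup (Fin 2) F) :
    ρ g (x + ∑ t : F, ρ (u t) (ρ w x)) = x + ∑ t : F, ρ (u t) (ρ w x) := by
  classical
  refine induct (P := fun g => ρ g (x + ∑ t : F, ρ (u t) (ρ w x)) = x + ∑ t : F, ρ (u t) (ρ w x)) ?_ ?_ ?_ ?_ g
  · intro s
    rw [map_add, hu, map_sum]
    congr 1
    refine Fintype.sum_equiv (Equiv.addLeft s) _ _ fun t => ?_
    rw [apply_mul, ← u_add]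
    rfl
  · intro a
    rw [map_add, hh, map_sum]
    congr 1
    have ha : (a : F) ^ 2 ≠ 0 := pow_ne_zero _ a.ne_zero
    refine Fintype.sum_equiv (Equiv.mulLeft₀ ((a : F) ^ 2) ha) _ _ fun t => ?_
    rw [apply_mul3, h_u, mul_assoc, h_w, map_mul, map_mul]
    show ρ (u ((a : F) ^ 2 * t)) (ρ w (ρ (h a⁻¹) x)) = _
    rw [hh]
    rfl
  · rw [map_add, map_sum, ← Finset.add_sum_erase _ _ (Finset.mem_univ (0 : F)), u_zero, map_one,
      Module.End.one_apply, ww, hh]
    have h1 : ∑ t ∈ Finset.univ.erase (0 : F), ρ w (ρ (u t) (ρ w x)) =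
        ∑ t ∈ Finset.univ.erase (0 : F), ρ (u t) (ρ w x) := by
      refine Finset.sum_bij' (fun t _ => -t⁻¹) (fun t _ => -t⁻¹) ?_ ?_ ?_ ?_ ?_
      · intro t ht
        exact Finset.mem_erase.2 ⟨neg_ne_zero.2 (inv_ne_zero (Finset.ne_of_mem_erase ht)), Finset.mem_univ _⟩
      · intro t ht
        exact Finset.mem_erase.2 ⟨neg_ne_zero.2 (inv_ne_zero (Finset.ne_of_mem_erase ht)), Finset.mem_univ _⟩
      · intro t ht
        simp
      · intro t ht
        simp
      · intro t ht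
        have hD : UFix ρ (Submodule.span k {x}) := by
          intro s d hd
          obtain ⟨c, rfl⟩ := Submodule.mem_span_singleton.1 hd
          rw [map_smul, hu]
        rw [wuw ρ hD (Finset.ne_of_mem_erase ht) (Submodule.mem_span_singleton_self x), hh]
    have h2 := Finset.add_sum_erase Finset.univ (fun t : F => ρ (u t) (ρ w x)) (Finset.mem_univ (0 : F))
    rw [u_zero, map_one, Module.End.one_apply] at h2
    rw [h1, ← h2]
    abel
  · intro a b ha hb
    rw [map_mul, Module.End.mul_apply, hb, ha]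

variable (p : ℕ) [Fact p.Prime] [CharP k p] [CharP F p]

include hW in
/-- **the obstructions** -/
theorem ext_main {a : ℕ} (hF : Fintype.card F = p ^ a) {b : ℕ} (hb : b ≤ Fintype.card F - 1)
    (φ : Vb ι b ≃ₗ[k] W)
    (hφ : ∀ g x, φ (RB ι p hb g x) = subRep ρ W hW g (φ x)) (htr : ∀ g x, ρ g x - x ∈ W) :
    ∃ z : ℕ → (E →ₗ[k] k), (∀ i < a, Exc p a b i → ∀ x ∈ W, z i x = 0) ∧
      (∀ i x, Dm ι ρ (en p b i) x = 0 → z i x = 0) ∧
      ∀ x, (∀ i < a, Exc p a b i → z i x = 0) → ∃ x', (∀ g, ρ g x' = x') ∧ x' - x ∈ W := by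
  have hp : p.Prime := Fact.out
  have hq := one_lt (F := F)
  obtain ⟨Q, hQ⟩ : ∃ Q, Q = Fintype.card F - 1 := ⟨_, rfl⟩
  have hQ0 : 0 < Q := by omega
  have hb' : b ≤ Q := by omega
  have hpa : p ^ a = Q + 1 := by omega
  have hs1 := neg_one_pow_Q ι
  have hcard : (Fintype.card Fˣ : k) = -1 := by
    rw [Fintype.card_units]
    exact cast_Q p
  have hane : ∀ a : Fˣ, ι (a : F) ≠ 0 := fun a => (map_ne_zero ι).2 a.ne_zero
  -- the functional
  let δ : Vb ι b →ₗ[k] k := (LinearMap.proj ((1 : F), (0 : F))) ∘ₗ (Vb ι b).subtype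
  obtain ⟨m', hm'⟩ := LinearMap.exists_extend (δ ∘ₗ (φ.symm : W →ₗ[k] Vb ι b))
  have hm'φ : ∀ f : Vb ι b, m' (φ f : E) = (f : F × F → k) (1, 0) := by
    intro f
    have h1 := LinearMap.congr_fun hm' (φ f)
    have h2 : m' (φ f : E) = δ (φ.symm (φ f)) := h1
    rw [h2, LinearEquiv.symm_apply_apply]
    rfl
  have hφ' : ∀ g f, ρ g (φ f : E) = (φ (RB ι p hb g f) : E) := by
    intro g f
    rw [hφ]
    rfl
  let m : E →ₗ[k] k := -∑ a : Fˣ, ((ι (a : F))⁻¹ ^ b) • (m' ∘ₗ (ρ (h a) : E →ₗ[k] E))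
  have hm_apply : ∀ x, m x = -∑ a : Fˣ, ((ι (a : F))⁻¹ ^ b) * m' (ρ (h a) x) := by
    intro x
    simp [m, LinearMap.sum_apply]
  have hmφ : ∀ f : Vb ι b, m (φ f : E) = (f : F × F → k) (1, 0) := by
    intro f
    rw [hm_apply]
    have h1 : ∀ a : Fˣ, ((ι (a : F))⁻¹ ^ b) * m' (ρ (h a) (φ f : E)) = (f : F × F → k) (1, 0) := by
      intro a
      rw [hφ', hm'φ]
      have h2 : ((RB ι p hb (h a) f : Vb ι b) : F × F → k) (1, 0) = (f : F × F → k) ((a : F), 0) := by
        show fRep k F (h a) (f : F × F → k) (1, 0) = _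
        rw [fRep_h, one_mul, zero_mul]
      rw [h2, eval_one ι f.2, ← mul_assoc, ← mul_pow, inv_mul_cancel₀ (hane a), one_pow, one_mul]
    rw [Finset.sum_congr rfl fun a _ => h1 a, Finset.sum_const, Finset.card_univ, nsmul_eq_mul, hcard]
    ring
  have hmh : ∀ a x, m (ρ (h a) x) = ι (a : F) ^ b * m x := by
    intro a x
    rw [hm_apply, hm_apply, mul_neg, Finset.mul_sum]
    congr 1
    refine Fintype.sum_equiv (Equiv.mulRight a) _ _ fun c => ?_
    rw [apply_mul, ← h_mul]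
    show _ = ι (a : F) ^ b * ((ι ((c * a : Fˣ) : F))⁻¹ ^ b * m' (ρ (h (c * a)) x))
    rw [← mul_assoc]
    congr 1
    rw [Units.val_mul, map_mul, mul_inv, mul_pow, mul_comm ((ι (c : F))⁻¹ ^ b), ← mul_assoc, ← mul_pow,
      mul_inv_cancel₀ (hane a), one_pow, one_mul]
  -- the functionals `z_n`
  have hDφ : ∀ n (f : Vb ι b), ((Dm ι ρ n (φ f : E)) : E) = (φ (Dm ι (RB ι p hb) n f) : E) := by
    intro n f
    rw [Dm_apply, Dm_apply, map_neg, map_sum]
    push_cast
    congr 1
    refine Finset.sum_congr rfl fun t _ => ?_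
    rw [map_smul, Submodule.coe_smul, hφ']
  have hDco : ∀ n (f : Vb ι b), ((Dm ι (RB ι p hb) n f : Vb ι b) : F × F → k) =
      Dm ι (fRep k F) n (f : F × F → k) := by
    intro n f
    rw [Dm_apply, Dm_apply]
    push_cast
    rfl
  obtain ⟨e, he⟩ := Cfsg.Agent.H179.SLC.exists_coord ι p ι.injective hs1 hb
  have hzφ : ∀ (x : Bf k b → k) (n : ℕ), 1 ≤ n → n ≤ Q → m (Dm ι ρ n (φ (e x) : E)) =
      if h : n ≤ b ∧ b - n ∈ Bf k b then x ⟨b - n, h.2⟩ else 0 := by
    intro x n hn hn'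
    rw [hDφ, hmφ, hDco, he, Dm_eval ι hb x hn (by omega)]
  have hBf : ∀ n ≤ b, (b - n ∈ Bf k b ↔ ¬ p ∣ b.choose n) := by
    intro n hn
    rw [mem_Bf]
    unfold Bb
    rw [Set.mem_ofPred_eq, Nat.choose_symm hn, Ne, CharP.cast_eq_zero_iff k p]
    exact ⟨fun h => h.2, fun h => ⟨Nat.sub_le _ _, h⟩⟩
  have hz0 : ∀ n, 1 ≤ n → n ≤ Q → p ∣ b.choose n → ∀ y ∈ W, m (Dm ι ρ n y) = 0 := by
    intro n hn hn' hl y hy
    obtain ⟨f, hf⟩ := φ.surjective ⟨y, hy⟩
    obtain ⟨x, rfl⟩ := e.surjective f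
    have h1 : y = (φ (e x) : E) := by rw [hf]
    rw [h1, hzφ x n hn hn', dif_neg]
    rintro ⟨h2, h3⟩
    exact (hBf n h2).1 h3 hl
  have hen1 : ∀ i, 1 ≤ en p b i := fun i => Nat.mul_pos (Nat.succ_pos _) (Nat.pow_pos hp.pos)
  have henQ : ∀ i < a, b / p ^ i % p + 1 < p → en p b i ≤ Q := by
    intro i hi h1
    have h2 : en p b i < p ^ a := by
      unfold en
      calc (b / p ^ i % p + 1) * p ^ i < p * p ^ i := Nat.mul_lt_mul_of_pos_right h1 (Nat.pow_pos hp.pos)
        _ = p ^ (i + 1) := by rw [pow_succ, mul_comm]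
        _ ≤ p ^ a := Nat.pow_le_pow_right hp.pos hi
    omega
  have hzero : ∀ n, 1 ≤ n → n ≤ Q → p ∣ b.choose n → (∀ i < a, Exc p a b i → n ≠ en p b i) → ∀ x,
      m (Dm ι ρ n x) = 0 := by
    intro n hn hn' hl hex x
    obtain ⟨i, hi, hlt, hd1, hd2⟩ := exists_digit hp (a := a) (b := b) (n := n) (by omega) hl
    have hle : en p b i ≤ n := by
      by_contra hc
      rw [Nat.choose_eq_zero_of_lt (by omega)] at hd1
      exact hd1 (dvd_zero p)
    rcases Nat.lt_or_ge (en p b i) n with hlt' | hge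
    · have h1 := hz0 _ (hen1 i) (henQ i hi hlt) hd2 _ (Dm_mem ι ρ htr (m := n - en p b i) (by omega) x)
      rw [Dm_mul' ι ρ p hF (hen1 i) (by omega) (by omega), map_smul, smul_eq_mul,
        show en p b i + (n - en p b i) = n by omega] at h1
      refine (mul_eq_zero.1 h1).resolve_left ?_
      rw [CharP.cast_eq_zero_iff k p]
      exact hd1
    · have hni : n = en p b i := by omega
      have hmod : ¬ 2 * n % Q = b % Q := by
        intro h1
        refine hex i hi ⟨hlt, ?_⟩ hni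
        rw [← hni, hpa]
        exact h1
      obtain ⟨lam, hlam⟩ := IsCyclic.exists_generator (α := Fˣ)
      have hprim := primitive ι ι.injective hlam
      rw [← hQ] at hprim
      have h1 : ι (lam : F) ^ b * m (Dm ι ρ n x) = ι (lam : F) ^ (2 * n) * m (Dm ι ρ n x) := by
        rw [← hmh, h_Dm ι ρ (by omega), map_smul, smul_eq_mul]
        congr 1
        have h2 := hz0 n hn hn' hl _ (htr (h lam) x)
        rwa [map_sub, map_sub, sub_eq_zero] at h2
      by_contra hne
      have h2 := mul_right_cancel₀ hne h1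
      apply hmod
      have h3 := (hprim.isOfFinOrder (by omega)).pow_eq_pow_iff_modEq.1 h2
      rw [← hprim.eq_orderOf] at h3
      exact h3.symm
  -- the obstruction
  refine ⟨fun i => m ∘ₗ Dm ι ρ (en p b i), fun i hi hE x hx => ?_, fun i x hx => ?_, fun x hx => ?_⟩
  · have h1 : p ∣ b.choose (en p b i) := by
      by_contra hc
      rw [not_dvd_choose_iff hp] at hc
      have h2 := hc i
      have h3 : en p b i / p ^ i % p = b / p ^ i % p + 1 := by
        unfold en
        rw [dg_single hp.one_lt hE.1, if_pos rfl]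
      omega
    exact hz0 _ (hen1 i) (henQ i hi hE.1) h1 x hx
  · show m (Dm ι ρ (en p b i) x) = 0
    rw [hx, map_zero]
  have hzall : ∀ n, 1 ≤ n → n ≤ Q → p ∣ b.choose n → m (Dm ι ρ n x) = 0 := by
    intro n hn hn' hl
    by_cases hex : ∃ i < a, Exc p a b i ∧ n = en p b i
    · obtain ⟨i, hi, hE, rfl⟩ := hex
      exact hx i hi hE
    · push Not at hex
      exact hzero n hn hn' hl hex x
  -- the correction
  let γ : Bf k b → k := fun j => if (j : ℕ) = b then m x else m (Dm ι ρ (b - j) x)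
  let v : E := (φ (e γ) : E)
  have hvW : v ∈ W := (φ (e γ)).2
  have hbB : b ∈ Bf k b := by
    rw [mem_Bf]
    exact ⟨le_rfl, by rw [Nat.choose_self, Nat.cast_one]; exact one_ne_zero⟩
  have hcoef : ∀ y : Bf k b → k, m (φ (e y) : E) = y ⟨b, hbB⟩ := by
    intro y
    rw [hmφ, he, Finset.sum_apply, Finset.sum_eq_single (⟨b, hbB⟩ : Bf k b)]
    · show y _ * mon ι b b (1, 0) = _
      rw [mon_self, map_one, one_pow, mul_one]
    · intro j _ hj
      show y _ * mon ι b j (1, 0) = 0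
      have h1 := (mem_Bf.1 j.2).1
      have h2 : (j : ℕ) ≠ b := fun h => hj (Subtype.ext h)
      unfold mon
      rw [map_zero, zero_pow (show b - (j : ℕ) ≠ 0 by omega)]
      ring
    · intro h
      exact absurd (Finset.mem_univ _) h
  have hx1 : m (x - v) = 0 := by
    rw [map_sub, hcoef, sub_eq_zero]
    show m x = if b = b then m x else _
    rw [if_pos rfl]
  have hx2 : ∀ n, 1 ≤ n → n ≤ Q → m (Dm ι ρ n (x - v)) = 0 := by
    intro n hn hn'
    rw [map_sub, map_sub, sub_eq_zero, hzφ γ n hn hn']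
    split_ifs with h
    · show _ = if b - n = b then m x else m (Dm ι ρ (b - (b - n)) x)
      rw [if_neg (by omega), show b - (b - n) = n by omega]
    · refine hzall n hn hn' ?_
      by_cases h2 : n ≤ b
      · by_contra h3
        exact h ⟨h2, (hBf n h2).2 h3⟩
      · rw [Nat.choose_eq_zero_of_lt (by omega)]
        exact dvd_zero p
  -- vanishing
  have hvan : ∀ y ∈ W, m y = 0 → (∀ n, 1 ≤ n → n ≤ Q → m (Dm ι ρ n y) = 0) → y = 0 := by
    intro y hy h1 h2
    obtain ⟨f, hf⟩ := φ.surjective ⟨y, hy⟩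
    obtain ⟨c, rfl⟩ := e.surjective f
    have h4 : y = (φ (e c) : E) := by rw [hf]
    have h5 : c = 0 := by
      funext j
      have hj := (mem_Bf.1 j.2).1
      by_cases hjb : (j : ℕ) = b
      · have h6 := hcoef c
        rw [← h4, h1] at h6
        have h7 : j = ⟨b, hbB⟩ := Subtype.ext hjb
        rw [h7, ← h6]
        rfl
      · have h6 := h2 (b - j) (by omega) (by omega)
        rw [h4, hzφ c _ (by omega) (by omega), dif_pos ⟨Nat.sub_le _ _, by
          rw [show b - (b - (j : ℕ)) = j by omega]; exact j.2⟩] at h6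
        have h7 : (⟨b - (b - (j : ℕ)), by rw [show b - (b - (j : ℕ)) = j by omega]; exact j.2⟩ : Bf k b) = j :=
          Subtype.ext (show b - (b - (j : ℕ)) = j by omega)
        rw [h7] at h6
        exact h6
    rw [h4, h5, map_zero, map_zero]
    rfl
  set x' := x - v with hx'
  have hu : ∀ t, ρ (u t) x' = x' := by
    intro t
    rw [← sub_eq_zero]
    have h1 : ρ (u t) x' - x' = ∑ j ∈ Finset.Icc 1 Q, ι t ^ j • Dm ι ρ j x' := by
      rw [u_eq ι ρ p t x', add_sub_cancel_left, hQ]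
    refine hvan _ (htr _ _) ?_ ?_
    · rw [h1, map_sum]
      refine Finset.sum_eq_zero fun j hj => ?_
      rw [Finset.mem_Icc] at hj
      rw [map_smul, hx2 j hj.1 hj.2, smul_zero]
    · intro n hn hn'
      rw [h1, map_sum, map_sum]
      refine Finset.sum_eq_zero fun j hj => ?_
      rw [Finset.mem_Icc] at hj
      rw [map_smul, map_smul]
      by_cases hnj : n + j ≤ Q
      · rw [Dm_mul' ι ρ p hF hn hj.1 (by omega), map_smul, hx2 _ (by omega) hnj, smul_zero, smul_zero]
      · rw [Dm_mul_zero ι ρ hn hj.1 (by omega) (by omega) (by omega), map_zero, smul_zero]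
  have hh : ∀ a, ρ (h a) x' = x' := by
    intro a
    rw [← sub_eq_zero]
    refine hvan _ (htr _ _) ?_ ?_
    · rw [map_sub, hmh, hx1, mul_zero, sub_zero]
    · intro n hn hn'
      rw [map_sub, map_sub, hx2 n hn hn', sub_zero]
      have h1 := hmh a (Dm ι ρ n x')
      rw [h_Dm ι ρ (by omega), map_smul, hx2 n hn hn', mul_zero, smul_eq_mul] at h1
      exact (mul_eq_zero.1 h1).resolve_left (pow_ne_zero _ (hane a))
  refine ⟨x' + ∑ t : F, ρ (u t) (ρ w x'), avg_fixed ρ hu hh, ?_⟩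
  have h1 : ∑ t : F, ρ (u t) (ρ w x') ∈ W := by
    have h2 : ∑ t : F, ρ (u t) (ρ w x') = ∑ t : F, (ρ (u t * w) x' - x') := by
      rw [Finset.sum_sub_distrib, Finset.sum_const, Finset.card_univ, ← Nat.cast_smul_eq_nsmul k,
        card_zero (k := k) (F := F) p, zero_smul, sub_zero]
      exact Finset.sum_congr rfl fun t _ => apply_mul ρ _ _ _
    rw [h2]
    exact sum_mem fun t _ => htr _ _
  have h2 : x' + ∑ t : F, ρ (u t) (ρ w x') - x = ∑ t : F, ρ (u t) (ρ w x') - v := by
    rw [hx']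
    abel
  rw [h2]
  exact W.sub_mem h1 hvW

end Main

end Cfsg.Agent.R2.H28.SL2
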