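import Cfsg.Agent.R2.H28.SL2.SPres

/-!
# Pressure for `Hom(V_b, V)` (helper28)

`extp` : if `V_b` is neither a submodule nor a quotient of `V` then its multiplicity is less than the number of the
exceptional factors of `V_b ⊗ V`.
-/

set_option autoImplicit false
set_option linter.unusedSectionVars false

namespace Cfsg.Agent.R2.H28.SL2

open Matrix Cfsg.Agent.H943.SL2Rel Cfsg.Agent.H943.SL2Mod Cfsg.Agent.H943.RepAdd
open Cfsg.Agent.H179.SLC (fx mem_fx)

universe u v w

variable {k : Type u} [Field k] [DecidableEq k] {F : Type w} [Field F] [Fintype F] [DecidableEq F] (ι : F →+* k)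
variable (p : ℕ) [Fact p.Prime] [CharP k p] [CharP F p]

variable [IsAlgClosed k] {a : ℕ}

/-- composition factors exist as modules -/
theorem exists_of_mem_cf {V : Type v} [AddCommGroup V] [Module k V] [FiniteDimensional k V]
    {ρ : Representation k (SpecialLinearGroup (Fin 2) F) V} {b : ℕ} (hb : b ∈ cf (Sy.{u, v, w} ι p) ρ) :
    ∃ (B : Type v) (_ : AddCommGroup B) (_ : Module k B) (σ : Representation k (SpecialLinearGroup (Fin 2) F) B),
      IsV ι p σ b := by
  have key : ∀ (n : ℕ) (V : Type v) [AddCommGroup V] [Module k V] (ρ : Representation k (SpecialLinearGroup (Fin 2) F) V)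
      (s : Multiset ℕ), JHn (Sy.{u, v, w} ι p) n ρ s → b ∈ s →
      ∃ (B : Type v) (_ : AddCommGroup B) (_ : Module k B) (σ : Representation k (SpecialLinearGroup (Fin 2) F) B),
      IsV ι p σ b := by
    intro n
    induction n with
    | zero =>
      intro V _ _ ρ s hs hb
      rw [hs.2] at hb
      exact absurd hb (Multiset.notMem_zero b)
    | succ n ih =>
      intro V _ _ ρ s hs hb
      obtain ⟨W, hW, c, t, hc, rfl, ht⟩ := hs
      rcases Multiset.mem_cons.1 hb with rfl | h
      · exact ⟨_, _, _, subRep ρ W hW, hc⟩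
      · exact ih _ _ t ht h
  obtain ⟨n, hn⟩ := cf_spec (Sy.{u, v, w} ι p) ρ
  exact key n V ρ _ hn hb

/-- fixed vectors of `Hom(B, V)` -/
theorem hom_fixed {V : Type*} [AddCommGroup V] [Module k V] {ρ : Representation k (SpecialLinearGroup (Fin 2) F) V}
    {B : Type*} [AddCommGroup B] [Module k B] {σ : Representation k (SpecialLinearGroup (Fin 2) F) B} {f : B →ₗ[k] V}
    (hf : ∀ g, Representation.linHom σ ρ g f = f) (g : SpecialLinearGroup (Fin 2) F) (x : B) : f (σ g x) = ρ g (f x) := by
  have h1 := LinearMap.congr_fun (hf g) (σ g x)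
  rw [Representation.linHom_apply, LinearMap.comp_apply, LinearMap.comp_apply] at h1
  have h2 : σ g⁻¹ (σ g x) = x := by
    rw [← Module.End.mul_apply, ← map_mul, inv_mul_cancel, map_one, Module.End.one_apply]
  rw [h2] at h1
  exact h1.symm

/-- invariant functionals of `Hom(B, V)` -/
theorem hom_functional {V : Type*} [AddCommGroup V] [Module k V] {ρ : Representation k (SpecialLinearGroup (Fin 2) F) V}
    {B : Type*} [AddCommGroup B] [Module k B] [FiniteDimensional k B] {σ : Representation k (SpecialLinearGroup (Fin 2) F) B}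
    {Φ : (B →ₗ[k] V) →ₗ[k] k} (hΦ : ∀ g f, Φ (Representation.linHom σ ρ g f) = Φ f) (hΦ0 : Φ ≠ 0) :
    ∃ f : V →ₗ[k] B, (∀ g x, f (ρ g x) = σ g (f x)) ∧ f ≠ 0 := by
  let L : V →ₗ[k] Module.Dual k (Module.Dual k B) :=
    { toFun := fun v => { toFun := fun ξ => Φ (ξ.smulRight v)
                          map_add' := fun ξ η => by
                            rw [← map_add]
                            congr 1
                            ext x
                            show (ξ x + η x) • v = ξ x • v + η x • v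
                            rw [add_smul]
                          map_smul' := fun c ξ => by
                            rw [RingHom.id_apply, ← map_smul]
                            congr 1
                            ext x
                            show (c • ξ x) • v = c • (ξ x • v)
                            rw [smul_assoc] }
      map_add' := fun v w => by
        ext ξ
        show Φ (ξ.smulRight (v + w)) = Φ (ξ.smulRight v) + Φ (ξ.smulRight w)
        rw [← map_add]
        congr 1
        ext x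
        show ξ x • (v + w) = ξ x • v + ξ x • w
        rw [smul_add]
      map_smul' := fun c v => by
        ext ξ
        show Φ (ξ.smulRight (c • v)) = c • Φ (ξ.smulRight v)
        rw [← map_smul]
        congr 1
        ext x
        show ξ x • (c • v) = c • (ξ x • v)
        rw [smul_comm] }
  have hL : ∀ v ξ, L v ξ = Φ (ξ.smulRight v) := fun _ _ => rfl
  let f : V →ₗ[k] B := ((Module.evalEquiv k B).symm : Module.Dual k (Module.Dual k B) →ₗ[k] B) ∘ₗ L
  have hf : ∀ v (ξ : Module.Dual k B), ξ (f v) = Φ (ξ.smulRight v) := by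
    intro v ξ
    have h1 : Module.evalEquiv k B (f v) = L v := (Module.evalEquiv k B).apply_symm_apply (L v)
    rw [← hL, ← h1]
    rfl
  refine ⟨f, fun g x => ?_, fun h0 => hΦ0 ?_⟩
  · rw [← sub_eq_zero]
    refine (Module.forall_dual_apply_eq_zero_iff k _).1 fun ξ => ?_
    rw [map_sub, hf, sub_eq_zero]
    have h2 : ξ (σ g (f x)) = (ξ ∘ₗ σ g) (f x) := rfl
    rw [h2, hf, ← hΦ g ((ξ ∘ₗ σ g).smulRight x)]
    congr 1
    ext y
    show ξ y • ρ g x = ρ g (ξ (σ g (σ g⁻¹ y)) • x)
    have h3 : σ g (σ g⁻¹ y) = y := by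
      rw [← Module.End.mul_apply, ← map_mul, mul_inv_cancel, map_one, Module.End.one_apply]
    rw [h3, map_smul]
  · refine LinearMap.ext fun h => ?_
    let e := Module.finBasis k B
    have h1 : h = ∑ i, (e.coord i).smulRight (h (e i)) := by
      refine e.ext fun j => ?_
      rw [LinearMap.sum_apply, Finset.sum_eq_single j]
      · rw [LinearMap.smulRight_apply, Module.Basis.coord_apply, Module.Basis.repr_self, Finsupp.single_eq_same, one_smul]
      · intro i _ hij
        rw [LinearMap.smulRight_apply, Module.Basis.coord_apply, Module.Basis.repr_self, Finsupp.single_eq_of_ne, zero_smul]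
        exact hij
      · intro h3
        exact absurd (Finset.mem_univ _) h3
    rw [h1, map_sum, LinearMap.zero_apply]
    refine Finset.sum_eq_zero fun i _ => ?_
    rw [← hf, h0, LinearMap.zero_apply, map_zero]

variable (hF : Fintype.card F = p ^ a)

include hF in
/-- the factors of `Hom(V_b, V)` -/
theorem cf_hom {V : Type v} [AddCommGroup V] [Module k V] [FiniteDimensional k V]
    (ρ : Representation k (SpecialLinearGroup (Fin 2) F) V)
    {B : Type v} [AddCommGroup B] [Module k B] [FiniteDimensional k B] {σ : Representation k (SpecialLinearGroup (Fin 2) F) B}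
    {b : ℕ} (hB : IsV ι p σ b) (f : ℕ → Multiset ℕ)
    (hf : ∀ d ∈ cf (Sy.{u, v, w} ι p) ρ, (∀ c ∈ f d, c < p ^ a) ∧ ∀ z, Zs (p ^ a) z → cs k (f d) z = chB k b z * chB k d z) :
    cf (Sy.{u, v, w} ι p) (Representation.linHom σ ρ) = (cf (Sy.{u, v, w} ι p) ρ).bind f := by
  refine cf_of_cs ι p hF (fun c hc => ?_) fun z hz => ?_
  · obtain ⟨d, hd, hc⟩ := Multiset.mem_bind.1 hc
    exact (hf d hd).1 c hc
  · rw [cs_hom ι p hF σ ρ hz, cf_irr (Sy.{u, v, w} ι p) hB, cs_singleton, cs_bind,
      Multiset.map_congr rfl fun d hd => (hf d hd).2 z hz, Multiset.sum_map_mul_left]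
    rfl

theorem count_bind_ge {b : ℕ} (f : ℕ → Multiset ℕ) (hf : 0 ∈ f b) (s : Multiset ℕ) : s.count b ≤ (s.bind f).count 0 := by
  induction s using Multiset.induction with
  | empty => simp
  | cons c s ih =>
    rw [Multiset.cons_bind, Multiset.count_add, Multiset.count_cons]
    split_ifs with h
    · rw [← h]
      have := Multiset.one_le_count_iff_mem.2 hf
      omega
    · omega

theorem Hs_bind (a : ℕ) (f : ℕ → Multiset ℕ) (s : Multiset ℕ) : Hs p a (s.bind f) = (s.map fun d => Hs p a (f d)).sum := by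
  unfold Hs
  rw [Multiset.map_bind, Multiset.sum_bind]

include hF in
/-- **EXTP** -/
theorem extp {V : Type v} [AddCommGroup V] [Module k V] [FiniteDimensional k V]
    {ρ : Representation k (SpecialLinearGroup (Fin 2) F) V} {V' : Type v} [AddCommGroup V'] [Module k V']
    [FiniteDimensional k V'] {ρ' : Representation k (SpecialLinearGroup (Fin 2) F) V'} {P : V →ₗ[k] V' →ₗ[k] k}
    (D : Dul ρ ρ' P) (h0 : hb p a 0 = 0) {b : ℕ} (h1 : ¬ InSoc ι p ρ b) (h2 : ¬ InSoc ι p ρ' b)
    (hb : b ∈ cf (Sy.{u, v, w} ι p) ρ)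
    (hov : ∀ d ∈ cf (Sy.{u, v, w} ι p) ρ, ∀ i < a, b / p ^ i % p + d / p ^ i % p < p) :
    (cf (Sy.{u, v, w} ι p) ρ).count b < ((cf (Sy.{u, v, w} ι p) ρ).map fun d => Hs p a (cg p a b d)).sum := by
  have hp : p.Prime := Fact.out
  obtain ⟨B, _, _, σ, hB⟩ := exists_of_mem_cf ι p hb
  have hfin := hB.finite
  have hlt := cf_lt ι p hF ρ
  have h3 := cf_hom ι p hF ρ hB (cg p a b) fun d hd =>
    ⟨fun c hc => (mem_cg hp.pos a (hov d hd) hc).1, fun z hz =>
      cs_cg k p a (hlt b hb) (hlt d hd) (hov d hd) (hz.ne_zero (two_le_q p hF))⟩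
  have h4 := count_bind_ge (cg p a b) (zero_mem_cg p a b) (cf (Sy.{u, v, w} ι p) ρ)
  have h5 := Multiset.one_le_count_iff_mem.2 hb
  have h6 := strict_pressure ι p hF h0 (ρ := Representation.linHom σ ρ) (fun f hf => by
    by_contra hf0
    exact h1 (inSoc_of_hom ι p hB f (hom_fixed hf) hf0)) (fun Φ hΦ => by
    by_contra hΦ0
    obtain ⟨f, hf, hf0⟩ := hom_functional hΦ hΦ0
    exact h2 (inSoc_of_hom' ι p D hB f hf hf0)) (by rw [h3]; omega)
  rw [h3, Hs_bind] at h6
  omega

include hF in
/-- **EXTP, small digits** -/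
theorem extp_small {V : Type v} [AddCommGroup V] [Module k V] [FiniteDimensional k V]
    {ρ : Representation k (SpecialLinearGroup (Fin 2) F) V} {V' : Type v} [AddCommGroup V'] [Module k V']
    [FiniteDimensional k V'] {ρ' : Representation k (SpecialLinearGroup (Fin 2) F) V'} {P : V →ₗ[k] V' →ₗ[k] k}
    (D : Dul ρ ρ' P) (hp3 : 3 < p) (ha : 2 ≤ a) {b : ℕ}
    (hbm : b ∈ cf (Sy.{u, v, w} ι p) ρ)
    (hov : ∀ d ∈ cf (Sy.{u, v, w} ι p) ρ, ∀ i < a, b / p ^ i % p + d / p ^ i % p < p - 2) :
    InSoc ι p ρ b ∨ InSoc ι p ρ' b := by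
  have hp : p.Prime := Fact.out
  by_contra hc
  push Not at hc
  have h0 : hb p a 0 = 0 := hb_eq_zero_of_digits hp (by omega) ha (Nat.pow_pos hp.pos) fun i _ => by
    rw [Nat.zero_div, Nat.zero_mod]
    omega
  have h1 := extp ι p hF D h0 hc.1 hc.2 hbm fun d hd i hi => by
    have := hov d hd i hi
    omega
  rw [Multiset.map_congr rfl fun d hd => Hs_cg_eq_zero hp (by omega) ha (hov d hd)] at h1
  simp at h1

/-- digits of a sum of two different powers -/
theorem dg_pair {i j l : ℕ} (hp : 1 < p) (hij : i ≠ j) :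
    (p ^ i + p ^ j) / p ^ l % p = if l = i then 1 else if l = j then 1 else 0 := by
  have := dg_two (l := l) hp hij hp
  rwa [one_mul] at this

/-- the exceptional factors of `V_{p^i+p^j} ⊗ V_d`, `d` with all digits `< p - 3` -/
theorem Hs_pair_small {i j d : ℕ} (hp : p.Prime) (hp3 : 3 < p) (ha : 2 ≤ a) (hij : i ≠ j)
    (hd : ∀ l < a, d / p ^ l % p < p - 3) : Hs p a (cg p a (p ^ i + p ^ j) d) = 0 := by
  refine Hs_cg_eq_zero hp (by omega) ha fun l hl => ?_
  have := hd l hl
  rw [dg_pair p hp.one_lt hij]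
  split_ifs <;> omega

/-- the exceptional factors of `V_{p^i+p^j} ⊗ V_{(p-3)p^m}` -/
theorem Hs_pair_single {i j m : ℕ} (hp : p.Prime) (hp3 : 5 < p) (ha : 2 ≤ a) (hij : i ≠ j) (hi : i < a) (hj : j < a)
    (hm : m < a) : Hs p a (cg p a (p ^ i + p ^ j) ((p - 3) * p ^ m)) ≤
      if (i = m ∧ j = (m + 1) % a) ∨ (j = m ∧ i = (m + 1) % a) then 1 else 0 := by
  have hp1 := hp.one_lt
  have hov : ∀ l < a, (p ^ i + p ^ j) / p ^ l % p + ((p - 3) * p ^ m) / p ^ l % p < p := by
    intro l _
    rw [dg_pair p hp1 hij, dg_single hp1 (show p - 3 < p by omega)]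
    split_ifs <;> omega
  have key : ∀ c ∈ cg p a (p ^ i + p ^ j) ((p - 3) * p ^ m), hb p a c ≠ 0 →
      ((i = m ∧ j = (m + 1) % a) ∨ (j = m ∧ i = (m + 1) % a)) ∧ c = (p - 2) * p ^ m + p ^ ((m + 1) % a) := by
    intro c hc h0
    obtain ⟨h1, h2⟩ := mem_cg hp.pos a hov hc
    unfold hb at h0
    rw [Ne, Finset.card_eq_zero, ← Ne, ← Finset.nonempty_iff_ne_empty] at h0
    obtain ⟨l, hl⟩ := h0
    rw [Finset.mem_filter, Finset.mem_range] at hl
    have h3 := (exc_odd hp (by omega) hl.1 h1 hl.2).resolve_left (by omega)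
    have h4 := h2 l hl.1
    have hll := succ_mod_ne ha hl.1
    rw [h3.2] at h2
    have h5 := h2 l hl.1
    rw [dg_two hp1 hll (by omega), if_pos rfl, dg_pair p hp1 hij, dg_single hp1 (show p - 3 < p by omega)] at h5
    have hlm : l = m ∧ (l = i ∨ l = j) := by
      by_cases h6 : l = m
      · refine ⟨h6, ?_⟩
        by_contra h7
        push Not at h7
        rw [if_neg h7.1, if_neg h7.2, if_pos h6] at h5
        omega
      · rw [if_neg h6] at h5
        exfalso
        split_ifs at h5 <;> omega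
    obtain ⟨rfl, hlij⟩ := hlm
    refine ⟨?_, h3.2⟩
    rcases hlij with rfl | rfl
    · left
      refine ⟨rfl, ?_⟩
      have h6 := h2 j hj
      rw [dg_two hp1 hll (by omega), if_neg (Ne.symm hij), dg_pair p hp1 hij, if_neg (Ne.symm hij), if_pos rfl,
        dg_single hp1 (show p - 3 < p by omega), if_neg (Ne.symm hij)] at h6
      by_contra h7
      rw [if_neg h7] at h6
      omega
    · right
      refine ⟨rfl, ?_⟩
      have h6 := h2 i hi
      rw [dg_two hp1 hll (by omega), if_neg hij, dg_pair p hp1 hij, if_pos rfl,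
        dg_single hp1 (show p - 3 < p by omega), if_neg hij] at h6
      by_contra h7
      rw [if_neg h7] at h6
      omega
  split_ifs with h
  · refine Hs_le_of_unique hp (fun h9 => ?_) (nodup_cg a hov) (fun c hc => (mem_cg hp.pos a hov hc).1) _
      fun c hc h0 => (key c hc h0).2
    have h10 : 7 ^ 2 ≤ p ^ a := by
      calc 7 ^ 2 ≤ p ^ 2 := Nat.pow_le_pow_left (by
            by_contra h11
            have h12 : p = 6 := by omega
            rw [h12] at hp
            revert hp
            decide) 2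
        _ ≤ p ^ a := Nat.pow_le_pow_right hp.pos ha
    omega
  · have h1 : Hs p a (cg p a (p ^ i + p ^ j) ((p - 3) * p ^ m)) = 0 := by
      refine Hs_eq_zero fun c hc => ?_
      by_contra h0
      exact h (key c hc h0).1
    omega

end Cfsg.Agent.R2.H28.SL2
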