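import Cfsg.Agent.R2.H28.SL2.Fra

/-!
# The dimension and the composition factors (helper28)
-/

set_option autoImplicit false
set_option linter.unusedSectionVars false

namespace Cfsg.Agent.R2.H28.SL2

open Matrix Cfsg.Agent.H943.SL2Rel Cfsg.Agent.H943.SL2Mod Cfsg.Agent.H943.RepAdd

universe u v w

variable {k : Type u} [Field k] [DecidableEq k] {F : Type w} [Field F] [Fintype F] [DecidableEq F] (ι : F →+* k)
variable (p : ℕ) [Fact p.Prime] [CharP k p] [CharP F p] [IsAlgClosed k]

/-- **dimensions** -/
theorem finrank_cf : ∀ (n : ℕ) (V : Type v) [AddCommGroup V] [Module k V] [FiniteDimensional k V]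
    (ρ : Representation k (SpecialLinearGroup (Fin 2) F) V), Module.finrank k V ≤ n →
    Module.finrank k V = ((cf (Sy.{u, v, w} ι p) ρ).map fun b => (Bf k b).card).sum := by
  intro n
  induction n with
  | zero =>
    intro V _ _ _ ρ hn
    have h1 : Subsingleton V := (Module.finrank_zero_iff (R := k)).1 (by omega)
    rw [cf_zero, Multiset.map_zero, Multiset.sum_zero]
    omega
  | succ n ih =>
    intro V _ _ _ ρ hn
    by_cases hnt : Nontrivial V
    · obtain ⟨c, X, hX, hc⟩ := exists_inSoc ι p ρ
      have h3 : 0 < Module.finrank k X := by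
        rw [Nat.pos_iff_ne_zero, Ne, Submodule.finrank_eq_zero]
        exact Submodule.nontrivial_iff_ne_bot.1 hc.irr.1
      have h4 := Submodule.finrank_quotient_add_finrank X
      rw [cf_add (Sy.{u, v, w} ι p) ρ X hX, cf_irr (Sy.{u, v, w} ι p) hc, Multiset.map_add, Multiset.sum_add, Multiset.map_singleton,
        Multiset.sum_singleton, ← ih _ (quotRep ρ X hX) (by omega), ← IsV.finrank ι hc]
      omega
    · have := not_nontrivial_iff_subsingleton.1 hnt
      rw [cf_zero, Multiset.map_zero, Multiset.sum_zero]
      exact Module.finrank_zero_of_subsingleton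

end Cfsg.Agent.R2.H28.SL2
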