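import Cfsg.Agent.R2.H28.SL2.ExtY
import Cfsg.Agent.R2.H28.SL2.Extp
import Cfsg.Agent.R2.H28.SL2.FinCf

/-!
# Extensions and the first cohomology (helper28)

`ext0_of_Hs` : `Ext0 c b` if the factors of `Hom(V_c, V_b)` are not exceptional.
-/

set_option autoImplicit false
set_option linter.unusedSectionVars false

namespace Cfsg.Agent.R2.H28.SL2

open Matrix Cfsg.Agent.H943.SL2Rel Cfsg.Agent.H943.SL2Mod Cfsg.Agent.H943.RepAdd
open Cfsg.Agent.H179.SLC (Z1 cob fx ker_cob cob_apply mem_Z1)

universe u v w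

variable {k : Type u} [Field k] [DecidableEq k] {F : Type w} [Field F] [Fintype F] [DecidableEq F] (ι : F →+* k)
variable (p : ℕ) [Fact p.Prime] [CharP k p] [CharP F p] [IsAlgClosed k] {a : ℕ} (hF : Fintype.card F = p ^ a)

/-- the fixed vectors and the trivial factors -/
theorem fx_le_count : ∀ (n : ℕ) (V : Type v) [AddCommGroup V] [Module k V] [FiniteDimensional k V]
    (ρ : Representation k (SpecialLinearGroup (Fin 2) F) V), Module.finrank k V ≤ n →
    Module.finrank k (fx ρ) ≤ (cf (Sy.{u, v, w} ι p) ρ).count 0 := by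
  intro n
  induction n with
  | zero =>
    intro V _ _ _ ρ hn
    have h1 := Submodule.finrank_le (fx ρ)
    omega
  | succ n ih =>
    intro V _ _ _ ρ hn
    by_cases hfx : fx ρ = ⊥
    · rw [hfx, finrank_bot]
      exact Nat.zero_le _
    · obtain ⟨x, hx, hx0⟩ := Submodule.exists_mem_ne_zero_of_ne_bot hfx
      have hW : ∀ g, ∀ y ∈ k ∙ x, ρ g y ∈ k ∙ x := by
        intro g y hy
        obtain ⟨c, rfl⟩ := Submodule.mem_span_singleton.1 hy
        rw [map_smul, hx g]
        exact hy
      have hf1 : Module.finrank k (k ∙ x) = 1 := finrank_span_singleton hx0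
      have hirr : Irrd (subRep ρ (k ∙ x) hW) := by
        refine ⟨Module.nontrivial_of_finrank_pos (R := k) (by omega), fun U _ => ?_⟩
        have h1 := Submodule.finrank_le U
        rcases (by omega : Module.finrank k U = 0 ∨ Module.finrank k U = 1) with h2 | h2
        · left
          exact Submodule.finrank_eq_zero.1 h2
        · right
          exact Submodule.eq_top_of_finrank_eq (by omega)
      obtain ⟨c, hc⟩ := (Sy.{u, v, w} ι p).ex _ hirr
      have hc' : IsV ι p (subRep ρ (k ∙ x) hW) c := hc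
      have hc0 : c = 0 := by
        by_contra h0
        have h1 := card_Bf_pos (k := k) (Nat.pos_of_ne_zero h0)
        have h2 := IsV.finrank ι hc'
        omega
      subst hc0
      rw [cf_add (Sy.{u, v, w} ι p) ρ (k ∙ x) hW, cf_irr (Sy.{u, v, w} ι p) hc', Multiset.count_add,
        Multiset.count_singleton_self]
      have h4 := Submodule.finrank_quotient_add_finrank (k ∙ x)
      have h5 := ih _ (quotRep ρ (k ∙ x) hW) (by omega)
      let g : fx ρ →ₗ[k] fx (quotRep ρ (k ∙ x) hW) :=
        { toFun := fun y => ⟨(k ∙ x).mkQ (y : V), fun g => by rw [quotRep_mk, y.2 g]⟩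
          map_add' := fun _ _ => rfl
          map_smul' := fun _ _ => rfl }
      have h6 := LinearMap.finrank_range_add_finrank_ker g
      have h7 := Submodule.finrank_le (LinearMap.range g)
      have h8 : Module.finrank k (LinearMap.ker g) ≤ 1 := by
        rw [← hf1]
        let e : LinearMap.ker g →ₗ[k] (k ∙ x : Submodule k V) :=
          { toFun := fun y => ⟨((y : fx ρ) : V), by
              have h9 : g (y : fx ρ) = 0 := y.2
              exact (Submodule.Quotient.mk_eq_zero _).1 (congrArg Subtype.val h9)⟩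
            map_add' := fun _ _ => rfl
            map_smul' := fun _ _ => rfl }
        refine LinearMap.finrank_le_finrank_of_injective (f := e) fun y z h => ?_
        have h9 : ((e y : (k ∙ x : Submodule k V)) : V) = ((e z : (k ∙ x : Submodule k V)) : V) := by rw [h]
        exact Subtype.ext (Subtype.ext h9)
      omega

include hF in
/-- all cocycles are coboundaries -/
theorem cob_surj {V : Type v} [AddCommGroup V] [Module k V] [FiniteDimensional k V]
    (ρ : Representation k (SpecialLinearGroup (Fin 2) F) V) (hH : Hs p a (cf (Sy.{u, v, w} ι p) ρ) = 0)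
    (z : Z1 ρ) : ∃ v, cob ρ v = z := by
  have h1 := isMult_cf ι p hF ρ
  have h2 := h1.z1
  have h3 : ∑ b ∈ Finset.range (p ^ a), (cf (Sy.{u, v, w} ι p) ρ).count b * ((Bf k b).card + hb p a b) =
      Module.finrank k V := by
    rw [h1.dim]
    refine Finset.sum_congr rfl fun b _ => ?_
    by_cases h4 : (cf (Sy.{u, v, w} ι p) ρ).count b = 0
    · rw [h4, zero_mul, zero_mul]
    · have h5 : hb p a b = 0 := by
        have h6 : b ∈ cf (Sy.{u, v, w} ι p) ρ := Multiset.count_ne_zero.1 h4
        obtain ⟨s, hs⟩ := Multiset.exists_cons_of_mem h6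
        rw [hs] at hH
        unfold Hs at hH
        rw [Multiset.map_cons, Multiset.sum_cons] at hH
        omega
      rw [h5, add_zero]
  rw [h3] at h2
  have h4 := fx_le_count ι p _ V ρ le_rfl
  have h5 := LinearMap.finrank_range_add_finrank_ker (cob ρ)
  rw [ker_cob] at h5
  have h6 : LinearMap.range (cob ρ) = ⊤ := by
    apply Submodule.eq_top_of_finrank_eq
    have h7 := Submodule.finrank_le (LinearMap.range (cob ρ))
    change Module.finrank k (Z1 ρ) + (cf (Sy.{u, v, w} ι p) ρ).count 0 ≤ _ at h2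
    omega
  have h7 : z ∈ LinearMap.range (cob ρ) := by
    rw [h6]
    trivial
  exact h7

include hF in
/-- **extensions from cohomology** -/
theorem ext0_of_Hs {c b : ℕ} (s : Multiset ℕ) (hs : ∀ d ∈ s, d < p ^ a)
    (hcs : ∀ z, Zs (p ^ a) z → cs k s z = chB k c z * chB k b z) (hH : Hs p a s = 0) :
    Ext0 (Sy.{u, v, w} ι p) c b := by
  intro E _ _ _ ρ W hW hb hc
  have hcf : cf (Sy.{u, v, w} ι p) (Representation.linHom (quotRep ρ W hW) (subRep ρ W hW)) = s :=
    cf_of_cs ι p hF hs fun z hz => by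
      rw [cs_hom ι p hF _ _ hz, cf_irr (Sy.{u, v, w} ι p) hb, cf_irr (Sy.{u, v, w} ι p) hc, cs_singleton, cs_singleton,
        hcs z hz]
  obtain ⟨s₀, hs₀⟩ := W.mkQ.exists_rightInverse_of_surjective (LinearMap.range_eq_top.2 W.mkQ_surjective)
  have hs₀' : ∀ y, W.mkQ (s₀ y) = y := fun y => LinearMap.congr_fun hs₀ y
  -- the cocycle
  have hmem : ∀ g y, ρ g (s₀ (quotRep ρ W hW g⁻¹ y)) - s₀ y ∈ W := by
    intro g y
    rw [← Submodule.Quotient.mk_eq_zero, ← Submodule.mkQ_apply, map_sub, ← quotRep_mk ρ W hW, hs₀', hs₀', ← Module.End.mul_apply,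
      ← map_mul, mul_inv_cancel, map_one, Module.End.one_apply, sub_self]
  let z : SpecialLinearGroup (Fin 2) F → ((E ⧸ W) →ₗ[k] W) := fun g =>
    LinearMap.codRestrict W (ρ g ∘ₗ s₀ ∘ₗ quotRep ρ W hW g⁻¹ - s₀) (hmem g)
  have hz : ∀ g y, ((z g y : W) : E) = ρ g (s₀ (quotRep ρ W hW g⁻¹ y)) - s₀ y := fun _ _ => rfl
  have hz1 : z ∈ Z1 (Representation.linHom (quotRep ρ W hW) (subRep ρ W hW)) := by
    rw [mem_Z1]
    intro g h
    refine LinearMap.ext fun y => Subtype.ext ?_
    show ((z (g * h) y : W) : E) = ((z g y : W) : E) + ((Representation.linHom (quotRep ρ W hW) (subRep ρ W hW) g (z h) y : W) : E)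
    rw [Representation.linHom_apply]
    show ((z (g * h) y : W) : E) = ((z g y : W) : E) + ρ g ((z h (quotRep ρ W hW g⁻¹ y) : W) : E)
    rw [hz, hz, hz, map_sub, ← Module.End.mul_apply (f := ρ g), ← map_mul, ← Module.End.mul_apply, ← map_mul, _root_.mul_inv_rev]
    abel
  obtain ⟨t, ht⟩ := cob_surj ι p hF (Representation.linHom (quotRep ρ W hW) (subRep ρ W hW)) (by rw [hcf]; exact hH) ⟨z, hz1⟩
  have ht' : ∀ g y, ρ g ((t (quotRep ρ W hW g⁻¹ y) : W) : E) - ((t y : W) : E) = ρ g (s₀ (quotRep ρ W hW g⁻¹ y)) - s₀ y := by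
    intro g y
    have h1 := congrFun (congrArg Subtype.val ht) g
    have h2 := LinearMap.congr_fun h1 y
    have h3 := congrArg Subtype.val h2
    rw [hz] at h3
    exact h3
  -- the equivariant section
  let s₁ : (E ⧸ W) →ₗ[k] E := s₀ - W.subtype ∘ₗ t
  have hs₁ : ∀ y, s₁ y = s₀ y - ((t y : W) : E) := fun _ => rfl
  have heq : ∀ g y, ρ g (s₁ y) = s₁ (quotRep ρ W hW g y) := by
    intro g y
    have h1 := ht' g (quotRep ρ W hW g y)
    have h2 : quotRep ρ W hW g⁻¹ (quotRep ρ W hW g y) = y := by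
      rw [← Module.End.mul_apply, ← map_mul, inv_mul_cancel, map_one, Module.End.one_apply]
    rw [h2] at h1
    rw [hs₁, hs₁, map_sub]
    have h3 : ρ g (s₀ y) - ρ g ((t y : W) : E) = s₀ (quotRep ρ W hW g y) - ((t (quotRep ρ W hW g y) : W) : E) := by
      rw [sub_eq_sub_iff_add_eq_add] at h1 ⊢
      rw [add_comm (s₀ _), h1]
    exact h3
  have hs₁' : ∀ y, W.mkQ (s₁ y) = y := by
    intro y
    have h1 : W.mkQ ((t y : W) : E) = 0 := (Submodule.Quotient.mk_eq_zero W).2 (t y).2
    rw [hs₁, map_sub, hs₀', h1, sub_zero]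
  refine ⟨LinearMap.range s₁, ?_, ?_⟩
  · rintro g _ ⟨y, rfl⟩
    exact ⟨_, (heq g y).symm⟩
  · rw [isCompl_iff, disjoint_iff, codisjoint_iff]
    constructor
    · rw [eq_bot_iff]
      rintro _ ⟨hx, y, rfl⟩
      have h1 := (Submodule.Quotient.mk_eq_zero W).2 hx
      have h2 : W.mkQ (s₁ y) = 0 := h1
      rw [hs₁'] at h2
      rw [h2, map_zero]
      exact Submodule.zero_mem _
    · rw [eq_top_iff]
      intro x _
      have h1 : x - s₁ (W.mkQ x) ∈ W := by
        rw [← Submodule.Quotient.mk_eq_zero, ← Submodule.mkQ_apply, map_sub, hs₁', sub_self]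
      have h2 : x = (x - s₁ (W.mkQ x)) + s₁ (W.mkQ x) := by abel
      rw [h2]
      exact Submodule.add_mem_sup h1 ⟨_, rfl⟩

end Cfsg.Agent.R2.H28.SL2
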