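import Cfsg.Agent.R2.H28.SL2.Dual

/-!
# Splitting of modules (helper28)

For a labelling `S` of the irreducible representations:
* `Ext0 S c b` : every extension of the irreducible module `c` by the irreducible module `b` splits;
* `lift0` : lifting of irreducible submodules of `V / W`;
* `compl_of_ext0` : `W` has an invariant complement if `Ext0 S c b` for all `b ∈ cf W`, `c ∈ cf (V / W)`;
* `block` : the decomposition of a module if there are no extensions between two sets of irreducible modules.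
For `SL(2, q)`: `ext0_of_lft`, `ext0_symm`.
-/

set_option autoImplicit false
set_option linter.unusedSectionVars false

namespace Cfsg.Agent.R2.H28.SL2

open Matrix Cfsg.Agent.H943.SL2Rel Cfsg.Agent.H943.SL2Mod Cfsg.Agent.H943.RepAdd

universe u v w

section General

variable {k : Type u} [Field k] {G : Type w} [Group G] {I : Type*} (S : Sys.{u, v, w} k G I)

/-- invariant subspaces -/
def Inva {V : Type*} [AddCommGroup V] [Module k V] (ρ : Representation k G V) (W : Submodule k V) : Prop :=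
  ∀ g, ∀ x ∈ W, ρ g x ∈ W

/-- every extension of `c` by `b` splits -/
def Ext0 (c b : I) : Prop := ∀ (V : Type v) [AddCommGroup V] [Module k V] [FiniteDimensional k V]
  (ρ : Representation k G V) (W : Submodule k V) (hW : ∀ g, ∀ x ∈ W, ρ g x ∈ W), S.P (subRep ρ W hW) b →
    S.P (quotRep ρ W hW) c → ∃ X : Submodule k V, Inva ρ X ∧ IsCompl W X

/-- the preimage of a submodule of a quotient -/
theorem eqv_comap {V : Type*} [AddCommGroup V] [Module k V] (ρ : Representation k G V) (W : Submodule k V)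
    (hW : ∀ g, ∀ x ∈ W, ρ g x ∈ W) (Z : Submodule k (V ⧸ W)) (hZ : ∀ g, ∀ x ∈ Z, quotRep ρ W hW g x ∈ Z) :
    ∃ (hY : ∀ g, ∀ x ∈ Z.comap W.mkQ, ρ g x ∈ Z.comap W.mkQ)
      (hW' : ∀ g, ∀ x ∈ W.comap (Z.comap W.mkQ).subtype, subRep ρ _ hY g x ∈ W.comap (Z.comap W.mkQ).subtype),
      Eqv (quotRep (subRep ρ _ hY) _ hW') (subRep (quotRep ρ W hW) Z hZ) ∧ Eqv (subRep (subRep ρ _ hY) _ hW') (subRep ρ W hW) := by
  have hY : ∀ g, ∀ x ∈ Z.comap W.mkQ, ρ g x ∈ Z.comap W.mkQ := fun g x hx => by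
    show W.mkQ (ρ g x) ∈ Z
    rw [← quotRep_mk ρ W hW]
    exact hZ g _ hx
  have hW' : ∀ g, ∀ x ∈ W.comap (Z.comap W.mkQ).subtype, subRep ρ _ hY g x ∈ W.comap (Z.comap W.mkQ).subtype :=
    fun g x hx => hW g x hx
  have hle : W ≤ Z.comap W.mkQ := fun x hx => by
    show W.mkQ x ∈ Z
    rw [(Submodule.Quotient.mk_eq_zero W).2 hx |> fun h => (show W.mkQ x = 0 from h)]
    exact Z.zero_mem
  refine ⟨hY, hW', ?_, ?_⟩
  · obtain ⟨e, he, -⟩ := quot_iso (subRep ρ _ hY) (subRep (quotRep ρ W hW) Z hZ)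
      (LinearMap.codRestrict Z (W.mkQ ∘ₗ (Z.comap W.mkQ).subtype) fun x => x.2) (fun g x => Subtype.ext rfl)
      (by
        rintro ⟨z, hz⟩
        obtain ⟨x, rfl⟩ := W.mkQ_surjective z
        exact ⟨⟨x, hz⟩, rfl⟩) _ hW' (fun x => by
          constructor
          · intro h
            exact (Submodule.Quotient.mk_eq_zero W).1 (congrArg Subtype.val h)
          · intro h
            exact Subtype.ext ((Submodule.Quotient.mk_eq_zero W).2 h))
    exact ⟨e, he⟩
  · let f : W.comap (Z.comap W.mkQ).subtype →ₗ[k] W :=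
      { toFun := fun x => ⟨((x : Z.comap W.mkQ) : V), x.2⟩
        map_add' := fun _ _ => rfl
        map_smul' := fun _ _ => rfl }
    refine ⟨LinearEquiv.ofBijective f ⟨fun x y h => Subtype.ext (Subtype.ext ?_), fun x =>
      ⟨⟨⟨x, hle x.2⟩, x.2⟩, rfl⟩⟩, fun g x => rfl⟩
    have h1 : ((f x : W) : V) = ((f y : W) : V) := by rw [h]
    exact h1

variable {S}

/-- **lifting of irreducible submodules** -/
theorem lift0' {c : I} (n : ℕ) : ∀ {V : Type v} [AddCommGroup V] [Module k V] [FiniteDimensional k V]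
    {ρ : Representation k G V} (W : Submodule k V) (hW : ∀ g, ∀ x ∈ W, ρ g x ∈ W)
    {s : Multiset I}, JHn S n (subRep ρ W hW) s → (∀ b ∈ s, Ext0 S c b) → ∀ (Z : Submodule k (V ⧸ W))
    (hZ : ∀ g, ∀ x ∈ Z, quotRep ρ W hW g x ∈ Z), S.P (subRep (quotRep ρ W hW) Z hZ) c →
    ∃ (X : Submodule k V) (hX : ∀ g, ∀ x ∈ X, ρ g x ∈ X), S.P (subRep ρ X hX) c ∧ X.map W.mkQ = Z ∧ X ⊓ W = ⊥ := by
  induction n with
  | zero =>
    intro V _ _ _ ρ W hW s hs _ Z hZ hc
    have hW00 : W = ⊥ := Submodule.subsingleton_iff_eq_bot.1 hs.1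
    have hW0 : ∀ x ∈ W, x = 0 := fun x hx => by
      rw [hW00] at hx
      exact (Submodule.mem_bot k).1 hx
    obtain ⟨hY, hW', ⟨e1, he1⟩, -⟩ := eqv_comap ρ W hW Z hZ
    refine ⟨Z.comap W.mkQ, hY, ?_, Submodule.map_comap_eq_of_surjective W.mkQ_surjective Z, by
      rw [eq_bot_iff]
      rintro x ⟨-, hx⟩
      exact (Submodule.mem_bot k).2 (hW0 x hx)⟩
    have h0 : ∀ x, x ∈ W.comap (Z.comap W.mkQ).subtype ↔ x = 0 := by
      intro x
      constructor
      · intro h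
        exact Subtype.ext (hW0 _ h)
      · rintro rfl
        exact Submodule.zero_mem _
    obtain ⟨e, he, -⟩ := quot_iso (subRep ρ _ hY) (subRep ρ _ hY) LinearMap.id (fun _ _ => rfl)
      Function.surjective_id _ hW' (fun x => (h0 x).symm)
    exact S.iso _ _ c ((e1.symm).trans e) (fun g x => by
      obtain ⟨y, rfl⟩ := e1.surjective x
      rw [← he1, LinearEquiv.trans_apply, LinearEquiv.trans_apply, e1.symm_apply_apply, e1.symm_apply_apply, he]) hc
  | succ n ih =>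
    intro V _ _ _ ρ W hW s hs hE Z hZ hc
    obtain ⟨W₀, hW₀, b, t, hb, rfl, ht⟩ := hs
    obtain ⟨X, hX, hW₁, hXW, -, ⟨e1, he1⟩, he2⟩ := step ρ W hW W₀ hW₀
    have hbX : S.P (subRep ρ X hX) b := S.iso _ _ b e1 he1 hb
    -- the isomorphism of the quotients
    obtain ⟨e3, he3, he3'⟩ := quot_iso ρ (quotRep (quotRep ρ X hX) (W.map X.mkQ) hW₁) ((W.map X.mkQ).mkQ ∘ₗ X.mkQ)
      (fun g x => rfl)
      ((W.map X.mkQ).mkQ_surjective.comp X.mkQ_surjective) W hW (fun x => by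
        rw [LinearMap.comp_apply, Submodule.mkQ_apply, Submodule.Quotient.mk_eq_zero]
        constructor
        · rintro ⟨y, hy, h⟩
          have h5 : y - x ∈ X := (Submodule.Quotient.eq X).1 h
          have h6 : x = y - (y - x) := by abel
          rw [h6]
          exact W.sub_mem hy (hXW h5)
        · intro h
          exact ⟨x, h, rfl⟩)
    obtain ⟨hZ', e4, he4⟩ := eqv_map (quotRep ρ W hW) (quotRep (quotRep ρ X hX) (W.map X.mkQ) hW₁)
      (e3 : (V ⧸ W) →ₗ[k] _) he3 e3.injective Z hZ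
    obtain ⟨X₁, hX₁, hcX₁, hX₁Z, hX₁W⟩ := ih (W.map X.mkQ) hW₁ (JHn_iso _ he2 ht)
      (fun b' hb' => hE b' (Multiset.mem_cons_of_mem hb')) _ hZ' (S.iso _ _ c e4 he4 hc)
    obtain ⟨hY, hX', ⟨e5, he5⟩, ⟨e6, he6⟩⟩ := eqv_comap ρ X hX X₁ hX₁
    have hX'b : S.P (subRep (subRep ρ (X₁.comap X.mkQ) hY) (X.comap (X₁.comap X.mkQ).subtype) hX') b :=
      S.iso _ _ b e6.symm (fun g x => e6.injective (by rw [e6.apply_symm_apply, he6, e6.apply_symm_apply])) hbX
    have hY'c : S.P (quotRep (subRep ρ (X₁.comap X.mkQ) hY) (X.comap (X₁.comap X.mkQ).subtype) hX') c :=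
      S.iso _ _ c e5.symm (fun g x => e5.injective (by rw [e5.apply_symm_apply, he5, e5.apply_symm_apply])) hcX₁
    obtain ⟨T, hT, hcompl⟩ := hE b (Multiset.mem_cons_self b t) _ (subRep ρ (X₁.comap X.mkQ) hY) _ hX' hX'b hY'c
    -- the complement
    obtain ⟨hT', e7, he7⟩ := eqv_map (subRep ρ (X₁.comap X.mkQ) hY) ρ (X₁.comap X.mkQ).subtype (fun g x => rfl)
      (Submodule.injective_subtype _) T hT
    have hTX : T.map (X₁.comap X.mkQ).subtype ⊓ X = ⊥ := by
      rw [eq_bot_iff]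
      rintro _ ⟨⟨y, hy, rfl⟩, hyX⟩
      have h1 : y ∈ X.comap (X₁.comap X.mkQ).subtype ⊓ T := ⟨hyX, hy⟩
      rw [hcompl.inf_eq_bot, Submodule.mem_bot] at h1
      rw [h1, Submodule.mem_bot, map_zero]
    have hTsup : ∀ y, X.mkQ y ∈ X₁ → ∃ z ∈ T.map (X₁.comap X.mkQ).subtype, X.mkQ z = X.mkQ y := by
      intro y hy
      have h1 : (⟨y, hy⟩ : X₁.comap X.mkQ) ∈ X.comap (X₁.comap X.mkQ).subtype ⊔ T := by
        rw [hcompl.sup_eq_top]
        trivial
      obtain ⟨a, ha, z, hz, e⟩ := Submodule.mem_sup.1 h1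
      refine ⟨z, ⟨z, hz, rfl⟩, ?_⟩
      have h2 : (a : V) + z = y := congrArg Subtype.val e
      rw [← h2, map_add, (Submodule.Quotient.mk_eq_zero X).2 ha |> fun h => (show X.mkQ (a : V) = 0 from h), zero_add]
    refine ⟨T.map (X₁.comap X.mkQ).subtype, hT', ?_, ?_, ?_⟩
    · refine S.iso _ _ c e7 he7 ?_
      -- `T` is isomorphic to the quotient
      let f : T →ₗ[k] ((X₁.comap X.mkQ) ⧸ (X.comap (X₁.comap X.mkQ).subtype)) :=
        (X.comap (X₁.comap X.mkQ).subtype).mkQ ∘ₗ T.subtype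
      have hfi : Function.Injective f := by
        rw [← LinearMap.ker_eq_bot, LinearMap.ker_eq_bot']
        intro y hy
        have h1 : (y : X₁.comap X.mkQ) ∈ X.comap (X₁.comap X.mkQ).subtype ⊓ T :=
          ⟨(Submodule.Quotient.mk_eq_zero _).1 hy, y.2⟩
        rw [hcompl.inf_eq_bot, Submodule.mem_bot] at h1
        exact Subtype.ext h1
      have hfs : Function.Surjective f := by
        intro z
        obtain ⟨y, rfl⟩ := Submodule.mkQ_surjective _ z
        have h1 : y ∈ X.comap (X₁.comap X.mkQ).subtype ⊔ T := by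
          rw [hcompl.sup_eq_top]
          trivial
        obtain ⟨a, ha, z, hz, e⟩ := Submodule.mem_sup.1 h1
        refine ⟨⟨z, hz⟩, ?_⟩
        show (X.comap (X₁.comap X.mkQ).subtype).mkQ z = _
        rw [← e, map_add, (Submodule.Quotient.mk_eq_zero _).2 ha |> fun h =>
          (show (X.comap (X₁.comap X.mkQ).subtype).mkQ a = 0 from h), zero_add]
      let ef := LinearEquiv.ofBijective f ⟨hfi, hfs⟩
      exact S.iso _ (subRep (subRep ρ (X₁.comap X.mkQ) hY) T hT) c ef.symm (fun g x => ef.injective (by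
        rw [ef.apply_symm_apply]
        have h1 : ∀ y, ef (subRep (subRep ρ (X₁.comap X.mkQ) hY) T hT g y) =
          quotRep (subRep ρ (X₁.comap X.mkQ) hY) (X.comap (X₁.comap X.mkQ).subtype) hX' g (ef y) := fun y => rfl
        rw [h1, ef.apply_symm_apply])) hY'c
    · ext z
      constructor
      · rintro ⟨_, ⟨y, hy, rfl⟩, rfl⟩
        have h1 : (W.map X.mkQ).mkQ (X.mkQ (y : V)) ∈ X₁.map (W.map X.mkQ).mkQ := ⟨_, y.2, rfl⟩
        rw [hX₁Z] at h1
        obtain ⟨z', hz', e⟩ := h1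
        have h2 : e3 z' = e3 (W.mkQ (y : V)) := by
          rw [he3']
          exact e
        have h3 := e3.injective h2
        show W.mkQ (y : V) ∈ Z
        rw [← h3]
        exact hz'
      · intro hz
        have h1 : e3 z ∈ X₁.map (W.map X.mkQ).mkQ := by
          rw [hX₁Z]
          exact ⟨z, hz, rfl⟩
        obtain ⟨y', hy', e⟩ := h1
        obtain ⟨y, rfl⟩ := X.mkQ_surjective y'
        obtain ⟨z', hz', e'⟩ := hTsup y hy'
        refine ⟨z', hz', e3.injective ?_⟩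
        rw [he3', ← e]
        show (W.map X.mkQ).mkQ (X.mkQ z') = _
        rw [e']
    · rw [eq_bot_iff]
      rintro x ⟨hx1, hx2⟩
      have h1 : X.mkQ x ∈ X₁ ⊓ W.map X.mkQ := by
        obtain ⟨y, hy, rfl⟩ := hx1
        exact ⟨y.2, _, hx2, rfl⟩
      rw [hX₁W, Submodule.mem_bot] at h1
      have h2 : x ∈ T.map (X₁.comap X.mkQ).subtype ⊓ X := ⟨hx1, (Submodule.Quotient.mk_eq_zero X).1 h1⟩
      rwa [hTX] at h2

/-- **lifting of irreducible submodules** -/
theorem lift0 {V : Type v} [AddCommGroup V] [Module k V] [FiniteDimensional k V]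
    {ρ : Representation k G V} (W : Submodule k V) (hW : ∀ g, ∀ x ∈ W, ρ g x ∈ W) {c : I}
    (hE : ∀ b ∈ cf S (subRep ρ W hW), Ext0 S c b) (Z : Submodule k (V ⧸ W))
    (hZ : ∀ g, ∀ x ∈ Z, quotRep ρ W hW g x ∈ Z) (hc : S.P (subRep (quotRep ρ W hW) Z hZ) c) :
    ∃ (X : Submodule k V) (hX : ∀ g, ∀ x ∈ X, ρ g x ∈ X), S.P (subRep ρ X hX) c ∧ X.map W.mkQ = Z ∧ X ⊓ W = ⊥ := by
  obtain ⟨n, hn⟩ := cf_spec S (subRep ρ W hW)
  exact lift0' n W hW hn hE Z hZ hc

end General

end Cfsg.Agent.R2.H28.SL2
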