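import Cfsg.Agent.R2.H28.SL2.Bas
import Cfsg.Agent.R2.H28.SL2.FinCf

/-!
# Invariant forms on `V_{n p^i}` (helper28)

`β : X × X → I` equivariant, `X ≅ V_{n p^i}`, `f : I → k` invariant under `U` : the values `B s t = f (β (v s) (v t))`
satisfy `B s t = 0` for `s + t > n` and `(n - s) B (s + 1) t + (n - t) B s (t + 1) = 0` (`form_big`, `form_rec`).
-/

set_option autoImplicit false
set_option linter.unusedSectionVars false

namespace Cfsg.Agent.R2.H28.SL2

open Matrix Cfsg.Agent.H943.SL2Rel Cfsg.Agent.H943.SL2Mod Cfsg.Agent.H943.RepAdd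
open Polynomial

universe u v w

variable {k : Type u} [Field k] [DecidableEq k] {F : Type w} [Field F] [Fintype F] [DecidableEq F] (ι : F →+* k)
variable (p : ℕ) [Fact p.Prime] [CharP k p] [CharP F p]

theorem tau_inj (i : ℕ) : Function.Injective fun t : F => ι t ^ p ^ i := by
  intro x y h
  have h1 : (ι x - ι y) ^ p ^ i = 0 := by
    rw [sub_pow_char_pow, sub_eq_zero]
    exact h
  have h2 := pow_eq_zero_iff (pow_ne_zero i (Fact.out : p.Prime).ne_zero) |>.1 h1
  exact ι.injective (sub_eq_zero.1 h2)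

theorem poly_zero (i : ℕ) {P : k[X]} (hd : P.natDegree < Fintype.card F) (h : ∀ t : F, P.eval (ι t ^ p ^ i) = 0) : P = 0 :=
  Polynomial.eq_zero_of_natDegree_lt_card_of_eval_eq_zero P (tau_inj ι p i) h hd

theorem form_aux (i : ℕ) (B : ℕ → ℕ → k) {n s t N : ℕ} (hn : 1 ≤ n) (hN : N < Fintype.card F)
    (h : ∀ x : F, ∑ j ∈ Finset.range (n + 1), ∑ l ∈ Finset.range (n + 1),
      (((n - s).choose j : k) * (ι x ^ p ^ i) ^ j) * (((n - t).choose l : k) * (ι x ^ p ^ i) ^ l) * B (s + j) (t + l) = B s t)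
    (hz : ∀ j ≤ n - s, ∀ l ≤ n - t, N < j + l → B (s + j) (t + l) = 0) :
    ((n - s : ℕ) : k) * B (s + 1) t + ((n - t : ℕ) : k) * B s (t + 1) = 0 := by
  let A : ℕ → ℕ → k := fun j l => ((n - s).choose j : k) * ((n - t).choose l : k) * B (s + j) (t + l)
  let P : k[X] := ∑ j ∈ Finset.range (n + 1), ∑ l ∈ Finset.range (n + 1), C (A j l) * X ^ (j + l) - C (B s t)
  have hP : P = 0 := by
    refine poly_zero ι p i (lt_of_le_of_lt ?_ hN) fun x => ?_
    · refine (Polynomial.natDegree_sub_le _ _).trans (max_le ?_ ?_)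
      · refine Polynomial.natDegree_sum_le_of_forall_le _ _ fun j _ =>
          Polynomial.natDegree_sum_le_of_forall_le _ _ fun l _ => ?_
        by_cases h0 : A j l = 0
        · rw [h0, C_0, zero_mul, natDegree_zero]
          exact Nat.zero_le _
        · refine (natDegree_C_mul_X_pow_le _ _).trans ?_
          by_contra hc
          apply h0
          have h1 : j ≤ n - s := by
            by_contra h1
            apply h0
            show ((n - s).choose j : k) * ((n - t).choose l : k) * B (s + j) (t + l) = 0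
            rw [Nat.choose_eq_zero_of_lt (by omega), Nat.cast_zero, zero_mul, zero_mul]
          have h2 : l ≤ n - t := by
            by_contra h2
            apply h0
            show ((n - s).choose j : k) * ((n - t).choose l : k) * B (s + j) (t + l) = 0
            rw [Nat.choose_eq_zero_of_lt (show n - t < l by omega), Nat.cast_zero, mul_zero, zero_mul]
          show ((n - s).choose j : k) * ((n - t).choose l : k) * B (s + j) (t + l) = 0
          rw [hz j h1 l h2 (by omega), mul_zero]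
      · rw [natDegree_C]
        exact Nat.zero_le _
    · rw [eval_sub, eval_C, eval_finsetSum, ← h x, sub_eq_zero]
      refine Finset.sum_congr rfl fun j _ => ?_
      rw [eval_finsetSum]
      refine Finset.sum_congr rfl fun l _ => ?_
      rw [eval_mul, eval_C, eval_pow, eval_X, pow_add]
      ring
  have h1 : P.coeff 1 = 0 := by rw [hP, Polynomial.coeff_zero]
  have h2 : P.coeff 1 = A 1 0 + A 0 1 := by
    show (∑ j ∈ Finset.range (n + 1), ∑ l ∈ Finset.range (n + 1), C (A j l) * X ^ (j + l) - C (B s t)).coeff 1 = _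
    rw [coeff_sub, coeff_C_of_ne_zero one_ne_zero, sub_zero, finsetSum_coeff]
    have h3 : ∀ j ∈ Finset.range (n + 1), (∑ l ∈ Finset.range (n + 1), C (A j l) * X ^ (j + l)).coeff 1 =
        (if j = 1 then A 1 0 else 0) + if j = 0 then A 0 1 else 0 := by
      intro j _
      rw [finsetSum_coeff]
      rcases Nat.lt_or_ge 1 j with hj | hj
      · rw [if_neg (by omega), if_neg (by omega), add_zero]
        refine Finset.sum_eq_zero fun l _ => ?_
        rw [coeff_C_mul_X_pow, if_neg (by omega)]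
      · rcases Nat.eq_or_lt_of_le hj with rfl | hj
        · rw [if_pos rfl, if_neg (by omega), add_zero, Finset.sum_eq_single 0]
          · rw [coeff_C_mul_X_pow, if_pos rfl]
          · intro l _ hl
            rw [coeff_C_mul_X_pow, if_neg (by omega)]
          · intro h0
            exact absurd (Finset.mem_range.2 (by omega)) h0
        · have hj0 : j = 0 := by omega
          subst hj0
          rw [if_neg (by omega), if_pos rfl, zero_add, Finset.sum_eq_single 1]
          · rw [coeff_C_mul_X_pow, if_pos rfl]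
          · intro l _ hl
            rw [coeff_C_mul_X_pow, if_neg (by omega)]
          · intro h0
            exact absurd (Finset.mem_range.2 (by omega)) h0
    rw [Finset.sum_congr rfl h3, Finset.sum_add_distrib, Finset.sum_ite_eq', Finset.sum_ite_eq',
      if_pos (Finset.mem_range.2 (by omega)), if_pos (Finset.mem_range.2 (by omega))]
  rw [h1] at h2
  rw [h2]
  show _ = ((n - s).choose 1 : k) * ((n - t).choose 0 : k) * B (s + 1) (t + 0) +
    ((n - s).choose 0 : k) * ((n - t).choose 1 : k) * B (s + 0) (t + 1)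
  rw [Nat.choose_one_right, Nat.choose_zero_right, Nat.choose_zero_right, Nat.choose_one_right, Nat.cast_one, mul_one, one_mul]
  rfl

/-- **the recursion** -/
theorem form_core (i : ℕ) (B : ℕ → ℕ → k) {n : ℕ} (hn : 1 ≤ n) (hnp : n < p) (hN : n < Fintype.card F)
    (h0 : ∀ s t, n < s ∨ n < t → B s t = 0)
    (h : ∀ s ≤ n, ∀ t ≤ n, ∀ x : F, ∑ j ∈ Finset.range (n + 1), ∑ l ∈ Finset.range (n + 1),
      (((n - s).choose j : k) * (ι x ^ p ^ i) ^ j) * (((n - t).choose l : k) * (ι x ^ p ^ i) ^ l) * B (s + j) (t + l) = B s t) :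
    (∀ s t, n < s + t → B s t = 0) ∧
      ∀ s ≤ n, ∀ t ≤ n, ((n - s : ℕ) : k) * B (s + 1) t + ((n - t : ℕ) : k) * B s (t + 1) = 0 := by
  have h1 : ∀ s ≤ n, ∀ t ≤ n, n ≤ s + t → ((n - s : ℕ) : k) * B (s + 1) t + ((n - t : ℕ) : k) * B s (t + 1) = 0 :=
    fun s hs t ht hst => form_aux ι p i B hn hN (h s hs t ht) fun j hj l hl hjl => by omega
  have hne : ∀ m : ℕ, 0 < m → m ≤ n → (m : k) ≠ 0 := by
    intro m hm hmn h2
    rw [CharP.cast_eq_zero_iff k p] at h2
    have := Nat.le_of_dvd hm h2
    omega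
  have h2 : ∀ s t, n < s + t → B s t = 0 := by
    intro s
    induction s with
    | zero => intro t ht; exact h0 _ _ (Or.inr (by omega))
    | succ s ih =>
      intro t hst
      by_cases hs : n < s + 1
      · exact h0 _ _ (Or.inl hs)
      · by_cases ht : n < t
        · exact h0 _ _ (Or.inr ht)
        · have h3 := h1 s (by omega) t (by omega) (by omega)
          rw [ih (t + 1) (by omega), mul_zero, add_zero] at h3
          exact (mul_eq_zero.1 h3).resolve_left (hne _ (by omega) (by omega))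
  refine ⟨h2, fun s hs t ht => ?_⟩
  exact form_aux ι p i B hn hN (h s hs t ht) fun j hj l hl hjl => h2 _ _ (by omega)

section Bas

variable {X : Type*} [AddCommGroup X] [Module k X] {I : Type*} [AddCommGroup I] [Module k I]
  {σ : Representation k (SpecialLinearGroup (Fin 2) F) X} {τ : Representation k (SpecialLinearGroup (Fin 2) F) I}
  {n i : ℕ} {v : ℕ → X} {β : X →ₗ[k] X →ₗ[k] I}

theorem basS_u (hv : BasS ι p σ n i v) {s : ℕ} (hs : s ≤ n) (t : F) : σ (u t) (v s) =
    ∑ j ∈ Finset.range (n + 1), (((n - s).choose j : k) * (ι t ^ p ^ i) ^ j) • v (s + j) := by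
  rw [hv.u s hs t]
  refine Finset.sum_subset (fun j hj => ?_) fun j _ hj => ?_
  · rw [Finset.mem_range] at hj ⊢
    omega
  · rw [Finset.mem_range] at hj
    rw [Nat.choose_eq_zero_of_lt (by omega), Nat.cast_zero, zero_mul, zero_smul]

/-- **forms on `V_{n p^i}`** -/
theorem basS_form (hv : BasS ι p σ n i v) (he : ∀ g x y, β (σ g x) (σ g y) = τ g (β x y)) (hn : 1 ≤ n) (hnp : n < p)
    (hN : n < Fintype.card F) (f : I →ₗ[k] k) (hf : ∀ t y, f (τ (u t) y) = f y) :
    (∀ s t, n < s + t → f (β (v s) (v t)) = 0) ∧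
      ∀ s ≤ n, ∀ t ≤ n, ((n - s : ℕ) : k) * f (β (v (s + 1)) (v t)) + ((n - t : ℕ) : k) * f (β (v s) (v (t + 1))) = 0 := by
  refine form_core ι p i (fun s t => f (β (v s) (v t))) hn hnp hN ?_ ?_
  · rintro s t (hs | ht)
    · show f (β (v s) (v t)) = 0
      rw [hv.zero s hs, map_zero, LinearMap.zero_apply, map_zero]
    · show f (β (v s) (v t)) = 0
      rw [hv.zero t ht, map_zero, map_zero]
  · intro s hs t ht x
    show _ = f (β (v s) (v t))
    rw [← hf x (β (v s) (v t)), ← he, basS_u ι p hv hs, basS_u ι p hv ht, LinearMap.map_sum₂, map_sum]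
    refine Finset.sum_congr rfl fun j _ => ?_
    rw [LinearMap.map_smul₂, map_smul, map_sum, map_sum, smul_eq_mul, Finset.mul_sum]
    refine Finset.sum_congr rfl fun l _ => ?_
    rw [map_smul, map_smul, smul_eq_mul]
    ring

/-- **weights of forms** -/
theorem basS_form_wt (hv : BasS ι p σ n i v) (he : ∀ g x y, β (σ g x) (σ g y) = τ g (β x y))
    (hN : n + 1 < Fintype.card F) (f : I →ₗ[k] k)
    (hf : ∀ (a : Fˣ) y, f (τ (h a) y) = ((ι a ^ p ^ i)⁻¹) ^ n * f y) {s t : ℕ} (hst : s + t ≤ n) (h2 : 2 * (s + t) ≠ n) :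
    f (β (v s) (v t)) = 0 := by
  by_contra hc
  have h1 : ∀ a : Fˣ, ι (a : F) ^ (2 * (s + t)) = ι (a : F) ^ n := by
    intro a
    have ha : ι (a : F) ^ p ^ i ≠ 0 := pow_ne_zero _ ((map_ne_zero ι).2 a.ne_zero)
    have h3 := hf a (β (v s) (v t))
    rw [← he, hv.h s (by omega), hv.h t (by omega), LinearMap.map_smul₂, map_smul, map_smul, map_smul,
      smul_eq_mul, smul_eq_mul, ← mul_assoc] at h3
    have h4 := mul_right_cancel₀ hc h3
    have h5 : (ι (a : F) ^ p ^ i) ^ (2 * (s + t)) = (ι (a : F) ^ p ^ i) ^ n := by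
      have h6 : ∀ x : k, x ≠ 0 → x ^ s * x⁻¹ ^ (n - s) * (x ^ t * x⁻¹ ^ (n - t)) = x⁻¹ ^ n → x ^ (2 * (s + t)) = x ^ n := by
        intro x hx h7
        have h8 : x ^ (n - s) * x ^ s = x ^ n := by rw [← pow_add]; congr 1; omega
        have h9 : x ^ (n - t) * x ^ t = x ^ n := by rw [← pow_add]; congr 1; omega
        have h10 : x ^ (n - s) * x ^ (n - t) * (x ^ s * x⁻¹ ^ (n - s) * (x ^ t * x⁻¹ ^ (n - t))) = x ^ (s + t) := by
          rw [inv_pow, inv_pow, pow_add]
          have e1 := pow_ne_zero (n - s) hx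
          have e2 := pow_ne_zero (n - t) hx
          field_simp
        rw [h7] at h10
        have h11 : x ^ (s + t) * (x ^ (n - s) * x ^ (n - t) * x⁻¹ ^ n) = x ^ n := by
          have h12 : x ^ (s + t) * (x ^ (n - s) * x ^ (n - t) * x⁻¹ ^ n) =
            (x ^ (n - s) * x ^ s) * (x ^ (n - t) * x ^ t) * x⁻¹ ^ n := by ring
          rw [h12, h8, h9, inv_pow, mul_assoc, mul_inv_cancel₀ (pow_ne_zero n hx), mul_one]
        rw [h10, ← pow_add, ← two_mul] at h11
        exact h11
      exact h6 _ ha h4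
    have h5' : (ι (a : F) ^ (2 * (s + t))) ^ p ^ i = (ι (a : F) ^ n) ^ p ^ i :=
      (pow_right_comm _ _ _).trans (h5.trans (pow_right_comm _ _ _))
    have h6 : (ι (a : F) ^ (2 * (s + t)) - ι (a : F) ^ n) ^ p ^ i = 0 := by
      rw [sub_pow_char_pow, sub_eq_zero]
      exact h5'
    exact sub_eq_zero.1 ((pow_eq_zero_iff (pow_ne_zero i (Fact.out : p.Prime).ne_zero)).1 h6)
  have h3 := mod_of_pow ι h1
  have h4 : n % (Fintype.card F - 1) = n := Nat.mod_eq_of_lt (by omega)
  rw [h4] at h3
  rcases Nat.lt_or_ge (2 * (s + t)) (Fintype.card F - 1) with h5 | h5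
  · rw [Nat.mod_eq_of_lt h5] at h3
    exact h2 h3
  · rw [Nat.mod_eq_sub_mod h5, Nat.mod_eq_of_lt (by omega)] at h3
    omega

/-- the action of `w u(x) w` -/
theorem basS_low (hv : BasS ι p σ n i v) {s : ℕ} (hs : s ≤ n) (x : F) : σ (w * u x * w) (v s) =
    ∑ j ∈ Finset.range (s + 1), ((-1 : k) ^ n * ((s.choose j : k) * (-1) ^ j * (ι x ^ p ^ i) ^ j)) • v (s - j) := by
  rw [map_mul, Module.End.mul_apply, hv.w s hs, map_smul, map_mul, Module.End.mul_apply, hv.u (n - s) (by omega), map_sum,
    Nat.sub_sub_self hs, Finset.smul_sum]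
  refine Finset.sum_congr rfl fun j hj => ?_
  rw [Finset.mem_range] at hj
  rw [map_smul, hv.w _ (by omega), smul_smul, smul_smul, show n - (n - s + j) = s - j by omega]
  congr 1
  have h1 : (-1 : k) ^ n = (-1) ^ s * (-1) ^ (n - s) := by rw [← pow_add]; congr 1; omega
  have h2 : (-1 : k) ^ (n - s + j) = (-1) ^ (n - s) * (-1) ^ j := pow_add _ _ _
  rw [h1, h2]
  ring

/-- the coordinate `0` -/
theorem basS_coord (hv : BasS ι p σ n i v) : ∃ f : ℕ → (X →ₗ[k] k),
    (∀ x, x = ∑ r ∈ Finset.range (n + 1), f r x • v r) ∧ (∀ r ≤ n, ∀ s ≤ n, f r (v s) = if s = r then 1 else 0) := by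
  let b : Module.Basis (Fin (n + 1)) k X := Module.Basis.mk hv.li hv.sp
  have hb : ∀ r : Fin (n + 1), b r = v r := fun r => by
    show (Module.Basis.mk hv.li hv.sp) r = _
    rw [Module.Basis.mk_apply]
  refine ⟨fun r => if h : r < n + 1 then b.coord ⟨r, h⟩ else 0, fun x => ?_, fun r hr s hs => ?_⟩
  · conv_lhs => rw [← b.sum_repr x]
    rw [Finset.sum_range]
    refine Finset.sum_congr rfl fun r _ => ?_
    rw [hb]
    beta_reduce
    rw [dif_pos r.2]
    rfl
  · beta_reduce
    rw [dif_pos (by omega)]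
    have h1 := hb ⟨s, by omega⟩
    rw [← h1, Module.Basis.coord_apply, Module.Basis.repr_self, Finsupp.single_apply]
    simp only [Fin.mk.injEq]

theorem basS_coord_u (hv : BasS ι p σ n i v) {f : X →ₗ[k] k} (hf : ∀ s ≤ n, f (v s) = if s = 0 then 1 else 0) :
    (∀ t y, f (σ (u t) y) = f y) ∧ (∀ (a : Fˣ) y, f (σ (h a) y) = ((ι a ^ p ^ i)⁻¹) ^ n * f y) := by
  obtain ⟨F', hF1, hF2⟩ := basS_coord ι p hv
  constructor
  · intro t y
    rw [hF1 y, map_sum, map_sum, map_sum]
    refine Finset.sum_congr rfl fun r hr => ?_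
    rw [Finset.mem_range] at hr
    rw [map_smul, map_smul, map_smul, hv.u r (by omega), map_sum, Finset.sum_range_succ', Finset.sum_eq_zero, zero_add]
    · rw [Nat.choose_zero_right, Nat.cast_one, pow_zero, mul_one, one_smul, add_zero]
    · intro j hj
      rw [Finset.mem_range] at hj
      rw [map_smul, hf _ (by omega), if_neg (by omega), smul_zero]
  · intro a y
    rw [hF1 y, map_sum, map_sum, map_sum, Finset.mul_sum]
    refine Finset.sum_congr rfl fun r hr => ?_
    rw [Finset.mem_range] at hr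
    rw [map_smul, map_smul, map_smul, hv.h r (by omega), map_smul, hf r (by omega), smul_eq_mul, smul_eq_mul, smul_eq_mul]
    by_cases h0 : r = 0
    · rw [if_pos h0, h0, pow_zero, one_mul, Nat.sub_zero]
      ring
    · rw [if_neg h0]
      ring

/-- **the products** -/
theorem basS_prod {v' : ℕ → I} (hv : BasS ι p σ n i v) (hv' : BasS ι p τ n i v')
    (he : ∀ g x y, β (σ g x) (σ g y) = τ g (β x y)) (hN : n < Fintype.card F) {m : ℕ} {f : I →ₗ[k] k}
    (hf : ∀ s ≤ n, f (v' s) = if s = 0 then 1 else 0) (hB : ∀ s t, s + t ≠ m → f (β (v s) (v t)) = 0) {s t : ℕ}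
    (hs : s ≤ n) (ht : t ≤ n) (h1 : m ≤ s + t) (h2 : s + t ≤ m + n) :
    β (v s) (v t) = ((-1) ^ n * ∑ j ∈ Finset.range (s + 1), ∑ l ∈ Finset.range (t + 1),
      if j + l = s + t - m then (s.choose j : k) * (t.choose l : k) * f (β (v (s - j)) (v (t - l))) else 0) •
        v' (s + t - m) := by
  obtain ⟨F', hF1, hF2⟩ := basS_coord ι p hv'
  set e := s + t - m with he'
  set S : k := ∑ j ∈ Finset.range (s + 1), ∑ l ∈ Finset.range (t + 1),
      if j + l = e then (s.choose j : k) * (t.choose l : k) * f (β (v (s - j)) (v (t - l))) else 0 with hS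
  set y := β (v s) (v t) with hy
  let P : k[X] := ∑ r ∈ Finset.range (n + 1), C ((-1) ^ n * ((-1) ^ r * F' r y)) * Polynomial.X ^ r - C ((-1) ^ e * S) * Polynomial.X ^ e
  have hP : P = 0 := by
    refine poly_zero ι p i (lt_of_le_of_lt ?_ hN) fun x => ?_
    · refine (Polynomial.natDegree_sub_le _ _).trans (max_le ?_ ?_)
      · refine Polynomial.natDegree_sum_le_of_forall_le _ _ fun r hr => (natDegree_C_mul_X_pow_le _ _).trans ?_
        rw [Finset.mem_range] at hr
        omega
      · refine (natDegree_C_mul_X_pow_le _ _).trans ?_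
        omega
    · rw [eval_sub, eval_finsetSum, eval_mul, eval_C, eval_pow, eval_X, sub_eq_zero]
      have h3 : f (τ (w * u x * w) y) = ∑ r ∈ Finset.range (n + 1), (-1) ^ n * ((-1) ^ r * F' r y) * (ι x ^ p ^ i) ^ r := by
        conv_lhs => rw [hF1 y]
        rw [map_sum, map_sum]
        refine Finset.sum_congr rfl fun r hr => ?_
        rw [Finset.mem_range] at hr
        rw [map_smul, map_smul, basS_low ι p hv' (by omega), map_sum, Finset.sum_eq_single_of_mem r (Finset.mem_range.2 (by omega))]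
        · rw [map_smul, Nat.sub_self, hf 0 (by omega), if_pos rfl, Nat.choose_self, Nat.cast_one, smul_eq_mul, smul_eq_mul]
          ring
        · intro j hj hjr
          rw [Finset.mem_range] at hj
          rw [map_smul, hf _ (by omega), if_neg (by omega), smul_zero]
      have h4 : f (τ (w * u x * w) y) = (-1) ^ e * S * (ι x ^ p ^ i) ^ e := by
        have h5 : ((-1 : k) ^ n) * (-1) ^ n = 1 := by rw [← mul_pow, neg_one_mul, neg_neg, one_pow]
        rw [hy, ← he, basS_low ι p hv hs, basS_low ι p hv ht, LinearMap.map_sum₂, map_sum, hS, Finset.mul_sum, Finset.sum_mul]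
        refine Finset.sum_congr rfl fun j hj => ?_
        rw [Finset.mem_range] at hj
        rw [LinearMap.map_smul₂, map_smul, map_sum, map_sum, smul_eq_mul, Finset.mul_sum, Finset.mul_sum, Finset.sum_mul]
        refine Finset.sum_congr rfl fun l hl => ?_
        rw [Finset.mem_range] at hl
        rw [map_smul, map_smul, smul_eq_mul]
        by_cases h6 : j + l = e
        · rw [if_pos h6, ← h6]
          linear_combination ((s.choose j : k) * (-1) ^ j * (ι x ^ p ^ i) ^ j * ((t.choose l : k) * (-1) ^ l * (ι x ^ p ^ i) ^ l) *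
            f (β (v (s - j)) (v (t - l)))) * h5
        · rw [if_neg h6, hB _ _ (by omega)]
          ring
      rw [← h4, h3]
      refine Finset.sum_congr rfl fun r _ => ?_
      rw [eval_mul, eval_C, eval_pow, eval_X]
  have hc : ∀ r ≤ n, F' r y = if r = e then (-1) ^ n * S else 0 := by
    intro r hr
    have h3 : P.coeff r = 0 := by rw [hP, Polynomial.coeff_zero]
    have h4 : P.coeff r = (-1) ^ n * ((-1) ^ r * F' r y) - if r = e then (-1) ^ e * S else 0 := by
      show (∑ r ∈ Finset.range (n + 1), C ((-1) ^ n * ((-1) ^ r * F' r y)) * Polynomial.X ^ r - C ((-1) ^ e * S) * Polynomial.X ^ e).coeff r = _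
      rw [coeff_sub, finsetSum_coeff, Finset.sum_eq_single_of_mem r (Finset.mem_range.2 (by omega)), coeff_C_mul_X_pow,
        if_pos rfl, coeff_C_mul_X_pow]
      intro r' _ hr'
      rw [coeff_C_mul_X_pow, if_neg (Ne.symm hr')]
    rw [h3] at h4
    have h5 : ((-1 : k) ^ n) * (-1) ^ n = 1 := by rw [← mul_pow, neg_one_mul, neg_neg, one_pow]
    have h6 : ((-1 : k) ^ r) * (-1) ^ r = 1 := by rw [← mul_pow, neg_one_mul, neg_neg, one_pow]
    split_ifs at h4 ⊢ with h7
    · rw [← h7] at h4
      have h8 : (-1) ^ n * F' r y = S := by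
        linear_combination (-((-1) ^ n * F' r y)) * h6 + S * h6 - (-1) ^ r * h4
      rw [← h8, ← mul_assoc, h5, one_mul]
    · have h8 : F' r y = (-1) ^ n * (-1) ^ n * ((-1) ^ r * (-1) ^ r) * F' r y := by rw [h5, h6, one_mul, one_mul]
      rw [h8]
      linear_combination (-((-1) ^ n * (-1) ^ r)) * h4
  rw [hF1 y, Finset.sum_eq_single_of_mem e (Finset.mem_range.2 (by omega)), hc e (by omega), if_pos rfl]
  intro r hr hre
  rw [Finset.mem_range] at hr
  rw [hc r (by omega), if_neg hre, zero_smul]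

end Bas

end Cfsg.Agent.R2.H28.SL2
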