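import Cfsg.Agent.R2.H28.SL2.Form

/-!
# Images of `S² V_{n p^i}` with all factors `V_{n p^i}` (helper28)

* `form_det` : a `U`-invariant functional `f` of the right weight is determined by `f (β (v 0) (v m))`, `n = 2 m`;
* `irr_of_dual` : if `β` spans `I` and all factors of the dual `J` of `I` are `V_{n p^i}` then `J` is irreducible
  (under an arithmetic condition);
* `exists_sqL` : the map from the symmetric square.
-/

set_option autoImplicit false
set_option linter.unusedSectionVars false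

namespace Cfsg.Agent.R2.H28.SL2

open Matrix Cfsg.Agent.H943.SL2Rel Cfsg.Agent.H943.SL2Mod Cfsg.Agent.H943.RepAdd
open scoped TensorProduct

universe u v w

variable {k : Type u} [Field k] [DecidableEq k] {F : Type w} [Field F] [Fintype F] [DecidableEq F] (ι : F →+* k)
variable (p : ℕ) [Fact p.Prime] [CharP k p] [CharP F p]

/-- linear extension -/
theorem basS_ext {X : Type*} [AddCommGroup X] [Module k X] {I : Type*} [AddCommGroup I] [Module k I]
    {σ : Representation k (SpecialLinearGroup (Fin 2) F) X} {n i : ℕ} {v : ℕ → X} (hv : BasS ι p σ n i v)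
    (g : X →ₗ[k] X →ₗ[k] I) (h : ∀ s ≤ n, ∀ t ≤ n, g (v s) (v t) = 0) (x y : X) : g x y = 0 := by
  obtain ⟨f, hf, -⟩ := basS_coord ι p hv
  rw [hf x, hf y, LinearMap.map_sum₂]
  refine Finset.sum_eq_zero fun s hs => ?_
  rw [LinearMap.map_smul₂, map_sum, Finset.sum_eq_zero, smul_zero]
  intro t ht
  rw [Finset.mem_range] at hs ht
  rw [map_smul, h s (by omega) t (by omega), smul_zero]

/-- **one value determines the form** -/
theorem form_det {X : Type*} [AddCommGroup X] [Module k X] {I : Type*} [AddCommGroup I] [Module k I]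
    {σ : Representation k (SpecialLinearGroup (Fin 2) F) X} {τ : Representation k (SpecialLinearGroup (Fin 2) F) I}
    {n i : ℕ} {v : ℕ → X} {β : X →ₗ[k] X →ₗ[k] I} (hv : BasS ι p σ n i v)
    (he : ∀ g x y, β (σ g x) (σ g y) = τ g (β x y)) (hn : 1 ≤ n) (hnp : n < p) (hN : n + 1 < Fintype.card F) {m : ℕ}
    (hm : n = 2 * m) (f : I →ₗ[k] k) (hf : ∀ t y, f (τ (u t) y) = f y)
    (hf' : ∀ (a : Fˣ) y, f (τ (h a) y) = ((ι a ^ p ^ i)⁻¹) ^ n * f y) :
    (∀ s t, s + t ≠ m → f (β (v s) (v t)) = 0) ∧ (f (β (v 0) (v m)) = 0 → ∀ x y, f (β x y) = 0) := by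
  obtain ⟨h1, h2⟩ := basS_form ι p hv he hn hnp (by omega) f hf
  have h3 : ∀ s t, s + t ≠ m → f (β (v s) (v t)) = 0 := by
    intro s t hst
    rcases Nat.lt_or_ge n (s + t) with h4 | h4
    · exact h1 s t h4
    · exact basS_form_wt ι p hv he hN f hf' h4 (by omega)
  refine ⟨h3, fun h0 => ?_⟩
  have hne : ∀ r : ℕ, 0 < r → r ≤ n → (r : k) ≠ 0 := by
    intro r hr hrn h2
    rw [CharP.cast_eq_zero_iff k p] at h2
    have := Nat.le_of_dvd hr h2
    omega
  have h4 : ∀ s t, s + t = m → f (β (v s) (v t)) = 0 := by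
    intro s
    induction s with
    | zero =>
      intro t ht
      rw [zero_add] at ht
      rw [ht]
      exact h0
    | succ s ih =>
      intro t hst
      have h5 := h2 s (by omega) t (by omega)
      rw [ih (t + 1) (by omega), mul_zero, add_zero] at h5
      exact (mul_eq_zero.1 h5).resolve_left (hne _ (by omega) (by omega))
  intro x y
  refine basS_ext ι p hv (β.compr₂ f) (fun s _ t _ => ?_) x y
  show f (β (v s) (v t)) = 0
  by_cases hst : s + t = m
  · exact h4 s t hst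
  · exact h3 s t hst

/-- functionals from vectors of the dual module -/
theorem dual_funct {J : Type*} [AddCommGroup J] [Module k J] {I : Type*} [AddCommGroup I] [Module k I]
    {π : Representation k (SpecialLinearGroup (Fin 2) F) J} {τ : Representation k (SpecialLinearGroup (Fin 2) F) I}
    {P : J →ₗ[k] I →ₗ[k] k} (D : Dul π τ P) {n i : ℕ} {z : J} (hu : ∀ t, π (u t) z = z)
    (hh : ∀ a, π (h a) z = ι a ^ (n * p ^ i) • z) :
    (∀ t y, P z (τ (u t) y) = P z y) ∧ (∀ (a : Fˣ) y, P z (τ (h a) y) = ((ι a ^ p ^ i)⁻¹) ^ n * P z y) := by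
  constructor
  · intro t y
    rw [D.inv', ← u_neg, hu]
  · intro a y
    have h1 : π (h a)⁻¹ z = ((ι (a : F) ^ (n * p ^ i))⁻¹) • z := by
      have h2 : π (h a)⁻¹ (π (h a) z) = z := by
        rw [← Module.End.mul_apply, ← map_mul, inv_mul_cancel, map_one, Module.End.one_apply]
      rw [hh, map_smul] at h2
      have h3 : ι (a : F) ^ (n * p ^ i) ≠ 0 := pow_ne_zero _ ((map_ne_zero ι).2 a.ne_zero)
      rw [← h2, smul_smul, inv_mul_cancel₀ h3, one_smul, h2]
    rw [D.inv', h1, map_smul, LinearMap.smul_apply, smul_eq_mul, mul_comm n, pow_mul, inv_pow]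

variable [IsAlgClosed k] {a : ℕ} (hF : Fintype.card F = p ^ a)

include hF in
/-- **irreducibility** -/
theorem irr_of_dual {X : Type*} [AddCommGroup X] [Module k X] {I : Type*} [AddCommGroup I] [Module k I]
    {J : Type v} [AddCommGroup J] [Module k J] [FiniteDimensional k J] [Nontrivial J]
    {σ : Representation k (SpecialLinearGroup (Fin 2) F) X} {τ : Representation k (SpecialLinearGroup (Fin 2) F) I}
    {π : Representation k (SpecialLinearGroup (Fin 2) F) J} {P : J →ₗ[k] I →ₗ[k] k} (D : Dul π τ P)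
    {n i : ℕ} {v : ℕ → X} {β : X →ₗ[k] X →ₗ[k] I} (hv : BasS ι p σ n i v)
    (he : ∀ g x y, β (σ g x) (σ g y) = τ g (β x y)) (hsp : ∀ f : I →ₗ[k] k, (∀ x y, f (β x y) = 0) → f = 0)
    (hn : 1 ≤ n) (hnp : n < p) (hN : n + 1 < Fintype.card F) {m : ℕ} (hm : n = 2 * m)
    (hall : ∀ c ∈ cf (Sy.{u, v, w} ι p) π, c = n * p ^ i)
    (hlift : ∀ l < a, (n * p ^ i) / p ^ l % p + 1 < p →
      (n * p ^ i + 2 * en p (n * p ^ i) l) % (p ^ a - 1) ≠ (n * p ^ i) % (p ^ a - 1)) : IsV ι p π (n * p ^ i) := by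
  obtain ⟨c, hcs⟩ := exists_inSoc ι p π
  have hcn := hall c hcs.mem_cf
  obtain ⟨W, hW, hc⟩ := hcs
  rw [hcn] at hc
  by_cases hWt : W = ⊤
  · subst hWt
    exact IsV.iso ι p Submodule.topEquiv (fun g x => rfl) hc
  exfalso
  have hnt : Nontrivial (J ⧸ W) := Submodule.Quotient.nontrivial_iff.2 hWt
  obtain ⟨c', hcs'⟩ := exists_inSoc ι p (quotRep π W hW)
  have hcn' := hall c' (Multiset.mem_of_le (cf_quot_le (Sy.{u, v, w} ι p) π W hW) hcs'.mem_cf)
  obtain ⟨Z, hZ, hc'⟩ := hcs'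
  rw [hcn'] at hc'
  obtain ⟨m', hm0', hmu', hmh', -⟩ := hc'.hw2
  obtain ⟨m₀, hm0, hmu, hmh, -⟩ := hc.hw2
  obtain ⟨x₀, hx₀⟩ := W.mkQ_surjective (m' : J ⧸ W)
  have hmem : ∀ z : J, W.mkQ z = 0 → z ∈ W := fun z hz => (Submodule.Quotient.mk_eq_zero W).1 hz
  have hmu'' : ∀ t, quotRep π W hW (u t) (m' : J ⧸ W) = m' := fun t => congrArg Subtype.val (hmu' t)
  have hmh'' : ∀ a, quotRep π W hW (h a) (m' : J ⧸ W) = ι a ^ (n * p ^ i) • (m' : J ⧸ W) := fun a => congrArg Subtype.val (hmh' a)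
  obtain ⟨N, hN'⟩ := cf_spec (Sy.{u, v, w} ι p) (subRep π W hW)
  obtain ⟨x, hx, hxu, hxh⟩ := lift_hw' ι p hF (c := n * p ^ i) N W hW hN' (fun b hb => by
      have h1 : cf (Sy.{u, v, w} ι p) (subRep π W hW) = {n * p ^ i} := cf_irr _ hc
      rw [h1, Multiset.mem_singleton] at hb
      rw [hb]
      exact hlift) x₀
    (fun t => hmem _ (by rw [map_sub, ← quotRep_mk π W hW, hx₀, hmu'', sub_self]))
    (fun a => hmem _ (by rw [map_sub, ← quotRep_mk π W hW, hx₀, hmh'', map_smul, hx₀, sub_self]))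
  have key : ∀ z : J, (∀ t, π (u t) z = z) → (∀ a, π (h a) z = ι a ^ (n * p ^ i) • z) → P z (β (v 0) (v m)) = 0 → z = 0 := by
    intro z hzu hzh h0
    obtain ⟨h1, h2⟩ := dual_funct ι p D hzu hzh
    have h3 := hsp (P z) ((form_det ι p hv he hn hnp hN hm (P z) h1 h2).2 h0)
    exact D.left z fun y => by rw [h3]; rfl
  have hmu3 : ∀ t, π (u t) (m₀ : J) = m₀ := fun t => congrArg Subtype.val (hmu t)
  have hmh3 : ∀ a, π (h a) (m₀ : J) = ι a ^ (n * p ^ i) • (m₀ : J) := fun a => congrArg Subtype.val (hmh a)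
  by_cases hl : P (m₀ : J) (β (v 0) (v m)) = 0
  · exact hm0 (Subtype.ext (key m₀ hmu3 hmh3 hl))
  · have h1 := key (P (m₀ : J) (β (v 0) (v m)) • x - P x (β (v 0) (v m)) • (m₀ : J)) (fun t => by
        rw [map_sub, map_smul, map_smul, hxu, hmu3]) (fun a => by
        rw [map_sub, map_smul, map_smul, hxh, hmh3, smul_sub, smul_comm, smul_comm (P x _)]) (by
        rw [map_sub, LinearMap.sub_apply, map_smul, map_smul, LinearMap.smul_apply, LinearMap.smul_apply, smul_eq_mul,
          smul_eq_mul, mul_comm, sub_self])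
    have h2 : x ∈ W := by
      rw [sub_eq_zero] at h1
      have h3 : P (m₀ : J) (β (v 0) (v m)) • x ∈ W := by
        rw [h1]
        exact W.smul_mem _ m₀.2
      exact (W.smul_mem_iff hl).1 h3
    have h3 : x₀ ∈ W := by
      have h4 : x₀ = x - (x - x₀) := by abel
      rw [h4]
      exact W.sub_mem h2 hx
    apply hm0'
    apply Subtype.ext
    rw [← hx₀]
    exact (Submodule.Quotient.mk_eq_zero W).2 h3

/-- the map on the symmetric square -/
theorem exists_sqL {X : Type*} [AddCommGroup X] [Module k X] {V : Type*} [AddCommGroup V] [Module k V]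
    {σ : Representation k (SpecialLinearGroup (Fin 2) F) X} {ρ : Representation k (SpecialLinearGroup (Fin 2) F) V}
    (β : X →ₗ[k] X →ₗ[k] V) (hs : ∀ x y, β x y = β y x) (he : ∀ g x y, β (σ g x) (σ g y) = ρ g (β x y)) :
    ∃ T : ((X ⊗[k] X) ⧸ Alt k X) →ₗ[k] V, (∀ x y, T ((Alt k X).mkQ (x ⊗ₜ y)) = β x y) ∧
      (∀ g x, T (Sq σ g x) = ρ g (T x)) ∧ ∀ W : Submodule k V, (∀ x y, β x y ∈ W) → LinearMap.range T ≤ W := by
  have hA : Alt k X ≤ LinearMap.ker (TensorProduct.lift β) := by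
    unfold Alt
    refine Submodule.span_le.2 ?_
    rintro _ ⟨x, y, rfl⟩
    show TensorProduct.lift β (x ⊗ₜ y - y ⊗ₜ x) = 0
    rw [map_sub, TensorProduct.lift.tmul, TensorProduct.lift.tmul, hs x y, sub_self]
  let T : ((X ⊗[k] X) ⧸ Alt k X) →ₗ[k] V := (Alt k X).liftQ (TensorProduct.lift β) hA
  have hT : ∀ x y, T ((Alt k X).mkQ (x ⊗ₜ y)) = β x y := fun x y => TensorProduct.lift.tmul x y
  refine ⟨T, hT, ?_, ?_⟩
  · intro g x
    obtain ⟨y, rfl⟩ := (Alt k X).mkQ_surjective x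
    unfold Sq
    rw [quotRep_mk]
    induction y using TensorProduct.induction_on with
    | zero => rw [map_zero, map_zero, map_zero, map_zero]
    | tmul x y => rw [Representation.tprod_apply, TensorProduct.map_tmul, hT, hT, he]
    | add x y hx hy => rw [map_add, map_add, map_add, hx, hy, map_add, map_add, map_add]
  · rintro W hW _ ⟨x, rfl⟩
    obtain ⟨y, rfl⟩ := (Alt k X).mkQ_surjective x
    induction y using TensorProduct.induction_on with
    | zero => rw [map_zero, map_zero]; exact W.zero_mem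
    | tmul x y => rw [hT]; exact hW x y
    | add x y hx hy => rw [map_add, map_add]; exact W.add_mem hx hy

end Cfsg.Agent.R2.H28.SL2
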