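import Cfsg.Agent.R2.H28.SL2.Lift

/-!
# Modules generated by highest weight vectors, lifting of submodules (helper28)

* `IsV.hw2` : the highest weight vector of `V_c`, with `D_n (w m) = 0` if `p ∣ C(c, n)`;
* `gen_hw` : a vector `x` fixed by `U`, of weight `c`, `S x = c_b x`, `D_n (w x) = 0` for `n = (c_i + 1) p ^ i` is the
  image of the highest weight vector under a homomorphism `V_c → V`;
* `mem_cf_of_hw` : the weight of a vector fixed by `U` is (modulo `q - 1`) in `cf ρ`;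
* `wt_cf` : the weights of a module;
* `lift_hw` : lifting of highest weight vectors;
* `Lft`, `lift_irr` : `V_c ≤ V / W` lifts to `V` if `Lft p a c b` for all `b ∈ cf W`.
-/

set_option autoImplicit false
set_option linter.unusedSectionVars false

namespace Cfsg.Agent.R2.H28.SL2

open Matrix Cfsg.Agent.H943.SL2Rel Cfsg.Agent.H943.SL2Mod Cfsg.Agent.H943.RepAdd

universe u v w

variable {k : Type u} [Field k] [DecidableEq k] {F : Type w} [Field F] [Fintype F] [DecidableEq F] (ι : F →+* k)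
variable (p : ℕ) [Fact p.Prime] [CharP k p] [CharP F p]

/-- the highest weight vector -/
theorem IsV.hw2 {V : Type*} [AddCommGroup V] [Module k V] {ρ : Representation k (SpecialLinearGroup (Fin 2) F) V}
    {c : ℕ} (hV : IsV ι p ρ c) : ∃ m : V, m ≠ 0 ∧ (∀ t, ρ (u t) m = m) ∧
      (∀ a, ρ (Cfsg.Agent.H943.SL2Rel.h a) m = ι a ^ c • m) ∧
      SS ρ m = cb k F c • m ∧ (∀ n, 1 ≤ n → n ≤ Fintype.card F - 1 → p ∣ c.choose n →
        Dm ι ρ n (ρ Cfsg.Agent.H943.SL2Rel.w m) = 0) ∧ Module.finrank k V = (Bf k c).card ∧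
      ∀ x, (∀ t, ρ (u t) x = x) → ∃ c : k, x = c • m := by
  obtain ⟨m, h0, h1, h2, h3, h4⟩ := hV.hw
  obtain ⟨hb, φ, hφ⟩ := hV
  refine ⟨m, h0, h1, h2, h3, fun n hn hn' hl => ?_, ?_, h4⟩
  · have hgood := Cfsg.Agent.H179.SLC.good_Db ι p (neg_one_pow_Q ι) hb
    have hmb : mon ι c c ∈ Vb ι c := Cfsg.Agent.H179.SLC.Db_le ι p (neg_one_pow_Q ι) hb (mon_mem_Db ι c)
    obtain ⟨d, hd⟩ := h4 (φ ⟨_, hmb⟩) fun t => by
      rw [← hφ]
      congr 1
      exact Subtype.ext (hgood.ufix t _ (mon_mem_Db ι c))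
    have hm0 : (⟨_, hmb⟩ : Vb ι c) ≠ 0 := fun h0 => mon_ne_zero ι c (congrArg Subtype.val h0)
    have hd0 : d ≠ 0 := by
      rintro rfl
      rw [zero_smul] at hd
      exact hm0 (φ.map_eq_zero_iff.1 hd)
    have h5 : Dm ι ρ n (ρ Cfsg.Agent.H943.SL2Rel.w (φ ⟨_, hmb⟩)) = 0 := by
      rw [← hφ]
      have h6 := Dm_comm ι (RB ι p hb) ρ (φ : Vb ι c →ₗ[k] V) (fun g x => hφ g x) n
        (RB ι p hb Cfsg.Agent.H943.SL2Rel.w ⟨_, hmb⟩)
      have h7 : Dm ι (RB ι p hb) n (RB ι p hb Cfsg.Agent.H943.SL2Rel.w ⟨_, hmb⟩) = 0 := by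
        apply Subtype.ext
        have h8 : ((Dm ι (RB ι p hb) n (RB ι p hb Cfsg.Agent.H943.SL2Rel.w ⟨_, hmb⟩) : Vb ι c) : F × F → k) =
            Dm ι (fRep k F) n (fRep k F Cfsg.Agent.H943.SL2Rel.w (mon ι c c)) := by
          rw [Dm_apply, Dm_apply]
          push_cast
          rfl
        have h9 : fRep k F Cfsg.Agent.H943.SL2Rel.w (mon ι c c) = (-1 : k) ^ c • mon ι c 0 := by
          funext z
          obtain ⟨x, y⟩ := z
          rw [fRep_w, mon_self]
          show ι (-y) ^ c = (-1) ^ c * (ι x ^ 0 * ι y ^ (c - 0))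
          rw [map_neg, neg_pow, pow_zero, one_mul, Nat.sub_zero]
        rw [h8, h9, map_smul, Dm_mon ι hb (Nat.zero_le _) hn hn', Nat.sub_zero, (CharP.cast_eq_zero_iff k p _).2 hl,
          zero_smul, smul_zero]
        rfl
      rw [h7, map_zero] at h6
      exact h6.symm
    rw [hd, map_smul, map_smul] at h5
    exact (smul_eq_zero.1 h5).resolve_left hd0
  · rw [← φ.finrank_eq, Cfsg.Agent.H179.SLC.finrank_Vb ι p ι.injective (neg_one_pow_Q ι) hb]

/-- the divided powers on the lowest weight vector -/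
theorem Dm_zero_of {V : Type*} [AddCommGroup V] [Module k V] (ρ : Representation k (SpecialLinearGroup (Fin 2) F) V)
    {a : ℕ} (hF : Fintype.card F = p ^ a) {c : ℕ} {y : V}
    (hD : ∀ i < a, c / p ^ i % p + 1 < p → Dm ι ρ (en p c i) y = 0) {n : ℕ}
    (hn' : n ≤ Fintype.card F - 1) (hl : p ∣ c.choose n) : Dm ι ρ n y = 0 := by
  have hp : p.Prime := Fact.out
  have hq := one_lt (F := F)
  obtain ⟨i, hi, hlt, hd1, hd2⟩ := exists_digit hp (a := a) (b := c) (n := n) (by omega) hl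
  have hle : en p c i ≤ n := by
    by_contra hc
    rw [Nat.choose_eq_zero_of_lt (by omega)] at hd1
    exact hd1 (dvd_zero p)
  have he1 : 1 ≤ en p c i := en_pos hp.pos
  rcases Nat.lt_or_ge (en p c i) n with hlt' | hge
  · have h1 := Dm_mul' ι ρ p hF (m := n - en p c i) (n := en p c i) (by omega) he1 (by omega) y
    rw [hD i hi hlt, map_zero, show n - en p c i + en p c i = n by omega] at h1
    refine (smul_eq_zero.1 h1.symm).resolve_left ?_
    have h2 := Nat.choose_symm hle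
    rw [h2, CharP.cast_eq_zero_iff k p]
    exact hd1
  · have : n = en p c i := by omega
    rw [this]
    exact hD i hi hlt

/-- **modules generated by a highest weight vector** -/
theorem gen_hw {V₁ : Type*} [AddCommGroup V₁] [Module k V₁] {σ : Representation k (SpecialLinearGroup (Fin 2) F) V₁}
    {V : Type*} [AddCommGroup V] [Module k V] (ρ : Representation k (SpecialLinearGroup (Fin 2) F) V)
    {a : ℕ} (hF : Fintype.card F = p ^ a) {c : ℕ} (hσ : IsV ι p σ c) {m : V₁} (hm0 : m ≠ 0)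
    (hmu : ∀ t, σ (u t) m = m) {x : V} (hu : ∀ t, ρ (u t) x = x)
    (hh : ∀ a, ρ (h a) x = ι a ^ c • x) (hS : SS ρ x = cb k F c • x)
    (hD : ∀ i < a, c / p ^ i % p + 1 < p → Dm ι ρ (en p c i) (ρ w x) = 0) :
    ∃ f : V₁ →ₗ[k] V, (∀ g y, f (σ g y) = ρ g (f y)) ∧ f m = x := by
  have hp : p.Prime := Fact.out
  have hq := one_lt (F := F)
  have hirr := hσ.irr
  have hfin := hσ.finite
  obtain ⟨m', hm'0, -, hm'h, hm'S, hm'D, hfr, hm'u⟩ := hσ.hw2
  -- the properties of `m`
  obtain ⟨d, rfl⟩ := hm'u m hmu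
  have hmh : ∀ a, σ (h a) (d • m') = ι a ^ c • (d • m') := fun a => by rw [map_smul, hm'h, smul_comm]
  have hmS : SS σ (d • m') = cb k F c • (d • m') := by rw [map_smul, hm'S, smul_comm]
  have hmD : ∀ n, 1 ≤ n → n ≤ Fintype.card F - 1 → p ∣ c.choose n → Dm ι σ n (σ w (d • m')) = 0 := by
    intro n h1 h2 h3
    rw [map_smul, map_smul, hm'D n h1 h2 h3, smul_zero]
  generalize d • m' = m at hm0 hmu hmh hmS hmD
  set τ := prodRep σ ρ with hτ
  have hτ' : ∀ g y, τ g y = (σ g y.1, ρ g y.2) := fun g y => prodRep_apply σ ρ g y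
  have G : Good τ (Submodule.span k {((m, x) : V₁ × V)}) (cb k F c) := by
    constructor
    · intro a y hy
      obtain ⟨e, rfl⟩ := Submodule.mem_span_singleton.1 hy
      rw [map_smul, hτ']
      refine Submodule.smul_mem _ _ ?_
      show (σ (h a) m, ρ (h a) x) ∈ _
      rw [hmh, hh]
      exact Submodule.smul_mem _ (ι a ^ c) (Submodule.mem_span_singleton_self ((m, x) : V₁ × V))
    · intro t y hy
      obtain ⟨e, rfl⟩ := Submodule.mem_span_singleton.1 hy
      rw [map_smul, hτ']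
      show e • (σ (u t) m, ρ (u t) x) = _
      rw [hmu, hu]
    · intro y hy
      obtain ⟨e, rfl⟩ := Submodule.mem_span_singleton.1 hy
      rw [map_smul, smul_comm]
      congr 1
      rw [SS_apply]
      refine Prod.ext ?_ ?_
      · rw [Prod.fst_sum]
        show ∑ t : F, σ (u t) (σ w m) = cb k F c • m
        rw [← SS_apply, hmS]
      · rw [Prod.snd_sum]
        show ∑ t : F, ρ (u t) (ρ w x) = cb k F c • x
        rw [← SS_apply, hS]
  obtain ⟨N, hN⟩ : ∃ N, N = MM τ (Submodule.span k {((m, x) : V₁ × V)}) := ⟨_, rfl⟩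
  have hNi : Inv τ N := by rw [hN]; exact inv_MM τ G
  have hmN : ((m, x) : V₁ × V) ∈ N := by
    rw [hN]
    exact le_MM τ G (Submodule.mem_span_singleton_self _)
  -- the dimension
  let z : ℕ → V₁ × V := fun n => if n = 0 then τ w (m, x) else Dm ι τ n (τ w (m, x))
  have hzD : ∀ n, 1 ≤ n → n ≤ Fintype.card F - 1 → p ∣ c.choose n → z n = 0 := by
    intro n hn hn' hl
    show (if n = 0 then _ else _) = _
    rw [if_neg (by omega)]
    have h1 := Dm_comm ι τ σ (LinearMap.fst k V₁ V) (fun g y => rfl) n (τ w (m, x))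
    have h2 := Dm_comm ι τ ρ (LinearMap.snd k V₁ V) (fun g y => rfl) n (τ w (m, x))
    refine Prod.ext ?_ ?_
    · refine h1.trans ?_
      exact hmD n hn hn' hl
    · refine h2.trans ?_
      exact Dm_zero_of ι p ρ hF hD hn' hl
  have hle : N ≤ Submodule.span k (z '' ((Bf k c : Finset ℕ) : Set ℕ)) := by
    rw [hN]
    refine Submodule.span_le.2 ?_
    rintro _ ⟨t, y, hy, rfl⟩
    obtain ⟨e, rfl⟩ := Submodule.mem_span_singleton.1 hy
    rw [map_smul, map_smul]
    refine Submodule.smul_mem _ _ ?_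
    rw [u_eq ι τ p t]
    refine Submodule.add_mem _ (Submodule.subset_span ⟨0, ?_, if_pos rfl⟩) (sum_mem fun n hn => Submodule.smul_mem _ _ ?_)
    · rw [Finset.mem_coe, mem_Bf]
      exact ⟨Nat.zero_le _, by rw [Nat.choose_zero_right, Nat.cast_one]; exact one_ne_zero⟩
    · rw [Finset.mem_Icc] at hn
      have hzn : z n = Dm ι τ n (τ w (m, x)) := if_neg (by omega)
      rw [← hzn]
      by_cases hl : p ∣ c.choose n
      · rw [hzD n hn.1 hn.2 hl]
        exact Submodule.zero_mem _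
      · refine Submodule.subset_span ⟨n, ?_, rfl⟩
        rw [Finset.mem_coe, mem_Bf]
        refine ⟨?_, ?_⟩
        · by_contra hc
          rw [Nat.choose_eq_zero_of_lt (by omega)] at hl
          exact hl (dvd_zero p)
        · rw [Ne, CharP.cast_eq_zero_iff k p]
          exact hl
  have hfinS : FiniteDimensional k (Submodule.span k (z '' ((Bf k c : Finset ℕ) : Set ℕ))) :=
    FiniteDimensional.span_of_finite k ((Finset.finite_toSet _).image _)
  have hfinN : FiniteDimensional k N := Submodule.finiteDimensional_of_le hle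
  have hdim : Module.finrank k N ≤ Module.finrank k V₁ := by
    classical
    rw [hfr]
    refine (Submodule.finrank_mono hle).trans ?_
    have h1 := finrank_span_finset_le_card (R := k) ((Bf k c).image z)
    rw [Finset.coe_image] at h1
    exact h1.trans Finset.card_image_le
  -- the first projection
  let f₁ : N →ₗ[k] V₁ := (LinearMap.fst k V₁ V) ∘ₗ N.subtype
  have hf₁s : Function.Surjective f₁ := by
    rw [← LinearMap.range_eq_top]
    refine (hirr.2 _ ?_).resolve_left ?_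
    · rintro g _ ⟨y, rfl⟩
      exact ⟨⟨_, hNi g y y.2⟩, rfl⟩
    · intro h0
      have h1 : m ∈ LinearMap.range f₁ := ⟨⟨_, hmN⟩, rfl⟩
      rw [h0, Submodule.mem_bot] at h1
      exact hm0 h1
  have hf₁i : Function.Injective f₁ := by
    rw [← LinearMap.ker_eq_bot, ← Submodule.finrank_eq_zero]
    have h1 := LinearMap.finrank_range_add_finrank_ker f₁
    rw [LinearMap.range_eq_top.2 hf₁s, finrank_top] at h1
    omega
  let e₁ := LinearEquiv.ofBijective f₁ ⟨hf₁i, hf₁s⟩
  refine ⟨((LinearMap.snd k V₁ V) ∘ₗ N.subtype) ∘ₗ (e₁.symm : V₁ →ₗ[k] N), fun g y => ?_, ?_⟩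
  · obtain ⟨y, rfl⟩ := e₁.surjective y
    have h1 : σ g (e₁ y) = e₁ ⟨_, hNi g y y.2⟩ := rfl
    rw [h1]
    show ((e₁.symm (e₁ ⟨_, hNi g y y.2⟩) : N) : V₁ × V).2 = ρ g ((e₁.symm (e₁ y) : N) : V₁ × V).2
    rw [LinearEquiv.symm_apply_apply, LinearEquiv.symm_apply_apply]
    rfl
  · have h1 : m = e₁ ⟨_, hmN⟩ := rfl
    show ((e₁.symm m : N) : V₁ × V).2 = x
    rw [h1, LinearEquiv.symm_apply_apply]

/-! ### weights and highest weights of composition factors -/

variable [IsAlgClosed k]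

/-- the highest weights -/
theorem mem_cf_of_hw' {e : ℕ} (n : ℕ) : ∀ {V : Type v} [AddCommGroup V] [Module k V]
    {ρ : Representation k (SpecialLinearGroup (Fin 2) F) V} {s : Multiset ℕ}, JHn (Sy.{u, v, w} ι p) n ρ s →
    ∀ x : V, x ≠ 0 → (∀ t, ρ (u t) x = x) → (∀ a, ρ (h a) x = ι a ^ e • x) →
    ∃ b ∈ s, b % (Fintype.card F - 1) = e % (Fintype.card F - 1) := by
  induction n with
  | zero =>
    intro V _ _ ρ s hs x hx hu hh
    have := hs.1
    exact absurd (Subsingleton.elim _ _) hx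
  | succ n ih =>
    intro V _ _ ρ s hs x hx hu hh
    obtain ⟨W, hW, b, t, hb, rfl, ht⟩ := hs
    by_cases hxW : x ∈ W
    · refine ⟨b, Multiset.mem_cons_self b t, ?_⟩
      obtain ⟨m, hm0, -, hmh, -, hm⟩ := IsV.hw ι p hb
      obtain ⟨c, hc⟩ := hm ⟨x, hxW⟩ fun t => Subtype.ext (hu t)
      have hc0 : c ≠ 0 := by
        rintro rfl
        rw [zero_smul] at hc
        exact hx (congrArg Subtype.val hc)
      refine mod_of_pow ι fun a => ?_
      have h1 : subRep ρ W hW (h a) ⟨x, hxW⟩ = ι a ^ e • (⟨x, hxW⟩ : W) := Subtype.ext (hh a)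
      rw [hc, map_smul, hmh, smul_comm] at h1
      have h2 : (ι a ^ b - ι a ^ e) • (c • m) = 0 := by rw [sub_smul, h1, sub_self]
      rw [smul_eq_zero, or_iff_left (smul_ne_zero hc0 hm0)] at h2
      exact sub_eq_zero.1 h2
    · obtain ⟨b', hb', h⟩ := ih ht (W.mkQ x) (fun h0 => hxW ((Submodule.Quotient.mk_eq_zero W).1 h0))
        (fun t => by rw [quotRep_mk, hu]) (fun a => by rw [quotRep_mk, hh, map_smul])
      exact ⟨b', Multiset.mem_cons_of_mem hb', h⟩

/-- the highest weights -/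
theorem mem_cf_of_hw {V : Type v} [AddCommGroup V] [Module k V] [FiniteDimensional k V]
    {ρ : Representation k (SpecialLinearGroup (Fin 2) F) V} {e : ℕ} {x : V} (hx : x ≠ 0) (hu : ∀ t, ρ (u t) x = x)
    (hh : ∀ a, ρ (h a) x = ι a ^ e • x) :
    ∃ b ∈ cf (Sy.{u, v, w} ι p) ρ, b % (Fintype.card F - 1) = e % (Fintype.card F - 1) := by
  obtain ⟨n, hn⟩ := cf_spec (Sy.{u, v, w} ι p) ρ
  exact mem_cf_of_hw' ι p n hn x hx hu hh

/-- the weights -/
theorem wt_cf {a : ℕ} (hF : Fintype.card F = p ^ a) {V : Type v} [AddCommGroup V] [Module k V] [FiniteDimensional k V]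
    {ρ : Representation k (SpecialLinearGroup (Fin 2) F) V} {e : ℕ} {x : V} (hx : x ≠ 0)
    (hh : ∀ a, ρ (h a) x = ι a ^ e • x) :
    ∃ b ∈ cf (Sy.{u, v, w} ι p) ρ, ∃ m ≤ b, ¬ p ∣ b.choose m ∧
      2 * m % (Fintype.card F - 1) = (b + e) % (Fintype.card F - 1) := by
  have hq := one_lt (F := F)
  obtain ⟨lam, hlam⟩ := IsCyclic.exists_generator (α := Fˣ)
  have hprim := primitive ι ι.injective hlam
  have h1 := (isMult_cf ι p hF ρ).eigen (h lam) (ι lam) (Fintype.card F - 1) (Cfsg.Agent.H179.SLC.isSS_h ι lam)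
    hprim.pow_eq_one (by rw [cast_Q p]; exact neg_ne_zero.2 one_ne_zero) (ι lam ^ e)
    (by rw [← pow_mul, mul_comm, pow_mul, hprim.pow_eq_one, one_pow])
  have h2 : Module.finrank k (eig ρ (h lam) (ι lam ^ e)) ≠ 0 := by
    rw [Ne, Submodule.finrank_eq_zero]
    intro h0
    have h3 : x ∈ eig ρ (h lam) (ι lam ^ e) := mem_eig ρ |>.2 (hh lam)
    rw [h0, Submodule.mem_bot] at h3
    exact hx h3
  rw [h1] at h2
  obtain ⟨b, -, hb⟩ := Finset.exists_ne_zero_of_sum_ne_zero h2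
  have hb1 := left_ne_zero_of_mul hb
  have hb2 := right_ne_zero_of_mul hb
  refine ⟨b, Multiset.count_ne_zero.1 hb1, ?_⟩
  unfold mf at hb2
  rw [Ne, Finset.card_eq_zero, ← Ne, ← Finset.nonempty_iff_ne_empty] at hb2
  obtain ⟨m, hm⟩ := hb2
  rw [Finset.mem_filter, mem_Bf] at hm
  obtain ⟨⟨hm1, hm2⟩, hm3⟩ := hm
  refine ⟨m, hm1, ?_, ?_⟩
  · rwa [Ne, CharP.cast_eq_zero_iff k p] at hm2
  · have hl0 : ι (lam : F) ≠ 0 := (map_ne_zero ι).2 lam.ne_zero
    have h4 : ι (lam : F) ^ (2 * m) = ι (lam : F) ^ (b + e) := by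
      rw [pow_add, ← hm3]
      have h5 : ι (lam : F) ^ (b - m) * (ι (lam : F))⁻¹ ^ (b - m) = 1 := by
        rw [← mul_pow, mul_inv_cancel₀ hl0, one_pow]
      calc ι (lam : F) ^ (2 * m) = ι (lam : F) ^ m * ι (lam : F) ^ m := by rw [two_mul, pow_add]
        _ = ι (lam : F) ^ m * ι (lam : F) ^ m * (ι (lam : F) ^ (b - m) * (ι (lam : F))⁻¹ ^ (b - m)) := by
          rw [h5, mul_one]
        _ = ι (lam : F) ^ (m + (b - m)) * (ι (lam : F) ^ m * (ι (lam : F))⁻¹ ^ (b - m)) := by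
          rw [pow_add]
          ring
        _ = _ := by rw [show m + (b - m) = b by omega]
    have h6 := (hprim.isOfFinOrder (by omega)).pow_eq_pow_iff_modEq.1 h4
    rw [← hprim.eq_orderOf] at h6
    exact h6

end Cfsg.Agent.R2.H28.SL2
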