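import Cfsg.Agent.R2.H28.SL2.Ext
import Cfsg.Agent.H179.SLC.Coc

/-!
# The first cohomology of the simple modules of `SL(2, q)` (helper28)

`finrank_Z1_RB` : `dim Z¹(V_b) + dim V_b ^ S ≤ dim V_b + hb p a b`, `hb p a b` : the number of exceptional digits.
-/

set_option autoImplicit false
set_option linter.unusedSectionVars false

namespace Cfsg.Agent.R2.H28.SL2

open Matrix Cfsg.Agent.H943.SL2Rel Cfsg.Agent.H943.SL2Mod Cfsg.Agent.H943.RepAdd

/-- the number of exceptional digits -/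
def hb (p a b : ℕ) : ℕ := ((Finset.range a).filter (Exc p a b)).card

section Gen

open Cfsg.Agent.H179.SLC

variable {k : Type*} [Field k] {G : Type*} [Group G] {V : Type*} [AddCommGroup V] [Module k V]
  (ρ : Representation k G V)

/-- the universal extension by cocycles -/
def extRep : Representation k G (V × Z1 ρ) where
  toFun g := LinearMap.prod (ρ g ∘ₗ LinearMap.fst k V (Z1 ρ) +
      (LinearMap.proj g ∘ₗ (Z1 ρ).subtype) ∘ₗ LinearMap.snd k V (Z1 ρ)) (LinearMap.snd k V (Z1 ρ))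
  map_one' := by
    refine LinearMap.ext fun x => Prod.ext ?_ rfl
    show ρ 1 x.1 + x.2.1 1 = x.1
    rw [map_one, Module.End.one_apply, Z1_one, add_zero]
  map_mul' g g' := by
    refine LinearMap.ext fun x => Prod.ext ?_ rfl
    show ρ (g * g') x.1 + x.2.1 (g * g') = ρ g (ρ g' x.1 + x.2.1 g') + x.2.1 g
    rw [map_mul, x.2.2 g g', map_add, Module.End.mul_apply]
    abel

theorem extRep_apply (g : G) (x : V × Z1 ρ) : extRep ρ g x = (ρ g x.1 + x.2.1 g, x.2) := rfl

/-- the submodule `V` of the universal extension -/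
def Wx : Submodule k (V × Z1 ρ) := LinearMap.ker (LinearMap.snd k V (Z1 ρ))

theorem mem_Wx (x : V × Z1 ρ) : x ∈ Wx ρ ↔ x.2 = 0 := Iff.rfl

theorem inv_Wx : ∀ g, ∀ x ∈ Wx ρ, extRep ρ g x ∈ Wx ρ := fun _ _ hx => hx

/-- `V` and the submodule `V` of the universal extension -/
def φx : V ≃ₗ[k] Wx ρ where
  toFun v := ⟨(v, 0), rfl⟩
  invFun x := x.1.1
  left_inv _ := rfl
  right_inv x := Subtype.ext (Prod.ext rfl ((mem_Wx ρ _).1 x.2).symm)
  map_add' _ _ := Subtype.ext (Prod.ext rfl (add_zero _).symm)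
  map_smul' _ _ := Subtype.ext (Prod.ext rfl (smul_zero _).symm)

theorem φx_apply (g : G) (x : V) : φx ρ (ρ g x) = subRep (extRep ρ) (Wx ρ) (inv_Wx ρ) g (φx ρ x) := by
  apply Subtype.ext
  show ((ρ g x, 0) : V × Z1 ρ) = (ρ g x + (0 : Z1 ρ).1 g, 0)
  refine Prod.ext ?_ rfl
  show ρ g x = ρ g x + 0
  rw [add_zero]

theorem tr_Wx (g : G) (x : V × Z1 ρ) : extRep ρ g x - x ∈ Wx ρ := by
  rw [mem_Wx, extRep_apply]
  exact sub_self _

theorem finrank_Z1_of [Finite G] [FiniteDimensional k V] (S : Finset ℕ) (z : ℕ → (V × Z1 ρ →ₗ[k] k))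
    (hz : ∀ x, (∀ i ∈ S, z i x = 0) → ∃ x', (∀ g, extRep ρ g x' = x') ∧ x' - x ∈ Wx ρ) :
    Module.finrank k (Z1 ρ) + Module.finrank k (fx ρ) ≤ Module.finrank k V + S.card := by
  let Θ : Z1 ρ →ₗ[k] (S → k) := LinearMap.pi fun i => z i ∘ₗ LinearMap.inr k V (Z1 ρ)
  have hΘ : ∀ c i, Θ c i = z i ((0 : V), c) := fun c i => rfl
  have hker : LinearMap.ker Θ ≤ LinearMap.range (cob ρ) := by
    intro c hc
    rw [LinearMap.mem_ker] at hc
    obtain ⟨x', hx', hx2⟩ := hz ((0 : V), c) fun i hi => congrFun hc ⟨i, hi⟩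
    have h2 : x'.2 = c := by
      have h3 : (x' - ((0 : V), c)).2 = 0 := hx2
      exact sub_eq_zero.1 h3
    refine ⟨-x'.1, Subtype.ext (funext fun g => ?_)⟩
    have h4 := congrArg Prod.fst (hx' g)
    rw [extRep_apply] at h4
    have h5 : ρ g x'.1 + x'.2.1 g = x'.1 := h4
    show ρ g (-x'.1) - (-x'.1) = c.1 g
    rw [← h2, map_neg]
    have h6 : x'.2.1 g = x'.1 - ρ g x'.1 := by rw [eq_sub_iff_add_eq, add_comm]; exact h5
    rw [h6]
    abel
  have h1 := LinearMap.finrank_range_add_finrank_ker Θ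
  have h2 := Submodule.finrank_mono hker
  have h3 := LinearMap.finrank_range_add_finrank_ker (cob ρ)
  rw [ker_cob] at h3
  have h4 : Module.finrank k (LinearMap.range Θ) ≤ S.card := by
    refine (Submodule.finrank_le _).trans ?_
    rw [Module.finrank_fintype_fun_eq_card, Fintype.card_coe]
  omega

end Gen

variable {k : Type*} [Field k] [DecidableEq k] {F : Type*} [Field F] [Fintype F] [DecidableEq F] (ι : F →+* k)
variable (p : ℕ) [Fact p.Prime] [CharP k p] [CharP F p]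

instance (b : ℕ) : FiniteDimensional k (Vb ι b) := by
  classical
  have h1 : FiniteDimensional k (F × F → k) := inferInstance
  exact FiniteDimensional.finiteDimensional_submodule _

/-- **`H¹(SL(2, q), V_b)`** -/
theorem finrank_Z1_RB {a : ℕ} (hF : Fintype.card F = p ^ a) {b : ℕ} (hb' : b ≤ Fintype.card F - 1)
    {V : Type*} [AddCommGroup V] [Module k V] [FiniteDimensional k V]
    (ρ : Representation k (SpecialLinearGroup (Fin 2) F) V) (ψ : Vb ι b ≃ₗ[k] V)
    (hψ : ∀ g x, ψ (RB ι p hb' g x) = ρ g (ψ x)) :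
    Module.finrank k (Cfsg.Agent.H179.SLC.Z1 ρ) + Module.finrank k (Cfsg.Agent.H179.SLC.fx ρ) ≤
      Module.finrank k V + hb p a b := by
  obtain ⟨z, -, -, hz⟩ := ext_main ι (extRep ρ) (Wx ρ) (inv_Wx _) p hF hb'
    (ψ.trans (φx ρ)) (fun g x => by
      rw [LinearEquiv.trans_apply, hψ]
      exact φx_apply ρ g (ψ x)) (tr_Wx ρ)
  refine finrank_Z1_of ρ ((Finset.range a).filter (Exc p a b)) z fun x hx => hz x fun i hi hE => ?_
  exact hx i (Finset.mem_filter.2 ⟨Finset.mem_range.2 hi, hE⟩)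

end Cfsg.Agent.R2.H28.SL2
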