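import Cfsg.Agent.H943.RepAdd

/-!
# Composition factors (helper28)

`Sys k G I` : a labelling of the irreducible representations of `G` over `k` by `I`; `cf S ρ : Multiset I` : the multiset
of the composition factors of a finite-dimensional representation (Jordan-Hoelder); `cf_add`, `cf_iso`, `cf_irr`.
-/

set_option autoImplicit false
set_option linter.unusedSectionVars false

namespace Cfsg.Agent.R2.H28.SL2

open Cfsg.Agent.H943.RepAdd

universe u v w

/-- irreducible -/
def Irrd {k : Type u} [Field k] {G : Type w} [Group G] {V : Type v} [AddCommGroup V] [Module k V]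
    (ρ : Representation k G V) : Prop :=
  Nontrivial V ∧ ∀ W : Submodule k V, (∀ g, ∀ x ∈ W, ρ g x ∈ W) → W = ⊥ ∨ W = ⊤

/-- a labelling of the irreducible representations -/
structure Sys (k : Type u) [Field k] (G : Type w) [Group G] (I : Type*) where
  /-- the predicate -/
  P : ∀ {V : Type v} [AddCommGroup V] [Module k V], Representation k G V → I → Prop
  iso : ∀ {V V' : Type v} [AddCommGroup V] [Module k V] [AddCommGroup V'] [Module k V'] (ρ : Representation k G V)
    (ρ' : Representation k G V') (i : I) (e : V ≃ₗ[k] V'), (∀ g x, e (ρ g x) = ρ' g (e x)) → P ρ i → P ρ' i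
  irr : ∀ {V : Type v} [AddCommGroup V] [Module k V] (ρ : Representation k G V) (i : I), P ρ i → Irrd ρ
  uniq : ∀ {V : Type v} [AddCommGroup V] [Module k V] (ρ : Representation k G V) (i j : I), P ρ i → P ρ j → i = j
  ex : ∀ {V : Type v} [AddCommGroup V] [Module k V] [FiniteDimensional k V] (ρ : Representation k G V), Irrd ρ → ∃ i, P ρ i

section Iso

variable {k : Type u} [Field k] {G : Type w} [Group G]

/-- the first isomorphism theorem -/
theorem quot_iso {A : Type*} [AddCommGroup A] [Module k A] {B : Type*} [AddCommGroup B] [Module k B]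
    (ρ : Representation k G A) (σ : Representation k G B) (f : A →ₗ[k] B) (hf : ∀ g x, f (ρ g x) = σ g (f x))
    (hs : Function.Surjective f) (K : Submodule k A) (hK : ∀ g, ∀ x ∈ K, ρ g x ∈ K) (hker : ∀ x, f x = 0 ↔ x ∈ K) :
    ∃ e : (A ⧸ K) ≃ₗ[k] B, (∀ g x, e (quotRep ρ K hK g x) = σ g (e x)) ∧ ∀ x, e (K.mkQ x) = f x := by
  have hK' : K = LinearMap.ker f := by
    ext x
    rw [LinearMap.mem_ker, hker]
  let e : (A ⧸ K) ≃ₗ[k] B := (Submodule.quotEquivOfEq _ _ hK').trans (f.quotKerEquivOfSurjective hs)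
  have he : ∀ x, e (K.mkQ x) = f x := fun x => rfl
  refine ⟨e, fun g x => ?_, he⟩
  obtain ⟨y, rfl⟩ := K.mkQ_surjective x
  rw [quotRep_mk, he, he, hf]

/-- equivalence of representations -/
def Eqv {A : Type*} [AddCommGroup A] [Module k A] {B : Type*} [AddCommGroup B] [Module k B]
    (ρ : Representation k G A) (σ : Representation k G B) : Prop := ∃ e : A ≃ₗ[k] B, ∀ g x, e (ρ g x) = σ g (e x)

theorem Eqv.symm {A : Type*} [AddCommGroup A] [Module k A] {B : Type*} [AddCommGroup B] [Module k B]
    {ρ : Representation k G A} {σ : Representation k G B} (h : Eqv ρ σ) : Eqv σ ρ := by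
  obtain ⟨e, he⟩ := h
  refine ⟨e.symm, fun g x => e.injective ?_⟩
  rw [LinearEquiv.apply_symm_apply, he, LinearEquiv.apply_symm_apply]

theorem Eqv.trans {A : Type*} [AddCommGroup A] [Module k A] {B : Type*} [AddCommGroup B] [Module k B]
    {C : Type*} [AddCommGroup C] [Module k C]
    {ρ : Representation k G A} {σ : Representation k G B} {τ : Representation k G C} (h : Eqv ρ σ) (h' : Eqv σ τ) :
    Eqv ρ τ := by
  obtain ⟨e, he⟩ := h
  obtain ⟨e', he'⟩ := h'
  exact ⟨e.trans e', fun g x => by rw [LinearEquiv.trans_apply, he, he']; rfl⟩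

theorem Eqv.refl {A : Type*} [AddCommGroup A] [Module k A] (ρ : Representation k G A) : Eqv ρ ρ :=
  ⟨LinearEquiv.refl k A, fun _ _ => rfl⟩

/-- injective images -/
theorem eqv_map {A : Type*} [AddCommGroup A] [Module k A] {B : Type*} [AddCommGroup B] [Module k B]
    (ρ : Representation k G A) (σ : Representation k G B) (f : A →ₗ[k] B) (hf : ∀ g x, f (ρ g x) = σ g (f x))
    (hi : Function.Injective f) (W : Submodule k A) (hW : ∀ g, ∀ x ∈ W, ρ g x ∈ W) :
    ∃ hW' : ∀ g, ∀ x ∈ W.map f, σ g x ∈ W.map f, Eqv (subRep ρ W hW) (subRep σ (W.map f) hW') := by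
  refine ⟨?_, Submodule.equivMapOfInjective f hi W, fun g x => Subtype.ext ?_⟩
  · rintro g _ ⟨x, hx, rfl⟩
    exact ⟨_, hW g x hx, hf g x⟩
  · show f (ρ g x) = σ g (f x)
    rw [hf]

theorem eqv_quot {A : Type*} [AddCommGroup A] [Module k A] {B : Type*} [AddCommGroup B] [Module k B]
    (ρ : Representation k G A) (σ : Representation k G B) (e : A ≃ₗ[k] B) (he : ∀ g x, e (ρ g x) = σ g (e x))
    (W : Submodule k A) (hW : ∀ g, ∀ x ∈ W, ρ g x ∈ W) (hW' : ∀ g, ∀ x ∈ W.map (e : A →ₗ[k] B), σ g x ∈ W.map (e : A →ₗ[k] B)) :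
    Eqv (quotRep ρ W hW) (quotRep σ (W.map (e : A →ₗ[k] B)) hW') := by
  obtain ⟨e', he', -⟩ := quot_iso ρ (quotRep σ (W.map (e : A →ₗ[k] B)) hW')
    ((W.map (e : A →ₗ[k] B)).mkQ ∘ₗ (e : A →ₗ[k] B)) (fun g x => by
      rw [LinearMap.comp_apply, LinearMap.comp_apply, quotRep_mk]
      exact congrArg _ (he g x)) ((W.map (e : A →ₗ[k] B)).mkQ_surjective.comp e.surjective) W hW (fun x => by
        rw [LinearMap.comp_apply, Submodule.mkQ_apply, Submodule.Quotient.mk_eq_zero]
        constructor
        · rintro ⟨y, hy, h⟩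
          rwa [← e.injective h]
        · intro h
          exact ⟨x, h, rfl⟩)
  exact ⟨e', he'⟩

end Iso

variable {k : Type u} [Field k] {G : Type w} [Group G] {I : Type*} (S : Sys.{u, v, w} k G I)

/-- `ρ` has a composition series of length `n` with the factors `s` -/
def JHn : ℕ → ∀ {V : Type v} [AddCommGroup V] [Module k V], Representation k G V → Multiset I → Prop
  | 0, V, _, _, _, s => Subsingleton V ∧ s = 0
  | n + 1, V, _, _, ρ, s => ∃ (W : Submodule k V) (hW : ∀ g, ∀ x ∈ W, ρ g x ∈ W) (b : I) (t : Multiset I),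
      S.P (subRep ρ W hW) b ∧ s = b ::ₘ t ∧ JHn n (quotRep ρ W hW) t

theorem JHn_card {n : ℕ} : ∀ {V : Type v} [AddCommGroup V] [Module k V] {ρ : Representation k G V} {s : Multiset I},
    JHn S n ρ s → Multiset.card s = n := by
  induction n with
  | zero =>
    intro V _ _ ρ s h
    rw [h.2, Multiset.card_zero]
  | succ n ih =>
    intro V _ _ ρ s h
    obtain ⟨W, hW, b, t, -, rfl, h3⟩ := h
    rw [Multiset.card_cons, ih h3]

theorem JHn_iso {n : ℕ} : ∀ {V V' : Type v} [AddCommGroup V] [Module k V] [AddCommGroup V'] [Module k V']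
    {ρ : Representation k G V} {ρ' : Representation k G V'} {s : Multiset I},
    Eqv ρ ρ' → JHn S n ρ s → JHn S n ρ' s := by
  induction n with
  | zero =>
    intro V V' _ _ _ _ ρ ρ' s h h1
    obtain ⟨e, -⟩ := h
    exact ⟨e.toEquiv.symm.subsingleton_congr.2 h1.1, h1.2⟩
  | succ n ih =>
    intro V V' _ _ _ _ ρ ρ' s h h1
    obtain ⟨e, he⟩ := h
    obtain ⟨W, hW, b, t, h2, rfl, h3⟩ := h1
    obtain ⟨hW', e2, he2⟩ := eqv_map ρ ρ' (e : V →ₗ[k] V') he e.injective W hW
    exact ⟨W.map (e : V →ₗ[k] V'), hW', b, t, S.iso _ _ b e2 he2 h2, rfl, ih (eqv_quot ρ ρ' e he W hW hW') h3⟩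

/-- **extensions** -/
theorem JHn_ext {n₂ : ℕ} {s₂ : Multiset I} (n₁ : ℕ) : ∀ {V : Type v} [AddCommGroup V] [Module k V]
    {ρ : Representation k G V} (W : Submodule k V) (hW : ∀ g, ∀ x ∈ W, ρ g x ∈ W) {s₁ : Multiset I},
    JHn S n₁ (subRep ρ W hW) s₁ → JHn S n₂ (quotRep ρ W hW) s₂ → JHn S (n₁ + n₂) ρ (s₁ + s₂) := by
  induction n₁ with
  | zero =>
    intro V _ _ ρ W hW s₁ h1 h2
    have hW0 : W = ⊥ := Submodule.subsingleton_iff_eq_bot.1 h1.1
    rw [h1.2, zero_add, zero_add]
    obtain ⟨e, he, -⟩ := quot_iso ρ ρ LinearMap.id (fun _ _ => rfl) Function.surjective_id W hW (fun x => by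
      rw [hW0, Submodule.mem_bot]
      rfl)
    exact JHn_iso S ⟨e, he⟩ h2
  | succ n₁ ih =>
    intro V _ _ ρ W hW s₁ h1 h2
    obtain ⟨W₀, hW₀, b, t, h3, rfl, h4⟩ := h1
    obtain ⟨X, hXdef⟩ : ∃ X : Submodule k V, X = W₀.map W.subtype := ⟨_, rfl⟩
    have hE := eqv_map (subRep ρ W hW) ρ W.subtype (fun g x => rfl) W.injective_subtype W₀ hW₀
    rw [← hXdef] at hE
    obtain ⟨hX, e1, he1⟩ := hE
    have hXW : X ≤ W := by
      rw [hXdef]
      exact Submodule.map_subtype_le _ _
    -- the image of `W`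
    set W₁ : Submodule k (V ⧸ X) := W.map X.mkQ with hW₁def
    have hW₁ : ∀ g, ∀ x ∈ W₁, quotRep ρ X hX g x ∈ W₁ := by
      rintro g _ ⟨x, hx, rfl⟩
      exact ⟨_, hW g x hx, rfl⟩
    have hXm : ∀ x : W, (x : V) ∈ X ↔ x ∈ W₀ := by
      intro x
      rw [hXdef]
      constructor
      · rintro ⟨y, hy, hxy⟩
        have : y = x := Subtype.ext hxy
        rwa [← this]
      · intro hx
        exact ⟨x, hx, rfl⟩
    obtain ⟨e2, he2, -⟩ := quot_iso (subRep ρ W hW) (subRep (quotRep ρ X hX) W₁ hW₁)
      (LinearMap.codRestrict W₁ (X.mkQ ∘ₗ W.subtype) fun x => ⟨x, x.2, rfl⟩) (fun g x => Subtype.ext rfl)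
      (by
        rintro ⟨_, x, hx, rfl⟩
        exact ⟨⟨x, hx⟩, rfl⟩) W₀ hW₀ (fun x => by
          rw [← hXm, ← Submodule.Quotient.mk_eq_zero X]
          constructor
          · intro h
            exact congrArg Subtype.val h
          · intro h
            exact Subtype.ext h)
    obtain ⟨e3, he3, -⟩ := quot_iso ρ (quotRep (quotRep ρ X hX) W₁ hW₁) (W₁.mkQ ∘ₗ X.mkQ) (fun g x => rfl)
      (W₁.mkQ_surjective.comp X.mkQ_surjective) W hW (fun x => by
        rw [LinearMap.comp_apply, Submodule.mkQ_apply, Submodule.Quotient.mk_eq_zero]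
        constructor
        · rintro ⟨y, hy, h⟩
          have h5 : y - x ∈ X := (Submodule.Quotient.eq X).1 h
          have h6 : x = y - (y - x) := by abel
          rw [h6]
          exact W.sub_mem hy (hXW h5)
        · intro h
          exact ⟨x, h, rfl⟩)
    have h5 := ih W₁ hW₁ (JHn_iso S ⟨e2, he2⟩ h4) (JHn_iso S ⟨e3, he3⟩ h2)
    have h6 : n₁ + 1 + n₂ = (n₁ + n₂) + 1 := by omega
    rw [h6, Multiset.cons_add]
    exact ⟨X, hX, b, _, S.iso _ _ b e1 he1 h3, rfl, h5⟩

/-- **existence** -/
theorem exists_JHn {V : Type v} [AddCommGroup V] [Module k V] [FiniteDimensional k V] (ρ : Representation k G V) :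
    ∃ n s, JHn S n ρ s := by
  have key : ∀ (d : ℕ) (V : Type v) [AddCommGroup V] [Module k V] [FiniteDimensional k V]
      (ρ : Representation k G V) (_ : Module.finrank k V = d), ∃ n s, JHn S n ρ s := by
    intro d
    induction d using Nat.strong_induction_on with
    | _ d ih =>
      intro V _ _ _ ρ hd
      rcases subsingleton_or_nontrivial V with hV | hV
      · exact ⟨0, 0, hV, rfl⟩
      · obtain ⟨W, hW, hW0, hmin⟩ := exists_irr_sub ρ
        have hIW : Irrd (subRep ρ W hW) := by
          refine ⟨Submodule.nontrivial_iff_ne_bot.2 hW0, fun W' hW' => ?_⟩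
          rcases hmin (W'.map W.subtype) (Submodule.map_subtype_le _ _) (by
            rintro g _ ⟨x, hx, rfl⟩
            exact ⟨_, hW' g x hx, rfl⟩) with h1 | h1
          · left
            rw [eq_bot_iff]
            intro x hx
            have h2 : (x : V) ∈ W'.map W.subtype := ⟨x, hx, rfl⟩
            rw [h1] at h2
            exact (Submodule.mem_bot k).2 (Subtype.ext ((Submodule.mem_bot k).1 h2))
          · right
            rw [eq_top_iff]
            intro x _
            have h2 : (x : V) ∈ W'.map W.subtype := by rw [h1]; exact x.2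
            obtain ⟨y, hy, e⟩ := h2
            rwa [← Subtype.ext (p := fun z => z ∈ W) e]
        have hpos : 0 < Module.finrank k W := by
          have := hIW.1
          exact Module.finrank_pos
        have hadd := Submodule.finrank_quotient_add_finrank W
        obtain ⟨n, s, hs⟩ := ih (Module.finrank k (V ⧸ W)) (by omega) (V ⧸ W) (quotRep ρ W hW) rfl
        obtain ⟨b, hb⟩ := S.ex _ hIW
        exact ⟨n + 1, b ::ₘ s, W, hW, b, s, hb, rfl, hs⟩
  exact key _ V ρ rfl

/-- **uniqueness** -/
theorem JHn_uniq (n : ℕ) : ∀ (m : ℕ) {V : Type v} [AddCommGroup V] [Module k V] [FiniteDimensional k V]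
    {ρ : Representation k G V} {s t : Multiset I}, JHn S n ρ s → JHn S m ρ t → s = t := by
  induction n with
  | zero =>
    intro m V _ _ _ ρ s t h1 h2
    cases m with
    | zero => rw [h1.2, h2.2]
    | succ m =>
      obtain ⟨W, hW, b, t', h3, -, -⟩ := h2
      have := (S.irr _ _ h3).1
      have h4 := h1.1
      obtain ⟨x, y, hxy⟩ := this
      exact absurd (Subtype.ext (Subsingleton.elim _ _)) hxy
  | succ n ih =>
    intro m V _ _ _ ρ s t h1 h2
    obtain ⟨W, hW, b, s', hb, rfl, h1'⟩ := h1
    have hirrW := S.irr _ _ hb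
    cases m with
    | zero =>
      obtain ⟨x, y, hxy⟩ := hirrW.1
      have h4 := h2.1
      exact absurd (Subtype.ext (Subsingleton.elim _ _)) hxy
    | succ m =>
      obtain ⟨W', hW', b', t', hb', rfl, h2'⟩ := h2
      have hirrW' := S.irr _ _ hb'
      by_cases hWW : W = W'
      · subst hWW
        rw [S.uniq _ _ _ hb hb', ih m h1' h2']
      · -- distinct minimal submodules
        have hinf : W ⊓ W' = ⊥ := by
          have hinv : ∀ g, ∀ x ∈ W ⊓ W', ρ g x ∈ W ⊓ W' := fun g x hx => ⟨hW g x hx.1, hW' g x hx.2⟩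
          have k1 := hirrW.2 ((W ⊓ W').comap W.subtype) (fun g x hx => hinv g x hx)
          rcases k1 with k1 | k1
          · rw [eq_bot_iff]
            intro x hx
            have k2 : (⟨x, hx.1⟩ : W) ∈ (W ⊓ W').comap W.subtype := hx
            rw [k1, Submodule.mem_bot] at k2
            exact (Submodule.mem_bot k).2 (congrArg Subtype.val k2)
          · exfalso
            have hle : W ≤ W' := by
              intro x hx
              have k2 : (⟨x, hx⟩ : W) ∈ (W ⊓ W').comap W.subtype := by rw [k1]; trivial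
              exact k2.2
            have k3 := hirrW'.2 (W.comap W'.subtype) (fun g x hx => hW g x hx)
            rcases k3 with k3 | k3
            · obtain ⟨x, y, hxy⟩ := hirrW.1
              apply hxy
              have k4 : ∀ z : W, z = 0 := by
                intro z
                have k5 : (⟨z, hle z.2⟩ : W') ∈ W.comap W'.subtype := z.2
                rw [k3, Submodule.mem_bot] at k5
                have k6 : ((⟨z, hle z.2⟩ : W') : V) = ((0 : W') : V) := by rw [k5]
                exact Subtype.ext k6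
              rw [k4 x, k4 y]
            · apply hWW
              refine le_antisymm hle fun x hx => ?_
              have k4 : (⟨x, hx⟩ : W') ∈ W.comap W'.subtype := by rw [k3]; trivial
              exact k4
        -- a quotient by an irreducible submodule, then by the sum
        have key : ∀ (A B : Submodule k V) (hA : ∀ g, ∀ x ∈ A, ρ g x ∈ A) (hB : ∀ g, ∀ x ∈ B, ρ g x ∈ B)
            (c : I) (_ : S.P (subRep ρ B hB) c) (_ : A ⊓ B = ⊥)
            (hAB : ∀ g, ∀ x ∈ A ⊔ B, ρ g x ∈ A ⊔ B) (l : ℕ) (u : Multiset I)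
            (_ : JHn S l (quotRep ρ (A ⊔ B) hAB) u), JHn S (l + 1) (quotRep ρ A hA) (c ::ₘ u) := by
          intro A B hA hB c hc hAB0 hAB l u hu
          have hX : ∀ g, ∀ x ∈ B.map A.mkQ, quotRep ρ A hA g x ∈ B.map A.mkQ := by
            rintro g _ ⟨x, hx, rfl⟩
            exact ⟨_, hB g x hx, rfl⟩
          refine ⟨B.map A.mkQ, hX, c, u, ?_, rfl, ?_⟩
          · have hinj : Function.Injective (LinearMap.codRestrict (B.map A.mkQ) (A.mkQ ∘ₗ B.subtype)
                fun x => ⟨x, x.2, rfl⟩) := by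
              rw [← LinearMap.ker_eq_bot, LinearMap.ker_eq_bot']
              intro x hx
              have k1 : A.mkQ (x : V) = 0 := congrArg Subtype.val hx
              rw [Submodule.mkQ_apply, Submodule.Quotient.mk_eq_zero] at k1
              have k2 : (x : V) ∈ A ⊓ B := ⟨k1, x.2⟩
              rw [hAB0, Submodule.mem_bot] at k2
              exact Subtype.ext k2
            exact S.iso _ _ c (LinearEquiv.ofBijective _ ⟨hinj, by
              rintro ⟨_, x, hx, rfl⟩
              exact ⟨⟨x, hx⟩, rfl⟩⟩) (fun g x => Subtype.ext rfl) hc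
          · obtain ⟨e, he, -⟩ := quot_iso ρ (quotRep (quotRep ρ A hA) (B.map A.mkQ) hX)
              ((B.map A.mkQ).mkQ ∘ₗ A.mkQ) (fun g x => rfl) ((B.map A.mkQ).mkQ_surjective.comp A.mkQ_surjective)
              (A ⊔ B) hAB (fun x => by
                rw [LinearMap.comp_apply, Submodule.mkQ_apply, Submodule.Quotient.mk_eq_zero]
                constructor
                · rintro ⟨y, hy, h⟩
                  have h5 : y - x ∈ A := (Submodule.Quotient.eq A).1 h
                  have h6 : x = -(y - x) + y := by abel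
                  rw [h6]
                  exact Submodule.add_mem_sup (A.neg_mem h5) hy
                · intro h
                  obtain ⟨y, hy, z, hz, rfl⟩ := Submodule.mem_sup.1 h
                  refine ⟨z, hz, ?_⟩
                  rw [map_add, (Submodule.Quotient.mk_eq_zero A).2 hy |> fun h => (show A.mkQ y = 0 from h), zero_add])
            exact JHn_iso S ⟨e, he⟩ hu
        have hsup : ∀ g, ∀ x ∈ W ⊔ W', ρ g x ∈ W ⊔ W' := by
          intro g x hx
          obtain ⟨y, hy, z, hz, rfl⟩ := Submodule.mem_sup.1 hx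
          rw [map_add]
          exact Submodule.add_mem_sup (hW g y hy) (hW' g z hz)
        have hsup' : ∀ g, ∀ x ∈ W' ⊔ W, ρ g x ∈ W' ⊔ W := by
          rw [sup_comm]
          exact hsup
        obtain ⟨l, u, hu⟩ := exists_JHn S (quotRep ρ (W ⊔ W') hsup)
        have hu' : JHn S l (quotRep ρ (W' ⊔ W) hsup') u := by
          have : ∀ (X : Submodule k V) (hX : ∀ g, ∀ x ∈ X, ρ g x ∈ X), X = W ⊔ W' → JHn S l (quotRep ρ X hX) u := by
            rintro X hX rfl
            exact hu
          exact this _ _ (sup_comm _ _)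
        have q1 := key W W' hW hW' b' hb' hinf hsup l u hu
        have q2 := key W' W hW' hW b hb (by rw [inf_comm]; exact hinf) hsup' l u hu'
        have r1 : s' = b' ::ₘ u := ih _ h1' q1
        have hl : l + 1 = n := by
          rw [← JHn_card S h1', r1, ← JHn_card S q1]
        have q3 : JHn S n (quotRep ρ W' hW') (b ::ₘ u) := by
          rw [← hl]
          exact q2
        have r2 : b ::ₘ u = t' := ih _ q3 h2'
        rw [r1, ← r2, Multiset.cons_swap]

open Classical in
/-- **the multiset of the composition factors** -/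
noncomputable def cf {V : Type v} [AddCommGroup V] [Module k V] (ρ : Representation k G V) : Multiset I :=
  if h : ∃ n s, JHn S n ρ s then h.choose_spec.choose else 0

theorem cf_spec {V : Type v} [AddCommGroup V] [Module k V] [FiniteDimensional k V] (ρ : Representation k G V) :
    ∃ n, JHn S n ρ (cf S ρ) := by
  have h := exists_JHn S ρ
  unfold cf
  rw [dif_pos h]
  exact ⟨h.choose, h.choose_spec.choose_spec⟩

theorem cf_eq {V : Type v} [AddCommGroup V] [Module k V] [FiniteDimensional k V] {ρ : Representation k G V} {n : ℕ}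
    {s : Multiset I} (h : JHn S n ρ s) : cf S ρ = s := by
  obtain ⟨m, hm⟩ := cf_spec S ρ
  exact JHn_uniq S m n hm h

/-- **additivity** -/
theorem cf_add {V : Type v} [AddCommGroup V] [Module k V] [FiniteDimensional k V] (ρ : Representation k G V)
    (W : Submodule k V) (hW : ∀ g, ∀ x ∈ W, ρ g x ∈ W) : cf S ρ = cf S (subRep ρ W hW) + cf S (quotRep ρ W hW) := by
  obtain ⟨n, hn⟩ := cf_spec S (subRep ρ W hW)
  obtain ⟨m, hm⟩ := cf_spec S (quotRep ρ W hW)
  exact cf_eq S (JHn_ext S n W hW hn hm)

theorem cf_iso {V V' : Type v} [AddCommGroup V] [Module k V] [FiniteDimensional k V] [AddCommGroup V'] [Module k V']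
    [FiniteDimensional k V'] {ρ : Representation k G V} {ρ' : Representation k G V'} (h : Eqv ρ ρ') :
    cf S ρ = cf S ρ' := by
  obtain ⟨n, hn⟩ := cf_spec S ρ
  exact (cf_eq S (JHn_iso S h hn)).symm

theorem cf_zero {V : Type v} [AddCommGroup V] [Module k V] [Subsingleton V] (ρ : Representation k G V) :
    cf S ρ = 0 := by
  have : FiniteDimensional k V := inferInstance
  exact cf_eq S (n := 0) ⟨inferInstance, rfl⟩

theorem cf_eq_zero {V : Type v} [AddCommGroup V] [Module k V] [FiniteDimensional k V] {ρ : Representation k G V}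
    (h : cf S ρ = 0) : Subsingleton V := by
  obtain ⟨n, hn⟩ := cf_spec S ρ
  rw [h] at hn
  have h1 := JHn_card S hn
  rw [Multiset.card_zero] at h1
  subst h1
  exact hn.1

theorem cf_irr {V : Type v} [AddCommGroup V] [Module k V] [FiniteDimensional k V] {ρ : Representation k G V} {b : I}
    (h : S.P ρ b) : cf S ρ = {b} := by
  have htop : ∀ g, ∀ x ∈ (⊤ : Submodule k V), ρ g x ∈ (⊤ : Submodule k V) := fun _ _ _ => trivial
  refine cf_eq S (n := 1) ⟨⊤, htop, b, 0, S.iso ρ _ b Submodule.topEquiv.symm (fun g x => Subtype.ext rfl) h, rfl, ?_, rfl⟩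
  exact Submodule.Quotient.subsingleton_iff.2 rfl

theorem irr_of_cf {V : Type v} [AddCommGroup V] [Module k V] [FiniteDimensional k V] {ρ : Representation k G V} {b : I}
    (h : cf S ρ = {b}) : S.P ρ b := by
  obtain ⟨n, hn⟩ := cf_spec S ρ
  rw [h] at hn
  have h1 := JHn_card S hn
  rw [Multiset.card_singleton] at h1
  subst h1
  obtain ⟨W, hW, c, t, hc, hs, ht⟩ := hn
  have ht0 : t = 0 := ht.2
  rw [ht0] at hs
  have hbc : b = c := by
    have := congrArg (fun m => b ∈ m) hs
    simpa using this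
  have hWt : W = ⊤ := Submodule.Quotient.subsingleton_iff.1 ht.1
  subst hWt
  rw [hbc]
  exact S.iso _ ρ c Submodule.topEquiv (fun g x => rfl) hc

/-- composition factors of submodules and quotients -/
theorem cf_sub_le {V : Type v} [AddCommGroup V] [Module k V] [FiniteDimensional k V] (ρ : Representation k G V)
    (W : Submodule k V) (hW : ∀ g, ∀ x ∈ W, ρ g x ∈ W) : cf S (subRep ρ W hW) ≤ cf S ρ := by
  rw [cf_add S ρ W hW]
  exact Multiset.le_add_right _ _

theorem cf_quot_le {V : Type v} [AddCommGroup V] [Module k V] [FiniteDimensional k V] (ρ : Representation k G V)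
    (W : Submodule k V) (hW : ∀ g, ∀ x ∈ W, ρ g x ∈ W) : cf S (quotRep ρ W hW) ≤ cf S ρ := by
  rw [cf_add S ρ W hW]
  exact Multiset.le_add_left _ _

/-- exact sequences -/
theorem cf_exact {V V' : Type v} [AddCommGroup V] [Module k V] [FiniteDimensional k V] [AddCommGroup V'] [Module k V']
    [FiniteDimensional k V'] (ρ : Representation k G V) (ρ' : Representation k G V') (f : V →ₗ[k] V')
    (hf : ∀ g x, f (ρ g x) = ρ' g (f x)) :
    ∃ (hk : ∀ g, ∀ x ∈ LinearMap.ker f, ρ g x ∈ LinearMap.ker f) (hr : ∀ g, ∀ x ∈ LinearMap.range f, ρ' g x ∈ LinearMap.range f),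
      cf S ρ = cf S (subRep ρ _ hk) + cf S (subRep ρ' _ hr) ∧ Eqv (quotRep ρ _ hk) (subRep ρ' _ hr) := by
  have hk : ∀ g, ∀ x ∈ LinearMap.ker f, ρ g x ∈ LinearMap.ker f := by
    intro g x hx
    rw [LinearMap.mem_ker] at hx ⊢
    rw [hf, hx, map_zero]
  have hr : ∀ g, ∀ x ∈ LinearMap.range f, ρ' g x ∈ LinearMap.range f := by
    rintro g _ ⟨x, rfl⟩
    exact ⟨_, hf g x⟩
  obtain ⟨e, he, -⟩ := quot_iso ρ (subRep ρ' _ hr) f.rangeRestrict (fun g x => Subtype.ext (hf g x))
    f.surjective_rangeRestrict (LinearMap.ker f) hk (fun x => by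
      rw [LinearMap.mem_ker]
      constructor
      · intro h
        exact congrArg Subtype.val h
      · intro h
        exact Subtype.ext h)
  refine ⟨hk, hr, ?_, e, he⟩
  rw [cf_add S ρ _ hk, cf_iso S ⟨e, he⟩]

end Cfsg.Agent.R2.H28.SL2
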