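import Cfsg.Agent.R2.H28.SL2.CF

/-!
# Lifting of highest weight vectors (helper28)

* `exists_m` : the functional `m` on a module containing `W ≅ V_b`;
* `lift_one` : `x` fixed by `U` and of weight `c` modulo `W ≅ V_b`: if `c + 2 (b_i + 1) p ^ i` is never `b` modulo
  `q - 1`, then `x` can be changed by an element of `W` to a vector fixed by `U` and of weight `c`;
* `lift_hw` : the same for all `W`;
* `gen_hw` : a vector `x` fixed by `U` of weight `c`, with `S x = c_b x`, `D_n (w x) = 0` for `n = (c_i + 1) p ^ i`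
  generates a module `≅ V_c`.
-/

set_option autoImplicit false
set_option linter.unusedSectionVars false

namespace Cfsg.Agent.R2.H28.SL2

open Matrix Cfsg.Agent.H943.SL2Rel Cfsg.Agent.H943.SL2Mod Cfsg.Agent.H943.RepAdd

universe u v w

variable {k : Type u} [Field k] [DecidableEq k] {F : Type w} [Field F] [Fintype F] [DecidableEq F] (ι : F →+* k)
variable (p : ℕ) [Fact p.Prime] [CharP k p] [CharP F p]

theorem en_pos {p b i : ℕ} (hp : 0 < p) : 1 ≤ en p b i := Nat.mul_pos (Nat.succ_pos _) (Nat.pow_pos hp)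

theorem en_le {p a b i : ℕ} (hp : 0 < p) (hi : i < a) (h1 : b / p ^ i % p + 1 < p) : en p b i ≤ p ^ a - 1 := by
  have h2 : en p b i < p ^ a := by
    unfold en
    calc (b / p ^ i % p + 1) * p ^ i < p * p ^ i := Nat.mul_lt_mul_of_pos_right h1 (Nat.pow_pos hp)
      _ = p ^ (i + 1) := by rw [pow_succ, mul_comm]
      _ ≤ p ^ a := Nat.pow_le_pow_right hp hi
  omega

theorem dvd_choose_en {p b i : ℕ} (hp : p.Prime) (h1 : b / p ^ i % p + 1 < p) : p ∣ b.choose (en p b i) := by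
  by_contra hc
  rw [not_dvd_choose_iff hp] at hc
  have h2 := hc i
  have h3 : en p b i / p ^ i % p = b / p ^ i % p + 1 := by
    unfold en
    rw [dg_single hp.one_lt h1, if_pos rfl]
  omega

section Main

variable {E : Type*} [AddCommGroup E] [Module k E]
  (ρ : Representation k (SpecialLinearGroup (Fin 2) F) E) (W : Submodule k E) (hW : ∀ g, ∀ x ∈ W, ρ g x ∈ W)

/-- the functional -/
theorem exists_m {b : ℕ} (hV : IsV ι p (subRep ρ W hW) b) :
    ∃ m : E →ₗ[k] k, (∀ (a : Fˣ) x, m (ρ (h a) x) = ι (a : F) ^ b * m x) ∧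
      (∀ n, 1 ≤ n → n ≤ Fintype.card F - 1 → p ∣ b.choose n → ∀ y ∈ W, m (Dm ι ρ n y) = 0) ∧
      (∀ y ∈ W, m y = 0 → (∀ n, 1 ≤ n → n ≤ Fintype.card F - 1 → m (Dm ι ρ n y) = 0) → y = 0) ∧
      ∀ γ : ℕ → k, ∃ v ∈ W, m v = γ 0 ∧ ∀ n, 1 ≤ n → n ≤ Fintype.card F - 1 → ¬ p ∣ b.choose n →
        m (Dm ι ρ n v) = γ n := by
  obtain ⟨hb, φ, hφ⟩ := hV
  have hp : p.Prime := Fact.out
  have hq := one_lt (F := F)
  obtain ⟨Q, hQ⟩ : ∃ Q, Q = Fintype.card F - 1 := ⟨_, rfl⟩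
  have hb' : b ≤ Q := by omega
  have hs1 := neg_one_pow_Q ι
  have hcard : (Fintype.card Fˣ : k) = -1 := by
    rw [Fintype.card_units]
    exact cast_Q p
  have hane : ∀ a : Fˣ, ι (a : F) ≠ 0 := fun a => (map_ne_zero ι).2 a.ne_zero
  -- the functional
  let δ : Vb ι b →ₗ[k] k := (LinearMap.proj ((1 : F), (0 : F))) ∘ₗ (Vb ι b).subtype
  obtain ⟨m', hm'⟩ := LinearMap.exists_extend (δ ∘ₗ (φ.symm : W →ₗ[k] Vb ι b))
  have hm'φ : ∀ f : Vb ι b, m' (φ f : E) = (f : F × F → k) (1, 0) := by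
    intro f
    have h1 := LinearMap.congr_fun hm' (φ f)
    have h2 : m' (φ f : E) = δ (φ.symm (φ f)) := h1
    rw [h2, LinearEquiv.symm_apply_apply]
    rfl
  have hφ' : ∀ g f, ρ g (φ f : E) = (φ (RB ι p hb g f) : E) := by
    intro g f
    rw [hφ]
    rfl
  let m : E →ₗ[k] k := -∑ a : Fˣ, ((ι (a : F))⁻¹ ^ b) • (m' ∘ₗ (ρ (h a) : E →ₗ[k] E))
  have hm_apply : ∀ x, m x = -∑ a : Fˣ, ((ι (a : F))⁻¹ ^ b) * m' (ρ (h a) x) := by
    intro x
    simp [m, LinearMap.sum_apply]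
  have hmφ : ∀ f : Vb ι b, m (φ f : E) = (f : F × F → k) (1, 0) := by
    intro f
    rw [hm_apply]
    have h1 : ∀ a : Fˣ, ((ι (a : F))⁻¹ ^ b) * m' (ρ (h a) (φ f : E)) = (f : F × F → k) (1, 0) := by
      intro a
      rw [hφ', hm'φ]
      have h2 : ((RB ι p hb (h a) f : Vb ι b) : F × F → k) (1, 0) = (f : F × F → k) ((a : F), 0) := by
        show fRep k F (h a) (f : F × F → k) (1, 0) = _
        rw [fRep_h, one_mul, zero_mul]
      rw [h2, eval_one ι f.2, ← mul_assoc, ← mul_pow, inv_mul_cancel₀ (hane a), one_pow, one_mul]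
    rw [Finset.sum_congr rfl fun a _ => h1 a, Finset.sum_const, Finset.card_univ, nsmul_eq_mul, hcard]
    ring
  have hmh : ∀ (a : Fˣ) x, m (ρ (h a) x) = ι (a : F) ^ b * m x := by
    intro a x
    rw [hm_apply, hm_apply, mul_neg, Finset.mul_sum]
    congr 1
    refine Fintype.sum_equiv (Equiv.mulRight a) _ _ fun c => ?_
    rw [apply_mul, ← h_mul]
    show _ = ι (a : F) ^ b * ((ι ((c * a : Fˣ) : F))⁻¹ ^ b * m' (ρ (h (c * a)) x))
    rw [← mul_assoc]
    congr 1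
    rw [Units.val_mul, map_mul, mul_inv, mul_pow, mul_comm ((ι (c : F))⁻¹ ^ b), ← mul_assoc, ← mul_pow,
      mul_inv_cancel₀ (hane a), one_pow, one_mul]
  -- the functionals `z_n`
  have hDφ : ∀ n (f : Vb ι b), ((Dm ι ρ n (φ f : E)) : E) = (φ (Dm ι (RB ι p hb) n f) : E) := by
    intro n f
    rw [Dm_apply, Dm_apply, map_neg, map_sum]
    push_cast
    congr 1
    refine Finset.sum_congr rfl fun t _ => ?_
    rw [map_smul, Submodule.coe_smul, hφ']
  have hDco : ∀ n (f : Vb ι b), ((Dm ι (RB ι p hb) n f : Vb ι b) : F × F → k) =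
      Dm ι (fRep k F) n (f : F × F → k) := by
    intro n f
    rw [Dm_apply, Dm_apply]
    push_cast
    rfl
  obtain ⟨e, he⟩ := Cfsg.Agent.H179.SLC.exists_coord ι p ι.injective hs1 hb
  have hzφ : ∀ (x : Bf k b → k) (n : ℕ), 1 ≤ n → n ≤ Q → m (Dm ι ρ n (φ (e x) : E)) =
      if h : n ≤ b ∧ b - n ∈ Bf k b then x ⟨b - n, h.2⟩ else 0 := by
    intro x n hn hn'
    rw [hDφ, hmφ, hDco, he, Dm_eval ι hb x hn (by omega)]
  have hBf : ∀ n ≤ b, (b - n ∈ Bf k b ↔ ¬ p ∣ b.choose n) := by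
    intro n hn
    rw [mem_Bf]
    unfold Bb
    rw [Set.mem_ofPred_eq, Nat.choose_symm hn, Ne, CharP.cast_eq_zero_iff k p]
    exact ⟨fun h => h.2, fun h => ⟨Nat.sub_le _ _, h⟩⟩
  have hz0 : ∀ n, 1 ≤ n → n ≤ Q → p ∣ b.choose n → ∀ y ∈ W, m (Dm ι ρ n y) = 0 := by
    intro n hn hn' hl y hy
    obtain ⟨f, hf⟩ := φ.surjective ⟨y, hy⟩
    obtain ⟨x, rfl⟩ := e.surjective f
    have h1 : y = (φ (e x) : E) := by rw [hf]
    rw [h1, hzφ x n hn hn', dif_neg]
    rintro ⟨h2, h3⟩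
    exact (hBf n h2).1 h3 hl
  have hbB : b ∈ Bf k b := by
    rw [mem_Bf]
    exact ⟨le_rfl, by rw [Nat.choose_self, Nat.cast_one]; exact one_ne_zero⟩
  have hcoef : ∀ y : Bf k b → k, m (φ (e y) : E) = y ⟨b, hbB⟩ := by
    intro y
    rw [hmφ, he, Finset.sum_apply, Finset.sum_eq_single (⟨b, hbB⟩ : Bf k b)]
    · show y _ * mon ι b b (1, 0) = _
      rw [mon_self, map_one, one_pow, mul_one]
    · intro j _ hj
      show y _ * mon ι b j (1, 0) = 0
      have h1 := (mem_Bf.1 j.2).1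
      have h2 : (j : ℕ) ≠ b := fun h => hj (Subtype.ext h)
      unfold mon
      rw [map_zero, zero_pow (show b - (j : ℕ) ≠ 0 by omega)]
      ring
    · intro h
      exact absurd (Finset.mem_univ _) h
  refine ⟨m, hmh, fun n h1 h2 => hz0 n h1 (by omega), ?_, fun γ => ?_⟩
  · intro y hy h1 h2
    obtain ⟨f, hf⟩ := φ.surjective ⟨y, hy⟩
    obtain ⟨c, rfl⟩ := e.surjective f
    have h4 : y = (φ (e c) : E) := by rw [hf]
    have h5 : c = 0 := by
      funext j
      have hj := (mem_Bf.1 j.2).1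
      by_cases hjb : (j : ℕ) = b
      · have h6 := hcoef c
        rw [← h4, h1] at h6
        have h7 : j = ⟨b, hbB⟩ := Subtype.ext hjb
        rw [h7, ← h6]
        rfl
      · have h6 := h2 (b - j) (by omega) (by omega)
        rw [h4, hzφ c _ (by omega) (by omega), dif_pos ⟨Nat.sub_le _ _, by
          rw [show b - (b - (j : ℕ)) = j by omega]; exact j.2⟩] at h6
        have h7 : (⟨b - (b - (j : ℕ)), by rw [show b - (b - (j : ℕ)) = j by omega]; exact j.2⟩ : Bf k b) = j :=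
          Subtype.ext (show b - (b - (j : ℕ)) = j by omega)
        rw [h7] at h6
        exact h6
    rw [h4, h5, map_zero, map_zero]
    rfl
  · refine ⟨(φ (e fun j => γ (b - j)) : E), (φ _).2, ?_, fun n hn hn' hl => ?_⟩
    · rw [hcoef]
      show γ (b - b) = γ 0
      rw [Nat.sub_self]
    · have hnb : n ≤ b := by
        by_contra hc
        rw [Nat.choose_eq_zero_of_lt (by omega)] at hl
        exact hl (dvd_zero p)
      rw [hzφ _ n hn (by omega), dif_pos ⟨hnb, (hBf n hnb).2 hl⟩]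
      show γ (b - (b - n)) = γ n
      rw [show b - (b - n) = n by omega]

include p in
/-- averaging over the torus -/
theorem exists_tavg {c : ℕ} {x : E} (hh : ∀ a : Fˣ, ρ (h a) x - ι (a : F) ^ c • x ∈ W) :
    ∃ x₀, x₀ - x ∈ W ∧ ∀ a : Fˣ, ρ (h a) x₀ = ι (a : F) ^ c • x₀ := by
  have hane : ∀ a : Fˣ, ι (a : F) ≠ 0 := fun a => (map_ne_zero ι).2 a.ne_zero
  have hcard : (Fintype.card Fˣ : k) = -1 := by
    rw [Fintype.card_units]
    exact cast_Q p
  refine ⟨-∑ a : Fˣ, ((ι (a : F))⁻¹ ^ c) • ρ (h a) x, ?_, fun a => ?_⟩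
  · have h1 : -∑ a : Fˣ, ((ι (a : F))⁻¹ ^ c) • ρ (h a) x - x =
        -∑ a : Fˣ, ((ι (a : F))⁻¹ ^ c) • (ρ (h a) x - ι (a : F) ^ c • x) := by
      have h2 : ∀ a : Fˣ, ((ι (a : F))⁻¹ ^ c) • (ρ (h a) x - ι (a : F) ^ c • x) =
          ((ι (a : F))⁻¹ ^ c) • ρ (h a) x - x := by
        intro a
        rw [smul_sub, smul_smul, ← mul_pow, inv_mul_cancel₀ (hane a), one_pow, one_smul]
      rw [Finset.sum_congr rfl fun a _ => h2 a, Finset.sum_sub_distrib, Finset.sum_const, Finset.card_univ,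
        ← Nat.cast_smul_eq_nsmul k, hcard, neg_one_smul]
      abel
    rw [h1]
    exact W.neg_mem (sum_mem fun a _ => W.smul_mem _ (hh a))
  · rw [map_neg, map_sum, smul_neg, Finset.smul_sum]
    congr 1
    refine Fintype.sum_equiv (Equiv.mulLeft a) _ _ fun b => ?_
    rw [map_smul, apply_mul, ← h_mul, smul_smul]
    show _ = (ι (a : F) ^ c * (ι ((a * b : Fˣ) : F))⁻¹ ^ c) • ρ (h (a * b)) x
    congr 1
    rw [Units.val_mul, map_mul, mul_inv, mul_pow, ← mul_assoc, ← mul_pow, mul_inv_cancel₀ (hane a), one_pow, one_mul]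

/-- elements which are fixed by `U` modulo `W` -/
theorem Dm_mem' {x : E} (hu : ∀ t : F, ρ (u t) x - x ∈ W) {m : ℕ} (hm : 1 ≤ m) : Dm ι ρ m x ∈ W := by
  have hq := one_lt (F := F)
  rw [Dm_apply, neg_mem_iff]
  have h1 : ∑ t : F, ι t ^ (Fintype.card F - 1 - m) • x = 0 := by
    rw [← Finset.sum_smul, psum ι (by omega), if_neg (by omega), zero_smul]
  have h2 : ∑ t : F, ι t ^ (Fintype.card F - 1 - m) • ρ (u t) x =
      ∑ t : F, ι t ^ (Fintype.card F - 1 - m) • (ρ (u t) x - x) := by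
    simp only [smul_sub, Finset.sum_sub_distrib]
    rw [h1, sub_zero]
  rw [h2]
  exact sum_mem fun t _ => W.smul_mem _ (hu t)

/-- equality of powers -/
theorem mod_of_pow {m n : ℕ} (h : ∀ a : Fˣ, ι (a : F) ^ m = ι (a : F) ^ n) :
    m % (Fintype.card F - 1) = n % (Fintype.card F - 1) := by
  have hq := one_lt (F := F)
  obtain ⟨lam, hlam⟩ := IsCyclic.exists_generator (α := Fˣ)
  have hprim := primitive ι ι.injective hlam
  have h3 := (hprim.isOfFinOrder (by omega)).pow_eq_pow_iff_modEq.1 (h lam)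
  rw [← hprim.eq_orderOf] at h3
  exact h3

include hW in
/-- **the lifting of a highest weight vector, one composition factor** -/
theorem lift_one {a : ℕ} (hF : Fintype.card F = p ^ a) {b : ℕ} (hV : IsV ι p (subRep ρ W hW) b) {c : ℕ}
    (hc : ∀ i < a, b / p ^ i % p + 1 < p → (c + 2 * en p b i) % (p ^ a - 1) ≠ b % (p ^ a - 1)) {x : E}
    (hu : ∀ t : F, ρ (u t) x - x ∈ W) (hh : ∀ a : Fˣ, ρ (h a) x - ι (a : F) ^ c • x ∈ W) :
    ∃ x', x' - x ∈ W ∧ (∀ t : F, ρ (u t) x' = x') ∧ ∀ a : Fˣ, ρ (h a) x' = ι (a : F) ^ c • x' := by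
  have hp : p.Prime := Fact.out
  have hq := one_lt (F := F)
  obtain ⟨Q, hQ⟩ : ∃ Q, Q = Fintype.card F - 1 := ⟨_, rfl⟩
  have hpa : p ^ a - 1 = Q := by omega
  have hane : ∀ a : Fˣ, ι (a : F) ≠ 0 := fun a => (map_ne_zero ι).2 a.ne_zero
  obtain ⟨m, hmh, hz0, hvan, hv⟩ := exists_m ι p ρ W hW hV
  obtain ⟨x₀, hx₀, hxh⟩ := exists_tavg ι p ρ W hh
  have hxu : ∀ t : F, ρ (u t) x₀ - x₀ ∈ W := by
    intro t
    have h1 : ρ (u t) x₀ - x₀ = ρ (u t) (x₀ - x) - (x₀ - x) + (ρ (u t) x - x) := by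
      rw [map_sub]
      abel
    rw [h1]
    exact W.add_mem (W.sub_mem (hW _ _ hx₀) hx₀) (hu t)
  have hDW : ∀ n, 1 ≤ n → Dm ι ρ n x₀ ∈ W := fun n hn => Dm_mem' ι ρ W hxu hn
  -- the weights
  have hwt : ∀ n, n ≤ Q → ∀ a : Fˣ, ι (a : F) ^ b * m (Dm ι ρ n x₀) = ι (a : F) ^ (2 * n + c) * m (Dm ι ρ n x₀) := by
    intro n hn a
    rw [← hmh, h_Dm ι ρ (by omega), hxh, map_smul, map_smul, map_smul, smul_eq_mul, smul_eq_mul, pow_add]
    ring
  have hzero : ∀ n, 1 ≤ n → n ≤ Q → p ∣ b.choose n → m (Dm ι ρ n x₀) = 0 := by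
    intro n hn hn' hl
    obtain ⟨i, hi, hlt, hd1, hd2⟩ := exists_digit hp (a := a) (b := b) (n := n) (by omega) hl
    have hle : en p b i ≤ n := by
      by_contra hc
      rw [Nat.choose_eq_zero_of_lt (by omega)] at hd1
      exact hd1 (dvd_zero p)
    have he1 : 1 ≤ en p b i := en_pos hp.pos
    rcases Nat.lt_or_ge (en p b i) n with hlt' | hge
    · have h1 := hz0 _ he1 (by omega) hd2 _ (hDW (n - en p b i) (by omega))
      rw [Dm_mul' ι ρ p hF he1 (by omega) (by omega), map_smul, smul_eq_mul,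
        show en p b i + (n - en p b i) = n by omega] at h1
      refine (mul_eq_zero.1 h1).resolve_left ?_
      rw [CharP.cast_eq_zero_iff k p]
      exact hd1
    · have hni : n = en p b i := by omega
      by_contra hne
      have h2 : ∀ a : Fˣ, ι (a : F) ^ (c + 2 * en p b i) = ι (a : F) ^ b := by
        intro a
        rw [← hni, add_comm]
        exact (mul_right_cancel₀ hne (hwt n hn' a)).symm
      have h3 := mod_of_pow ι h2
      rw [← hQ, ← hpa] at h3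
      exact hc i hi hlt h3
  -- the correction
  obtain ⟨v, hvW, hv0, hvn⟩ := hv (fun n => if n = 0 then 0 else m (Dm ι ρ n x₀))
  rw [if_pos rfl] at hv0
  have hvn' : ∀ n, 1 ≤ n → n ≤ Q → m (Dm ι ρ n v) = m (Dm ι ρ n x₀) := by
    intro n hn hn'
    by_cases hl : p ∣ b.choose n
    · rw [hz0 n hn (by omega) hl v hvW, hzero n hn hn' hl]
    · rw [hvn n hn (by omega) hl, if_neg (by omega)]
  have hDh : ∀ (a : Fˣ) (n : ℕ) (y : E), n ≤ Q → m (Dm ι ρ n (ρ (h a) y)) * ι (a : F) ^ (2 * n) = ι (a : F) ^ b * m (Dm ι ρ n y) := by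
    intro a n y hn
    rw [← hmh, h_Dm ι ρ (by omega), map_smul, smul_eq_mul, mul_comm]
  have hvh : ∀ a : Fˣ, ρ (h a) v = ι (a : F) ^ c • v := by
    intro a
    rw [← sub_eq_zero]
    refine hvan _ (W.sub_mem (hW _ _ hvW) (W.smul_mem _ hvW)) ?_ fun n hn hn' => ?_
    · rw [map_sub, hmh, map_smul, hv0, mul_zero, smul_zero, sub_zero]
    · have h1 := hDh a n v (by omega)
      rw [hvn' n hn (by omega), hwt n (by omega) a, pow_add] at h1
      have h2 : m (Dm ι ρ n (ρ (h a) v)) = ι (a : F) ^ c * m (Dm ι ρ n x₀) := by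
        have h3 : ι (a : F) ^ (2 * n) ≠ 0 := pow_ne_zero _ (hane a)
        apply mul_right_cancel₀ h3
        rw [h1]
        ring
      rw [map_sub, map_sub, h2, map_smul, map_smul, hvn' n hn (by omega), smul_eq_mul, sub_self]
  refine ⟨x₀ - v, ?_, fun t => ?_, fun a => ?_⟩
  · have : x₀ - v - x = (x₀ - x) - v := by abel
    rw [this]
    exact W.sub_mem hx₀ hvW
  · rw [← sub_eq_zero]
    have hx2 : ∀ n, 1 ≤ n → n ≤ Q → m (Dm ι ρ n (x₀ - v)) = 0 := by
      intro n hn hn'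
      rw [map_sub, map_sub, hvn' n hn hn', sub_self]
    have h1 : ρ (u t) (x₀ - v) - (x₀ - v) = ∑ j ∈ Finset.Icc 1 Q, ι t ^ j • Dm ι ρ j (x₀ - v) := by
      rw [u_eq ι ρ p t (x₀ - v), add_sub_cancel_left, hQ]
    have h2 : ρ (u t) (x₀ - v) - (x₀ - v) ∈ W := by
      have : ρ (u t) (x₀ - v) - (x₀ - v) = (ρ (u t) x₀ - x₀) - (ρ (u t) v - v) := by
        rw [map_sub]
        abel
      rw [this]
      exact W.sub_mem (hxu t) (W.sub_mem (hW _ _ hvW) hvW)
    refine hvan _ h2 ?_ ?_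
    · rw [h1, map_sum]
      refine Finset.sum_eq_zero fun j hj => ?_
      rw [Finset.mem_Icc] at hj
      rw [map_smul, hx2 j hj.1 hj.2, smul_zero]
    · intro n hn hn'
      rw [h1, map_sum, map_sum]
      refine Finset.sum_eq_zero fun j hj => ?_
      rw [Finset.mem_Icc] at hj
      rw [map_smul, map_smul]
      by_cases hnj : n + j ≤ Q
      · rw [Dm_mul' ι ρ p hF hn hj.1 (by omega), map_smul, hx2 _ (by omega) hnj, smul_zero, smul_zero]
      · rw [Dm_mul_zero ι ρ hn hj.1 (by omega) (by omega) (by omega), map_zero, smul_zero]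
  · rw [map_sub, hxh, hvh, smul_sub]

end Main

end Cfsg.Agent.R2.H28.SL2
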