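import Cfsg.Agent.R2.H28.SL2.Gen2

/-!
# Lifting of submodules (helper28)

`Lft p a c b` : arithmetic condition on `b`, `c`, which implies `Ext¹(V_c, V_b) = 0`;
`lift_irr` : `V_c ≤ V / W` lifts to `V` if `Lft p a c b` for all `b ∈ cf W`.
-/

set_option autoImplicit false
set_option linter.unusedSectionVars false

namespace Cfsg.Agent.R2.H28.SL2

open Matrix Cfsg.Agent.H943.SL2Rel Cfsg.Agent.H943.SL2Mod Cfsg.Agent.H943.RepAdd

universe u v w

/-- a submodule of a submodule -/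
theorem step {k : Type*} [Field k] {G : Type*} [Group G] {V : Type*} [AddCommGroup V] [Module k V]
    (ρ : Representation k G V) (W : Submodule k V) (hW : ∀ g, ∀ x ∈ W, ρ g x ∈ W) (W₀ : Submodule k W)
    (hW₀ : ∀ g, ∀ x ∈ W₀, subRep ρ W hW g x ∈ W₀) :
    ∃ (X : Submodule k V) (hX : ∀ g, ∀ x ∈ X, ρ g x ∈ X)
      (hW₁ : ∀ g, ∀ x ∈ W.map X.mkQ, quotRep ρ X hX g x ∈ W.map X.mkQ), X ≤ W ∧ (∀ x : W, (x : V) ∈ X ↔ x ∈ W₀) ∧
      Eqv (subRep (subRep ρ W hW) W₀ hW₀) (subRep ρ X hX) ∧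
      Eqv (quotRep (subRep ρ W hW) W₀ hW₀) (subRep (quotRep ρ X hX) (W.map X.mkQ) hW₁) := by
  obtain ⟨X, hXdef⟩ : ∃ X : Submodule k V, X = W₀.map W.subtype := ⟨_, rfl⟩
  have hE := eqv_map (subRep ρ W hW) ρ W.subtype (fun g x => rfl) W.injective_subtype W₀ hW₀
  rw [← hXdef] at hE
  obtain ⟨hX, e1, he1⟩ := hE
  have hXW : X ≤ W := by
    rw [hXdef]
    exact Submodule.map_subtype_le _ _
  have hW₁ : ∀ g, ∀ x ∈ W.map X.mkQ, quotRep ρ X hX g x ∈ W.map X.mkQ := by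
    rintro g _ ⟨x, hx, rfl⟩
    exact ⟨_, hW g x hx, rfl⟩
  have hXm : ∀ x : W, (x : V) ∈ X ↔ x ∈ W₀ := by
    intro x
    rw [hXdef]
    constructor
    · rintro ⟨y, hy, hxy⟩
      have : y = x := Subtype.ext hxy
      rwa [← this]
    · intro hx
      exact ⟨x, hx, rfl⟩
  obtain ⟨e2, he2, -⟩ := quot_iso (subRep ρ W hW) (subRep (quotRep ρ X hX) (W.map X.mkQ) hW₁)
    (LinearMap.codRestrict (W.map X.mkQ) (X.mkQ ∘ₗ W.subtype) fun x => ⟨x, x.2, rfl⟩) (fun g x => Subtype.ext rfl)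
    (by
      rintro ⟨_, x, hx, rfl⟩
      exact ⟨⟨x, hx⟩, rfl⟩) W₀ hW₀ (fun x => by
        rw [← hXm, ← Submodule.Quotient.mk_eq_zero X]
        constructor
        · intro h
          exact congrArg Subtype.val h
        · intro h
          exact Subtype.ext h)
  exact ⟨X, hX, hW₁, hXW, hXm, ⟨e1, he1⟩, e2, he2⟩

/-- the arithmetic condition -/
def Lft (p a c b : ℕ) : Prop :=
  (∀ i < a, b / p ^ i % p + 1 < p → (c + 2 * en p b i) % (p ^ a - 1) ≠ b % (p ^ a - 1)) ∧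
  (b + c) % (p ^ a - 1) ≠ 0 ∧
  ∀ i < a, c / p ^ i % p + 1 < p → ∀ m ≤ b, ¬ p ∣ b.choose m →
    (2 * m + c) % (p ^ a - 1) ≠ (b + 2 * en p c i) % (p ^ a - 1)

variable {k : Type u} [Field k] [DecidableEq k] {F : Type w} [Field F] [Fintype F] [DecidableEq F] (ι : F →+* k)
variable (p : ℕ) [Fact p.Prime] [CharP k p] [CharP F p] [IsAlgClosed k]

/-- **lifting of highest weight vectors** -/
theorem lift_hw' {a : ℕ} (hF : Fintype.card F = p ^ a) {c : ℕ} (n : ℕ) : ∀ {V : Type v} [AddCommGroup V] [Module k V]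
    {ρ : Representation k (SpecialLinearGroup (Fin 2) F) V} (W : Submodule k V) (hW : ∀ g, ∀ x ∈ W, ρ g x ∈ W)
    {s : Multiset ℕ}, JHn (Sy.{u, v, w} ι p) n (subRep ρ W hW) s →
    (∀ b ∈ s, ∀ i < a, b / p ^ i % p + 1 < p → (c + 2 * en p b i) % (p ^ a - 1) ≠ b % (p ^ a - 1)) → ∀ x : V,
    (∀ t, ρ (u t) x - x ∈ W) → (∀ a, ρ (h a) x - ι a ^ c • x ∈ W) →
    ∃ x', x' - x ∈ W ∧ (∀ t, ρ (u t) x' = x') ∧ ∀ a, ρ (h a) x' = ι a ^ c • x' := by
  induction n with
  | zero =>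
    intro V _ _ ρ W hW s hs _ x hu hh
    have hW0 : W = ⊥ := Submodule.subsingleton_iff_eq_bot.1 hs.1
    subst hW0
    refine ⟨x, by rw [sub_self]; exact Submodule.zero_mem _, fun t => ?_, fun a => ?_⟩
    · exact sub_eq_zero.1 ((Submodule.mem_bot k).1 (hu t))
    · exact sub_eq_zero.1 ((Submodule.mem_bot k).1 (hh a))
  | succ n ih =>
    intro V _ _ ρ W hW s hs hc x hu hh
    obtain ⟨W₀, hW₀, b, t, hb, rfl, ht⟩ := hs
    obtain ⟨X, hX, hW₁, hXW, -, ⟨e1, he1⟩, he2⟩ := step ρ W hW W₀ hW₀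
    have hbX : IsV ι p (subRep ρ X hX) b := IsV.iso ι p e1 he1 hb
    obtain ⟨y, hy1, hy2, hy3⟩ := ih (W.map X.mkQ) hW₁ (JHn_iso _ he2 ht)
      (fun b' hb' => hc b' (Multiset.mem_cons_of_mem hb')) (X.mkQ x)
      (fun t => ⟨_, hu t, by rw [map_sub, quotRep_mk]⟩) (fun a => ⟨_, hh a, by rw [map_sub, quotRep_mk, map_smul]⟩)
    obtain ⟨x₁, rfl⟩ := X.mkQ_surjective y
    have hmem : ∀ z : V, X.mkQ z = 0 → z ∈ X := fun z hz => (Submodule.Quotient.mk_eq_zero X).1 hz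
    have h1 : x₁ - x ∈ W := by
      obtain ⟨z, hz, e⟩ := hy1
      have h2 : z - (x₁ - x) ∈ X := hmem _ (by rw [map_sub, e, map_sub, sub_self])
      have h3 : x₁ - x = z - (z - (x₁ - x)) := by abel
      rw [h3]
      exact W.sub_mem hz (hXW h2)
    obtain ⟨x', hx', hx'u, hx'h⟩ := lift_one ι p ρ X hX hF hbX (hc b (Multiset.mem_cons_self b t)) (x := x₁)
      (fun t => hmem _ (by rw [map_sub, ← quotRep_mk ρ X hX, hy2, sub_self]))
      (fun a => hmem _ (by rw [map_sub, ← quotRep_mk ρ X hX, hy3, map_smul, sub_self]))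
    refine ⟨x', ?_, hx'u, hx'h⟩
    have h4 : x' - x = (x' - x₁) + (x₁ - x) := by abel
    rw [h4]
    exact W.add_mem (hXW hx') h1

omit [DecidableEq k] [CharP F p] [IsAlgClosed k] [CharP k p] [Fact p.Prime] in
theorem SS_u {V : Type*} [AddCommGroup V] [Module k V] (ρ : Representation k (SpecialLinearGroup (Fin 2) F) V) (s : F)
    (x : V) : ρ (u s) (SS ρ x) = SS ρ x := by
  rw [SS_apply, map_sum]
  refine Fintype.sum_equiv (Equiv.addLeft s) _ _ fun t => ?_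
  rw [apply_mul, ← u_add]
  rfl

theorem inv_pow_eq (a : Fˣ) (c : ℕ) : ι ((a⁻¹ : Fˣ) : F) ^ c = ι (a : F) ^ ((Fintype.card F - 1 - 1) * c) := by
  have hq := one_lt (F := F)
  rw [pow_mul]
  congr 1
  rw [Units.val_inv_eq_inv_val, map_inv₀]
  apply inv_eq_of_mul_eq_one_left
  rw [← pow_succ, show Fintype.card F - 1 - 1 + 1 = Fintype.card F - 1 by omega]
  exact powQ ι a.ne_zero

theorem SS_h {V : Type*} [AddCommGroup V] [Module k V] (ρ : Representation k (SpecialLinearGroup (Fin 2) F) V) (a : Fˣ)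
    (x : V) : ρ (h a) (SS ρ x) = SS ρ (ρ (h a⁻¹) x) := by
  rw [SS_apply, SS_apply, map_sum]
  have ha : (a : F) ^ 2 ≠ 0 := pow_ne_zero _ a.ne_zero
  refine Fintype.sum_equiv (Equiv.mulLeft₀ ((a : F) ^ 2) ha) _ _ fun t => ?_
  rw [apply_mul3, h_u, mul_assoc, h_w, map_mul, map_mul]
  rfl

/-- **lifting of submodules** -/
theorem lift_irr {a : ℕ} (hF : Fintype.card F = p ^ a) {V : Type v} [AddCommGroup V] [Module k V]
    [FiniteDimensional k V] {ρ : Representation k (SpecialLinearGroup (Fin 2) F) V} (W : Submodule k V)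
    (hW : ∀ g, ∀ x ∈ W, ρ g x ∈ W) (Z : Submodule k (V ⧸ W)) (hZ : ∀ g, ∀ x ∈ Z, quotRep ρ W hW g x ∈ Z) {c : ℕ}
    (hc : IsV ι p (subRep (quotRep ρ W hW) Z hZ) c) (hL : ∀ b ∈ cf (Sy.{u, v, w} ι p) (subRep ρ W hW), Lft p a c b) :
    ∃ (X : Submodule k V) (hX : ∀ g, ∀ x ∈ X, ρ g x ∈ X), IsV ι p (subRep ρ X hX) c ∧ X.map W.mkQ = Z ∧ X ⊓ W = ⊥ := by
  have hp : p.Prime := Fact.out
  have hq := one_lt (F := F)
  obtain ⟨Q, hQ⟩ : ∃ Q, Q = Fintype.card F - 1 := ⟨_, rfl⟩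
  have hpa : p ^ a - 1 = Q := by omega
  have hmem : ∀ z : V, W.mkQ z = 0 → z ∈ W := fun z hz => (Submodule.Quotient.mk_eq_zero W).1 hz
  obtain ⟨m, hm0, hmu, hmh, hmS, hmD, hmf, -⟩ := hc.hw2
  obtain ⟨x₀, hx₀⟩ := W.mkQ_surjective (m : V ⧸ W)
  obtain ⟨n, hn⟩ := cf_spec (Sy.{u, v, w} ι p) (subRep ρ W hW)
  have hmu' : ∀ t, quotRep ρ W hW (u t) (m : V ⧸ W) = m := fun t => congrArg Subtype.val (hmu t)
  have hmh' : ∀ a, quotRep ρ W hW (h a) (m : V ⧸ W) = ι a ^ c • (m : V ⧸ W) := fun a => congrArg Subtype.val (hmh a)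
  obtain ⟨x, hx, hxu, hxh⟩ := lift_hw' ι p hF n W hW hn (fun b hb => (hL b hb).1) x₀
    (fun t => hmem _ (by rw [map_sub, ← quotRep_mk ρ W hW, hx₀, hmu', sub_self]))
    (fun a => hmem _ (by rw [map_sub, ← quotRep_mk ρ W hW, hx₀, hmh', map_smul, hx₀, sub_self]))
  have hxm : W.mkQ x = (m : V ⧸ W) := by
    have h1 : W.mkQ (x - x₀) = 0 := (Submodule.Quotient.mk_eq_zero W).2 hx
    rw [map_sub, sub_eq_zero] at h1
    rw [h1, hx₀]
  have hwx : ∀ a, ρ (h a) (ρ w x) = ι (a : F) ^ ((Fintype.card F - 1 - 1) * c) • ρ w x := by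
    intro a
    rw [apply_mul, h_w, ← apply_mul, hxh, map_smul, inv_pow_eq]
  have hcc : ((Fintype.card F - 1 - 1) * c + c) % Q = 0 := by
    have h1 : (Fintype.card F - 1 - 1) * c + c = Q * c := by
      rw [← Nat.succ_mul]
      congr 1
      omega
    rw [h1, Nat.mul_mod_right]
  -- the second condition
  have hS : SS ρ x = cb k F c • x := by
    rw [← sub_eq_zero]
    by_contra hne
    have h1 : SS ρ x - cb k F c • x ∈ W := by
      apply hmem
      rw [map_sub, map_smul, hxm, sub_eq_zero, SS_apply, map_sum]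
      have h2 := congrArg (Submodule.subtype Z) hmS
      rw [SS_apply, map_sum] at h2
      have h3 : ∀ t : F, W.mkQ (ρ (u t) (ρ w x)) = quotRep ρ W hW (u t) (quotRep ρ W hW w (m : V ⧸ W)) := by
        intro t
        rw [← quotRep_mk ρ W hW, ← quotRep_mk ρ W hW, hxm]
      rw [Finset.sum_congr rfl fun t _ => h3 t]
      exact h2
    obtain ⟨b, hb, hbe⟩ := mem_cf_of_hw (V := W) ι p (ρ := subRep ρ W hW) (e := (Fintype.card F - 1 - 1) * c)
      (x := ⟨_, h1⟩) (fun h0 => hne (congrArg Subtype.val h0)) (fun t => Subtype.ext (by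
        show ρ (u t) (SS ρ x - cb k F c • x) = SS ρ x - cb k F c • x
        rw [map_sub, map_smul, SS_u, hxu])) (fun a => Subtype.ext (by
        show ρ (h a) (SS ρ x - cb k F c • x) = ι a ^ ((Fintype.card F - 1 - 1) * c) • (SS ρ x - cb k F c • x)
        rw [map_sub, map_smul, SS_h, hxh, map_smul, inv_pow_eq, hxh, smul_sub]
        congr 1
        unfold cb
        by_cases hcq : c < Fintype.card F - 1
        · rw [if_pos hcq, zero_smul, zero_smul, smul_zero]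
        · rw [if_neg hcq, smul_comm]
          have hcQ : c = Fintype.card F - 1 := by
            have := hc.choose
            omega
          have e1 : ι (a : F) ^ c = 1 := by
            rw [hcQ]
            exact powQ ι a.ne_zero
          have e2 : ι (a : F) ^ ((Fintype.card F - 1 - 1) * c) = 1 := by
            rw [mul_comm, pow_mul, e1, one_pow]
          rw [e1, e2]))
    apply (hL b hb).2.1
    rw [hpa, Nat.add_mod, hQ, hbe, ← Nat.add_mod]
    rw [hQ] at hcc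
    exact hcc
  -- the third condition
  have hD : ∀ i < a, c / p ^ i % p + 1 < p → Dm ι ρ (en p c i) (ρ w x) = 0 := by
    intro i hi hlt
    by_contra hne
    have he1 : 1 ≤ en p c i := en_pos hp.pos
    have he2 : en p c i ≤ Fintype.card F - 1 := by
      rw [hF]
      exact en_le hp.pos hi hlt
    have h1 : Dm ι ρ (en p c i) (ρ w x) ∈ W := by
      apply hmem
      rw [Dm_comm ι ρ (quotRep ρ W hW) W.mkQ (fun g y => (quotRep_mk ρ W hW g y).symm)]
      have h2 := Dm_comm ι (subRep (quotRep ρ W hW) Z hZ) (quotRep ρ W hW) Z.subtype (fun g y => rfl) (en p c i)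
        (subRep (quotRep ρ W hW) Z hZ w m)
      rw [hmD _ he1 he2 (dvd_choose_en hp hlt), map_zero] at h2
      rw [← quotRep_mk ρ W hW, hxm]
      exact h2.symm
    obtain ⟨b, hb, j, hj, hj1, hj2⟩ := wt_cf (V := W) ι p hF (ρ := subRep ρ W hW)
      (e := 2 * en p c i + (Fintype.card F - 1 - 1) * c)
      (x := ⟨_, h1⟩) (fun h0 => hne (congrArg Subtype.val h0)) (fun a => Subtype.ext (by
        show ρ (h a) (Dm ι ρ (en p c i) (ρ w x)) = ι a ^ (2 * en p c i + (Fintype.card F - 1 - 1) * c) •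
          Dm ι ρ (en p c i) (ρ w x)
        rw [h_Dm ι ρ he2, hwx, map_smul, smul_smul, pow_add]))
    apply (hL b hb).2.2 i hi hlt j hj hj1
    rw [hpa]
    have h3 : (2 * j + c) % Q = (b + (2 * en p c i + (Fintype.card F - 1 - 1) * c) + c) % Q := by
      rw [Nat.add_mod, hQ, hj2, ← Nat.add_mod]
    rw [h3, show b + (2 * en p c i + (Fintype.card F - 1 - 1) * c) + c =
      (b + 2 * en p c i) + ((Fintype.card F - 1 - 1) * c + c) by ring, Nat.add_mod, hcc, Nat.add_zero, Nat.mod_mod]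
  obtain ⟨f, hf, hfm⟩ := gen_hw ι p ρ hF hc hm0 hmu hxu hxh hS hD
  have hirr := hc.irr
  -- the section
  have hsec : ∀ z : Z, W.mkQ (f z) = (z : V ⧸ W) := by
    have h1 := hirr.2 (LinearMap.eqLocus (W.mkQ ∘ₗ f) Z.subtype) (by
      intro g z hz
      rw [LinearMap.mem_eqLocus] at hz ⊢
      have hz' : W.mkQ (f z) = (z : V ⧸ W) := hz
      show W.mkQ (f (subRep (quotRep ρ W hW) Z hZ g z)) = quotRep ρ W hW g (z : V ⧸ W)
      rw [hf, ← hz', quotRep_mk])
    rcases h1 with h1 | h1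
    · exfalso
      have h2 : m ∈ LinearMap.eqLocus (W.mkQ ∘ₗ f) Z.subtype := by
        rw [LinearMap.mem_eqLocus]
        show W.mkQ (f m) = m
        rw [hfm, hxm]
      rw [h1, Submodule.mem_bot] at h2
      exact hm0 h2
    · intro z
      have h2 : z ∈ LinearMap.eqLocus (W.mkQ ∘ₗ f) Z.subtype := by rw [h1]; trivial
      exact h2
  have hfi : Function.Injective f := by
    intro y z hyz
    apply Subtype.ext
    rw [← hsec y, hyz, hsec z]
  have hX : ∀ g, ∀ x ∈ LinearMap.range f, ρ g x ∈ LinearMap.range f := by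
    rintro g _ ⟨y, rfl⟩
    exact ⟨_, hf g y⟩
  refine ⟨LinearMap.range f, hX, IsV.iso ι p (LinearEquiv.ofInjective f hfi) (fun g y => Subtype.ext (hf g y)) hc, ?_, ?_⟩
  · ext z
    constructor
    · rintro ⟨_, ⟨y, rfl⟩, rfl⟩
      rw [hsec]
      exact y.2
    · intro hz
      exact ⟨f ⟨z, hz⟩, ⟨_, rfl⟩, hsec ⟨z, hz⟩⟩
  · rw [eq_bot_iff]
    rintro _ ⟨⟨y, rfl⟩, hy⟩
    have h1 : (y : V ⧸ W) = 0 := by
      rw [← hsec y]
      exact (Submodule.Quotient.mk_eq_zero W).2 hy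
    have h2 : y = 0 := Subtype.ext h1
    rw [Submodule.mem_bot, h2, map_zero]

end Cfsg.Agent.R2.H28.SL2
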