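import Cfsg.Agent.H943.SL2Fun

/-!
# The operators `D_m` for representations of `SL(2, q)` in the defining characteristic (helper28)

`ρ (u t) = 1 + ∑_{m = 1}^{q - 1} t ^ m D_m`, `D_m = -∑ t ^ (q - 1 - m) ρ (u t)`. General version of
`H525/E8L/Ops.lean` (helper525: `q = 81`).
-/

set_option autoImplicit false
set_option linter.unusedSectionVars false

namespace Cfsg.Agent.R2.H28.SL2

open Matrix Cfsg.Agent.H943.SL2Rel Cfsg.Agent.H943.SL2Mod Cfsg.Agent.H943.RepAdd

variable {k : Type*} [Field k] {F : Type*} [Field F] [Fintype F] [DecidableEq F] (ι : F →+* k)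

section Sums

theorem one_lt : 1 < Fintype.card F := Fintype.one_lt_card

/-- the power sums -/
theorem psum {e : ℕ} (he : e < 2 * (Fintype.card F - 1)) :
    ∑ t : F, ι t ^ e = if e = Fintype.card F - 1 then -1 else 0 := by
  classical
  split_ifs with h
  · have := power_sum_eq ι (k := k) (F := F)
    rw [h]
    exact this
  · by_contra hne
    have hq := one_lt (F := F)
    rcases power_sum_ne ι (e := e) (by omega) hne with h1 | h1 <;> omega

theorem powQ {t : F} (ht : t ≠ 0) : ι t ^ (Fintype.card F - 1) = 1 := by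
  rw [← map_pow, FiniteField.pow_card_sub_one_eq_one t ht, map_one]

theorem powq (t : F) : ι t ^ (Fintype.card F) = ι t := by
  rw [← map_pow, FiniteField.pow_card]

variable (p : ℕ) [Fact p.Prime] [CharP k p] [CharP F p]

include p in
theorem cast_Q : ((Fintype.card F - 1 : ℕ) : k) = -1 := by
  rw [Nat.cast_sub (one_lt (F := F)).le, card_zero (k := k) (F := F) p, Nat.cast_one, zero_sub]

include p in
/-- the kernel of the interpolation -/
theorem gsum {t s : F} (ht : t ≠ 0) :
    ∑ m ∈ Finset.Icc 1 (Fintype.card F - 1), ι t ^ m * ι s ^ (Fintype.card F - 1 - m) =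
    (if s = 0 then 1 else 0) - (if s = t then 1 else 0) := by
  have hq := one_lt (F := F)
  obtain ⟨Q, hQ⟩ : ∃ Q, Q = Fintype.card F - 1 := ⟨_, rfl⟩
  have hQ0 : 0 < Q := by omega
  have hcq : Fintype.card F = Q + 1 := by omega
  rw [← hQ]
  have h0 : ∑ m ∈ Finset.range (Q + 1), ι t ^ m * ι s ^ (Q + 1 - 1 - m) =
      ι s ^ Q + ∑ m ∈ Finset.Icc 1 Q, ι t ^ m * ι s ^ (Q - m) := by
    rw [Finset.range_eq_Ico, Finset.sum_eq_sum_Ico_succ_bot (by omega)]
    rw [pow_zero, one_mul]
    congr 1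
  by_cases hst : s = t
  · subst hst
    rw [if_neg ht, if_pos rfl]
    have h1 : ∀ m ∈ Finset.Icc 1 Q, ι s ^ m * ι s ^ (Q - m) = 1 := by
      intro m hm
      rw [Finset.mem_Icc] at hm
      rw [← pow_add, show m + (Q - m) = Q by omega, hQ, powQ ι ht]
    rw [Finset.sum_congr rfl h1, Finset.sum_const, Nat.card_Icc, nsmul_eq_mul, mul_one,
      show Q + 1 - 1 = Fintype.card F - 1 by omega, cast_Q p]
    ring
  · rw [if_neg hst, sub_zero]
    have h1 := geom_sum₂_mul (ι t) (ι s) (Q + 1)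
    have h81 : ∀ x : F, ι x ^ (Q + 1) = ι x := fun x => by rw [← hcq]; exact powq ι x
    rw [h0, h81, h81] at h1
    have h2 : ι t - ι s ≠ 0 := sub_ne_zero.2 fun h => hst (ι.injective h).symm
    have h3 : ι s ^ Q + ∑ m ∈ Finset.Icc 1 Q, ι t ^ m * ι s ^ (Q - m) = 1 :=
      mul_right_cancel₀ h2 (by rw [h1, one_mul])
    by_cases hs : s = 0
    · rw [if_pos hs]
      rw [hs, map_zero, zero_pow (by omega), zero_add] at h3
      rw [hs, map_zero]
      exact h3
    · rw [if_neg hs]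
      rw [hQ, powQ ι hs, ← hQ] at h3
      linear_combination h3

end Sums

variable {V : Type*} [AddCommGroup V] [Module k V] (ρ : Representation k (SpecialLinearGroup (Fin 2) F) V)

/-- the coefficient of `t ^ m` in `ρ (u t)`, for `1 ≤ m ≤ q - 1` -/
def Dm (m : ℕ) : V →ₗ[k] V := -∑ t : F, ι t ^ (Fintype.card F - 1 - m) • ρ (u t)

theorem Dm_apply (m : ℕ) (x : V) : Dm ι ρ m x = -∑ t : F, ι t ^ (Fintype.card F - 1 - m) • ρ (u t) x := by
  simp [Dm, LinearMap.sum_apply]

/-- the torus -/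
theorem h_Dm {m : ℕ} (hm : m ≤ Fintype.card F - 1) (a : Fˣ) (x : V) :
    ρ (h a) (Dm ι ρ m x) = ι a ^ (2 * m) • Dm ι ρ m (ρ (h a) x) := by
  rw [Dm_apply, Dm_apply, map_neg, map_sum, smul_neg, Finset.smul_sum]
  congr 1
  have ha : (a : F) ^ 2 ≠ 0 := pow_ne_zero _ a.ne_zero
  refine Fintype.sum_equiv (Equiv.mulLeft₀ ((a : F) ^ 2) ha) _ _ fun t => ?_
  rw [map_smul, apply_mul, h_u, map_mul]
  show ι t ^ (Fintype.card F - 1 - m) • ρ (u ((a : F) ^ 2 * t)) (ρ (h a) x) =
    ι a ^ (2 * m) • (ι ((a : F) ^ 2 * t) ^ (Fintype.card F - 1 - m) • ρ (u ((a : F) ^ 2 * t)) (ρ (h a) x))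
  rw [smul_smul]
  congr 1
  rw [map_mul, mul_pow, map_pow, ← pow_mul, ← mul_assoc, ← pow_add,
    show 2 * m + 2 * (Fintype.card F - 1 - m) = (Fintype.card F - 1) * 2 by omega, pow_mul,
    powQ ι a.ne_zero, one_pow, one_mul]

/-- an invariant subspace with trivial quotient contains the images of the `D_m` -/
theorem Dm_mem {W : Submodule k V} (hW : ∀ g x, ρ g x - x ∈ W) {m : ℕ} (hm : 1 ≤ m) (x : V) :
    Dm ι ρ m x ∈ W := by
  have hq := one_lt (F := F)
  rw [Dm_apply, neg_mem_iff]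
  have h1 : ∑ t : F, ι t ^ (Fintype.card F - 1 - m) • x = 0 := by
    rw [← Finset.sum_smul, psum ι (by omega), if_neg (by omega), zero_smul]
  have h2 : ∑ t : F, ι t ^ (Fintype.card F - 1 - m) • ρ (u t) x =
      ∑ t : F, ι t ^ (Fintype.card F - 1 - m) • (ρ (u t) x - x) := by
    simp only [smul_sub, Finset.sum_sub_distrib]
    rw [h1, sub_zero]
  rw [h2]
  exact sum_mem fun t _ => W.smul_mem _ (hW _ _)

/-- invariant subspaces -/
theorem Dm_mem_inv {W : Submodule k V} (hW : ∀ g, ∀ x ∈ W, ρ g x ∈ W) (m : ℕ) {x : V} (hx : x ∈ W) :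
    Dm ι ρ m x ∈ W := by
  rw [Dm_apply, neg_mem_iff]
  exact sum_mem fun t _ => W.smul_mem _ (hW _ _ hx)

/-- equivariant maps -/
theorem Dm_comm {V' : Type*} [AddCommGroup V'] [Module k V'] (ρ' : Representation k (SpecialLinearGroup (Fin 2) F) V')
    (f : V →ₗ[k] V') (hf : ∀ g x, f (ρ g x) = ρ' g (f x)) (m : ℕ) (x : V) : f (Dm ι ρ m x) = Dm ι ρ' m (f x) := by
  rw [Dm_apply, Dm_apply, map_neg, map_sum]
  congr 1
  exact Finset.sum_congr rfl fun t _ => by rw [map_smul, hf]

section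

variable (p : ℕ) [Fact p.Prime] [CharP k p] [CharP F p]

include p in
/-- **interpolation** -/
theorem u_eq (t : F) (x : V) :
    ρ (u t) x = x + ∑ m ∈ Finset.Icc 1 (Fintype.card F - 1), ι t ^ m • Dm ι ρ m x := by
  by_cases ht : t = 0
  · subst ht
    rw [u_zero, map_one, Module.End.one_apply, Finset.sum_eq_zero, add_zero]
    intro m hm
    rw [Finset.mem_Icc] at hm
    rw [map_zero, zero_pow (by omega), zero_smul]
  · have h1 : ∑ m ∈ Finset.Icc 1 (Fintype.card F - 1), ι t ^ m • Dm ι ρ m x =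
        -∑ s : F, (∑ m ∈ Finset.Icc 1 (Fintype.card F - 1), ι t ^ m * ι s ^ (Fintype.card F - 1 - m)) •
          ρ (u s) x := by
      have h2 : ∀ m ∈ Finset.Icc 1 (Fintype.card F - 1), ι t ^ m • Dm ι ρ m x =
          -∑ s : F, (ι t ^ m * ι s ^ (Fintype.card F - 1 - m)) • ρ (u s) x := by
        intro m _
        rw [Dm_apply, smul_neg, Finset.smul_sum]
        congr 1
        exact Finset.sum_congr rfl fun s _ => smul_smul _ _ _
      rw [Finset.sum_congr rfl h2, Finset.sum_neg_distrib, Finset.sum_comm]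
      congr 1
      exact Finset.sum_congr rfl fun s _ => (Finset.sum_smul).symm
    rw [h1, Finset.sum_congr rfl fun s _ => by rw [gsum ι p ht]]
    simp only [sub_smul, Finset.sum_sub_distrib, ite_smul, one_smul, zero_smul, Finset.sum_ite_eq', Finset.mem_univ,
      if_true]
    rw [u_zero, map_one, Module.End.one_apply]
    abel

/-- the products -/
theorem Dm_mul {m n : ℕ} (hm : 1 ≤ m) (hn : 1 ≤ n) (hn' : n ≤ Fintype.card F - 1) (hm' : m ≤ Fintype.card F - 1)
    (x : V) :
    Dm ι ρ m (Dm ι ρ n x) = ((-1) ^ m * ((Fintype.card F - 1 - n).choose m : k)) • Dm ι ρ (m + n) x := by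
  have hq := one_lt (F := F)
  obtain ⟨Q, hQ⟩ : ∃ Q, Q = Fintype.card F - 1 := ⟨_, rfl⟩
  rw [Dm_apply, Dm_apply]
  rw [← hQ] at hn' hm' ⊢
  have h1 : ∀ s : F, ι s ^ (Q - m) • ρ (u s) (-∑ t : F, ι t ^ (Q - n) • ρ (u t) x) =
      -∑ r : F, (ι s ^ (Q - m) * (ι r - ι s) ^ (Q - n)) • ρ (u r) x := by
    intro s
    rw [map_neg, smul_neg, map_sum, Finset.smul_sum]
    congr 1
    refine Fintype.sum_equiv (Equiv.addLeft s) _ _ fun t => ?_
    rw [map_smul, smul_smul, apply_mul, ← u_add]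
    show _ = (ι s ^ (Q - m) * (ι (s + t) - ι s) ^ (Q - n)) • ρ (u (s + t)) x
    rw [map_add, add_sub_cancel_left]
  have h2 : ∀ r : F, ∑ s : F, ι s ^ (Q - m) * (ι r - ι s) ^ (Q - n) =
      -((-1) ^ m * ((Q - n).choose m : k)) * ι r ^ (Q - (m + n)) := by
    intro r
    have h3 : ∀ s : F, ι s ^ (Q - m) * (ι r - ι s) ^ (Q - n) =
        ∑ j ∈ Finset.range (Q - n + 1), ((-1) ^ j * ι r ^ (Q - n - j) * ((Q - n).choose j : k)) *
          ι s ^ (Q - m + j) := by
      intro s
      rw [sub_eq_neg_add, add_pow, Finset.mul_sum]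
      refine Finset.sum_congr rfl fun j _ => ?_
      rw [neg_pow, pow_add]
      ring
    rw [Finset.sum_congr rfl fun s _ => h3 s, Finset.sum_comm]
    have h4 : ∀ j ∈ Finset.range (Q - n + 1), ∑ s : F, ((-1) ^ j * ι r ^ (Q - n - j) * ((Q - n).choose j : k)) *
          ι s ^ (Q - m + j) = if j = m then -((-1) ^ m * ι r ^ (Q - n - m) * ((Q - n).choose m : k)) else 0 := by
      intro j hj
      rw [Finset.mem_range] at hj
      rw [← Finset.mul_sum, psum ι (by omega)]
      by_cases hjm : j = m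
      · rw [if_pos hjm, if_pos (by omega), hjm]
        ring
      · rw [if_neg hjm, if_neg (by omega), mul_zero]
    rw [Finset.sum_congr rfl h4, Finset.sum_ite_eq' ]
    by_cases hmn : m ∈ Finset.range (Q - n + 1)
    · rw [if_pos hmn, show Q - n - m = Q - (m + n) by omega]
      ring
    · rw [if_neg hmn, Nat.choose_eq_zero_of_lt (by rw [Finset.mem_range] at hmn; omega)]
      simp
  rw [Finset.sum_congr rfl fun s _ => h1 s, Finset.sum_neg_distrib, neg_neg, Finset.sum_comm, Dm_apply, smul_neg,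
    Finset.smul_sum, ← Finset.sum_neg_distrib, ← hQ]
  refine Finset.sum_congr rfl fun r _ => ?_
  rw [← Finset.sum_smul, h2, smul_smul, neg_mul, neg_smul]

end

/-- the action on the monomials -/
theorem Dm_mon {b n m : ℕ} (hb : b ≤ Fintype.card F - 1) (hn : n ≤ b)
    (hm : 1 ≤ m) (hm' : m ≤ Fintype.card F - 1) :
    Dm ι (fRep k F) m (mon ι b n) = ((b - n).choose m : k) • mon ι b (n + m) := by
  have hq := one_lt (F := F)
  have h0 : ∀ t : F, fRep k F (u t) (mon ι b n) =
      ∑ j ∈ Finset.range (b - n + 1), (((b - n).choose j : k) * ι t ^ j) • mon ι b (n + j) := by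
    intro t
    funext z
    rcases z with ⟨x, y⟩
    rw [fRep_u, Finset.sum_apply]
    show ι x ^ n * ι (x * t + y) ^ (b - n) = _
    rw [map_add, map_mul, add_pow, Finset.mul_sum]
    refine Finset.sum_congr rfl fun j hj => ?_
    show _ = (((b - n).choose j : k) * ι t ^ j) * (ι x ^ (n + j) * ι y ^ (b - (n + j)))
    rw [show b - (n + j) = b - n - j by omega, mul_pow, pow_add]
    ring
  rw [Dm_apply, Finset.sum_congr rfl fun t _ => by rw [h0 t, Finset.smul_sum], Finset.sum_comm, ← Finset.sum_neg_distrib]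
  have h1 : ∀ j ∈ Finset.range (b - n + 1),
      -∑ t : F, ι t ^ (Fintype.card F - 1 - m) • (((b - n).choose j : k) * ι t ^ j) • mon ι b (n + j) =
      if j = m then ((b - n).choose m : k) • mon ι b (n + m) else 0 := by
    intro j hj
    rw [Finset.mem_range] at hj
    have h2 : ∀ t : F, ι t ^ (Fintype.card F - 1 - m) • (((b - n).choose j : k) * ι t ^ j) • mon ι b (n + j) =
        (ι t ^ (Fintype.card F - 1 - m + j) * ((b - n).choose j : k)) • mon ι b (n + j) := by
      intro t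
      rw [smul_smul, pow_add]
      congr 1
      ring
    rw [Finset.sum_congr rfl fun t _ => h2 t, ← Finset.sum_smul, ← Finset.sum_mul, psum ι (by omega)]
    by_cases hjm : j = m
    · rw [if_pos hjm, if_pos (by omega), hjm, neg_one_mul, neg_smul, neg_neg]
    · rw [if_neg hjm, if_neg (by omega), zero_mul, zero_smul, neg_zero]
  rw [Finset.sum_congr rfl h1, Finset.sum_ite_eq']
  by_cases hmn : m ∈ Finset.range (b - n + 1)
  · rw [if_pos hmn]
  · rw [if_neg hmn, Nat.choose_eq_zero_of_lt (by rw [Finset.mem_range] at hmn; omega), Nat.cast_zero, zero_smul]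

end Cfsg.Agent.R2.H28.SL2
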