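import Cfsg.Agent.R2.H28.SL2.Extp

/-!
# Symmetric squares (helper28)

`soc_of_sq` : a nonzero symmetric equivariant bilinear map `X × X → V'` gives a factor of `S²X` in the socle of `V'`;
`sq_11`, `sq_22`, `sq_single`, ... : the factors of `S² V_b`.
-/

set_option autoImplicit false
set_option linter.unusedSectionVars false

namespace Cfsg.Agent.R2.H28.SL2

open Matrix Cfsg.Agent.H943.SL2Rel Cfsg.Agent.H943.SL2Mod Cfsg.Agent.H943.RepAdd
open scoped TensorProduct

universe u v w

section labels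

variable (k : Type*) [Field k] [DecidableEq k] (p : ℕ) [Fact p.Prime] [CharP k p]

theorem chB_small {n : ℕ} (hn : n < p) (z : ℂ) : chB k n z = chi n z := by
  have h := chB_mul k p 0 hn z
  rwa [mul_zero, zero_add, chB_zero, mul_one] at h

theorem chB_pow (b i : ℕ) (z : ℂ) : chB k (b * p ^ i) z = chB k b (z ^ p ^ i) := by
  have hp : p.Prime := Fact.out
  induction i generalizing z with
  | zero => rw [pow_zero, mul_one, pow_one]
  | succ i ih =>
    have h := chB_mul k p (b * p ^ i) hp.pos z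
    rw [add_zero, chi_zero, one_mul, ih] at h
    rw [show b * p ^ (i + 1) = p * (b * p ^ i) by ring, h, ← pow_mul, pow_succ, mul_comm (p ^ i)]

theorem chB_single {n : ℕ} (hn : n < p) (i : ℕ) (z : ℂ) : chB k (n * p ^ i) z = chi n (z ^ p ^ i) := by
  rw [chB_pow, chB_small k p hn]

theorem chB_pair {n m : ℕ} (hn : n < p) (hm : m < p) {i j : ℕ} (hij : i ≠ j) (z : ℂ) :
    chB k (n * p ^ i + m * p ^ j) z = chi n (z ^ p ^ i) * chi m (z ^ p ^ j) := by
  have key : ∀ {n m : ℕ}, n < p → m < p → ∀ i j, i < j →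
      chB k (n * p ^ i + m * p ^ j) z = chi n (z ^ p ^ i) * chi m (z ^ p ^ j) := by
    intro n m hn hm i j hij
    obtain ⟨d, rfl⟩ : ∃ d, j = i + (d + 1) := ⟨j - i - 1, by omega⟩
    have h1 : n * p ^ i + m * p ^ (i + (d + 1)) = (p * (m * p ^ d) + n) * p ^ i := by ring
    rw [h1, chB_pow, chB_mul k p _ hn, chB_single k p hm, ← pow_mul, ← pow_mul]
    congr 3
    ring
  rcases Nat.lt_or_gt_of_ne hij with h | h
  · exact key hn hm i j h
  · rw [add_comm, key hm hn j i h, mul_comm]

end labels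

/-- cyclic shift -/
theorem chi_wrap {p a : ℕ} (hq : 2 ≤ p ^ a) (n : ℕ) {i : ℕ} (hi : i < a) {z : ℂ} (hz : Zs (p ^ a) z) :
    chi n ((z ^ p ^ i) ^ p) = chi n (z ^ p ^ ((i + 1) % a)) := by
  rw [← pow_mul, ← pow_succ]
  rcases Nat.lt_or_ge (i + 1) a with h | h
  · rw [Nat.mod_eq_of_lt h]
  · have h1 : i + 1 = a := by omega
    rw [h1, Nat.mod_self, pow_zero, pow_one, chi_frob hq hz]

variable {k : Type u} [Field k] [DecidableEq k] {F : Type w} [Field F] [Fintype F] [DecidableEq F] (ι : F →+* k)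
variable (p : ℕ) [Fact p.Prime] [CharP k p] [CharP F p]

variable [IsAlgClosed k] {a : ℕ}

/-- socles are nonzero -/
theorem exists_inSoc {V : Type v} [AddCommGroup V] [Module k V] [FiniteDimensional k V] [Nontrivial V]
    (ρ : Representation k (SpecialLinearGroup (Fin 2) F) V) : ∃ c, InSoc ι p ρ c := by
  obtain ⟨K, hK, hK0, hmin⟩ := exists_irr_sub ρ
  obtain ⟨c, hc⟩ := (Sy.{u, v, w} ι p).ex (subRep ρ K hK) (irr_of_min ρ hK hK0 hmin)
  exact ⟨c, K, hK, hc⟩

theorem InSoc.mem_cf {V : Type v} [AddCommGroup V] [Module k V] [FiniteDimensional k V]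
    {ρ : Representation k (SpecialLinearGroup (Fin 2) F) V} {c : ℕ} (h : InSoc ι p ρ c) : c ∈ cf (Sy.{u, v, w} ι p) ρ := by
  obtain ⟨X, hX, hc⟩ := h
  have h1 := cf_sub_le (Sy.{u, v, w} ι p) ρ X hX
  rw [cf_irr (Sy.{u, v, w} ι p) hc] at h1
  exact Multiset.mem_of_le h1 (Multiset.mem_singleton_self c)

/-- the socle of an invariant subspace -/
theorem exists_inSoc_sub {V : Type v} [AddCommGroup V] [Module k V] [FiniteDimensional k V]
    {ρ : Representation k (SpecialLinearGroup (Fin 2) F) V} {W : Submodule k V} (hW : ∀ g, ∀ x ∈ W, ρ g x ∈ W) (hW0 : W ≠ ⊥) :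
    ∃ c, InSoc ι p (subRep ρ W hW) c ∧ InSoc ι p ρ c := by
  have : Nontrivial W := Submodule.nontrivial_iff_ne_bot.2 hW0
  obtain ⟨c, hc⟩ := exists_inSoc ι p (subRep ρ W hW)
  exact ⟨c, hc, hc.iso ι p W.subtype (fun _ _ => rfl) W.injective_subtype⟩

/-- **symmetric equivariant maps** -/
theorem soc_of_sq {X : Type v} [AddCommGroup X] [Module k X] [FiniteDimensional k X]
    {σ : Representation k (SpecialLinearGroup (Fin 2) F) X} {V : Type v} [AddCommGroup V] [Module k V] [FiniteDimensional k V]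
    {ρ : Representation k (SpecialLinearGroup (Fin 2) F) V} (β : X →ₗ[k] X →ₗ[k] V) (hs : ∀ x y, β x y = β y x)
    (he : ∀ g x y, β (σ g x) (σ g y) = ρ g (β x y)) (h0 : β ≠ 0) :
    ∃ c, c ∈ cf (Sy.{u, v, w} ι p) (Sq σ) ∧ InSoc ι p ρ c := by
  have hA : Alt k X ≤ LinearMap.ker (TensorProduct.lift β) := by
    unfold Alt
    refine Submodule.span_le.2 ?_
    rintro _ ⟨x, y, rfl⟩
    show TensorProduct.lift β (x ⊗ₜ y - y ⊗ₜ x) = 0
    rw [map_sub, TensorProduct.lift.tmul, TensorProduct.lift.tmul, hs x y, sub_self]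
  let T : ((X ⊗[k] X) ⧸ Alt k X) →ₗ[k] V := (Alt k X).liftQ (TensorProduct.lift β) hA
  have hT : ∀ x y, T ((Alt k X).mkQ (x ⊗ₜ y)) = β x y := fun x y => TensorProduct.lift.tmul x y
  have hTe : ∀ g x, T (Sq σ g x) = ρ g (T x) := by
    intro g x
    obtain ⟨y, rfl⟩ := (Alt k X).mkQ_surjective x
    unfold Sq
    rw [quotRep_mk]
    induction y using TensorProduct.induction_on with
    | zero => rw [map_zero, map_zero, map_zero, map_zero]
    | tmul x y => rw [Representation.tprod_apply, TensorProduct.map_tmul, hT, hT, he]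
    | add x y hx hy => rw [map_add, map_add, map_add, hx, hy, map_add, map_add, map_add]
  obtain ⟨hk, hr, h1, h2⟩ := cf_exact (Sy.{u, v, w} ι p) (Sq σ) ρ T hTe
  have hR : LinearMap.range T ≠ ⊥ := by
    intro h3
    apply h0
    rw [LinearMap.range_eq_bot] at h3
    ext x y
    rw [← hT, h3]
    rfl
  obtain ⟨c, hc1, hc2⟩ := exists_inSoc_sub ι p hr hR
  refine ⟨c, ?_, hc2⟩
  rw [h1]
  exact Multiset.mem_add.2 (Or.inr hc1.mem_cf)

variable (hF : Fintype.card F = p ^ a)

include hF in
/-- the character of `S² V_b` -/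
theorem cs_sq_V {X : Type v} [AddCommGroup X] [Module k X] [FiniteDimensional k X]
    {σ : Representation k (SpecialLinearGroup (Fin 2) F) X} {b : ℕ} (h : IsV ι p σ b) {z : ℂ} (hz : Zs (p ^ a) z) :
    cs k (cf (Sy.{u, v, w} ι p) (Sq σ)) z = ((chB k b z) ^ 2 + chB k b (z ^ 2)) / 2 := by
  rw [cs_sq ι p hF σ hz, cf_irr (Sy.{u, v, w} ι p) h, cs_singleton, cs_singleton]

include hF in
theorem cs_sq_single {X : Type v} [AddCommGroup X] [Module k X] [FiniteDimensional k X]
    {σ : Representation k (SpecialLinearGroup (Fin 2) F) X} {n i : ℕ} (hn : n < p) (h : IsV ι p σ (n * p ^ i)) {z : ℂ}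
    (hz : Zs (p ^ a) z) : cs k (cf (Sy.{u, v, w} ι p) (Sq σ)) z = s2 n (z ^ p ^ i) := by
  rw [cs_sq_V ι p hF h hz, chB_single k p hn, chB_single k p hn]
  unfold s2
  rw [← pow_mul, ← pow_mul, mul_comm 2]

include hF in
theorem cs_sq_pair {X : Type v} [AddCommGroup X] [Module k X] [FiniteDimensional k X]
    {σ : Representation k (SpecialLinearGroup (Fin 2) F) X} {n m i j : ℕ} (hn : n < p) (hm : m < p) (hij : i ≠ j)
    (h : IsV ι p σ (n * p ^ i + m * p ^ j)) {z : ℂ} (hz : Zs (p ^ a) z) :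
    cs k (cf (Sy.{u, v, w} ι p) (Sq σ)) z =
      s2 n (z ^ p ^ i) * s2 m (z ^ p ^ j) + a2 n (z ^ p ^ i) * a2 m (z ^ p ^ j) := by
  rw [cs_sq_V ι p hF h hz, chB_pair k p hn hm hij, chB_pair k p hn hm hij]
  unfold s2 a2
  rw [← pow_mul z (p ^ i) 2, ← pow_mul z (p ^ j) 2, mul_comm (p ^ i) 2, mul_comm (p ^ j) 2, pow_mul z 2, pow_mul z 2]
  ring

theorem single_lt {n i : ℕ} (hn : n < p) (hi : i < a) : n * p ^ i < p ^ a := by
  have hp : p.Prime := Fact.out
  calc n * p ^ i < p * p ^ i := Nat.mul_lt_mul_of_pos_right hn (Nat.pow_pos hp.pos)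
    _ = p ^ (i + 1) := by rw [pow_succ, mul_comm]
    _ ≤ p ^ a := Nat.pow_le_pow_right hp.pos hi

theorem pair_lt {n m i j : ℕ} (hn : n < p) (hm : m < p) (hij : i ≠ j) (hi : i < a) (hj : j < a) :
    n * p ^ i + m * p ^ j < p ^ a := by
  have hp : p.Prime := Fact.out
  have key : ∀ {n m i j : ℕ}, n < p → m < p → i < j → j < a → n * p ^ i + m * p ^ j < p ^ a := by
    intro n m i j hn hm hij hj
    calc n * p ^ i + m * p ^ j < p ^ j + m * p ^ j := by
          have := single_lt p hn hij
          omega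
      _ = (m + 1) * p ^ j := by ring
      _ ≤ p * p ^ j := Nat.mul_le_mul_right _ hm
      _ = p ^ (j + 1) := by rw [pow_succ, mul_comm]
      _ ≤ p ^ a := Nat.pow_le_pow_right hp.pos hj
  rcases Nat.lt_or_gt_of_ne hij with h | h
  · exact key hn hm h hj
  · rw [add_comm]
    exact key hm hn h hi

/-! ## The table -/

theorem s2_two {z : ℂ} (hz : z ≠ 0) : s2 2 z = chi 4 z + 1 := by
  have := s2_add_two 0 hz
  rw [s2_zero] at this
  exact this

theorem s2_four {z : ℂ} (hz : z ≠ 0) : s2 4 z = chi 8 z + (chi 4 z + 1) := by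
  have := s2_add_two 2 hz
  rw [s2_two hz] at this
  exact this

theorem s2_six {z : ℂ} (hz : z ≠ 0) : s2 6 z = chi 12 z + (chi 8 z + (chi 4 z + 1)) := by
  have := s2_add_two 4 hz
  rw [s2_four hz] at this
  exact this

theorem s2_eight {z : ℂ} (hz : z ≠ 0) : s2 8 z = chi 16 z + (chi 12 z + (chi 8 z + (chi 4 z + 1))) := by
  have := s2_add_two 6 hz
  rw [s2_six hz] at this
  exact this

theorem a2_two {z : ℂ} (hz : z ≠ 0) : a2 2 z = chi 2 z := by
  have := a2_succ 1 hz
  rw [s2_one hz] at this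
  exact this

theorem a2_one {z : ℂ} (hz : z ≠ 0) : a2 1 z = 1 := by
  have := a2_succ 0 hz
  rw [s2_zero] at this
  exact this

section Tab

variable {X : Type v} [AddCommGroup X] [Module k X] [FiniteDimensional k X]
  {σ : Representation k (SpecialLinearGroup (Fin 2) F) X} {i j : ℕ}

include hF in
theorem sq_11 (hp2 : 2 < p) (hij : i ≠ j) (hi : i < a) (hj : j < a) (h : IsV ι p σ (p ^ i + p ^ j)) :
    cf (Sy.{u, v, w} ι p) (Sq σ) = {2 * p ^ i + 2 * p ^ j, 0} := by
  have hp : p.Prime := Fact.out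
  have h' : IsV ι p σ (1 * p ^ i + 1 * p ^ j) := by rwa [one_mul, one_mul]
  refine cf_of_cs ι p hF ?_ fun z hz => ?_
  · intro b hb
    simp only [Multiset.insert_eq_cons, Multiset.mem_cons, Multiset.mem_singleton] at hb
    rcases hb with rfl | rfl
    · exact pair_lt p hp2 hp2 hij hi hj
    · exact Nat.pow_pos hp.pos
  · have hz0 := hz.ne_zero (two_le_q p hF)
    have hi0 := pow_ne_zero (p ^ i) hz0
    have hj0 := pow_ne_zero (p ^ j) hz0
    rw [cs_sq_pair ι p hF (by omega) (by omega) hij h' hz, s2_one hi0, s2_one hj0, a2_one hi0, a2_one hj0,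
      Multiset.insert_eq_cons, cs_cons, cs_singleton, chB_pair k p hp2 hp2 hij, chB_zero, mul_one]

include hF in
theorem sq_22 (hp2 : 4 < p) (hij : i ≠ j) (hi : i < a) (hj : j < a) (h : IsV ι p σ (2 * p ^ i + 2 * p ^ j)) :
    cf (Sy.{u, v, w} ι p) (Sq σ) = {4 * p ^ i + 4 * p ^ j, 4 * p ^ i, 4 * p ^ j, 2 * p ^ i + 2 * p ^ j, 0} := by
  have hp : p.Prime := Fact.out
  refine cf_of_cs ι p hF ?_ fun z hz => ?_
  · intro b hb
    simp only [Multiset.insert_eq_cons, Multiset.mem_cons, Multiset.mem_singleton] at hb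
    rcases hb with rfl | rfl | rfl | rfl | rfl
    · exact pair_lt p hp2 hp2 hij hi hj
    · exact single_lt p hp2 hi
    · exact single_lt p hp2 hj
    · exact pair_lt p (by omega) (by omega) hij hi hj
    · exact Nat.pow_pos hp.pos
  · have hz0 := hz.ne_zero (two_le_q p hF)
    have hi0 := pow_ne_zero (p ^ i) hz0
    have hj0 := pow_ne_zero (p ^ j) hz0
    rw [cs_sq_pair ι p hF (by omega) (by omega) hij h hz, s2_two hi0, s2_two hj0, a2_two hi0, a2_two hj0,
      Multiset.insert_eq_cons, Multiset.insert_eq_cons, Multiset.insert_eq_cons, Multiset.insert_eq_cons,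
      cs_cons, cs_cons, cs_cons, cs_cons, cs_singleton, chB_pair k p hp2 hp2 hij, chB_single k p hp2, chB_single k p hp2,
      chB_pair k p (by omega) (by omega) hij, chB_zero]
    ring

include hF in
theorem sq_2 (hp2 : 4 < p) (hi : i < a) (h : IsV ι p σ (2 * p ^ i)) :
    cf (Sy.{u, v, w} ι p) (Sq σ) = {4 * p ^ i, 0} := by
  have hp : p.Prime := Fact.out
  refine cf_of_cs ι p hF ?_ fun z hz => ?_
  · intro b hb
    simp only [Multiset.insert_eq_cons, Multiset.mem_cons, Multiset.mem_singleton] at hb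
    rcases hb with rfl | rfl
    · exact single_lt p hp2 hi
    · exact Nat.pow_pos hp.pos
  · have hz0 := hz.ne_zero (two_le_q p hF)
    have hi0 := pow_ne_zero (p ^ i) hz0
    rw [cs_sq_single ι p hF (by omega) h hz, s2_two hi0, Multiset.insert_eq_cons, cs_cons, cs_singleton,
      chB_single k p hp2, chB_zero]

include hF in
theorem sq_4 (hp2 : 8 < p) (hi : i < a) (h : IsV ι p σ (4 * p ^ i)) :
    cf (Sy.{u, v, w} ι p) (Sq σ) = {8 * p ^ i, 4 * p ^ i, 0} := by
  have hp : p.Prime := Fact.out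
  refine cf_of_cs ι p hF ?_ fun z hz => ?_
  · intro b hb
    simp only [Multiset.insert_eq_cons, Multiset.mem_cons, Multiset.mem_singleton] at hb
    rcases hb with rfl | rfl | rfl
    · exact single_lt p hp2 hi
    · exact single_lt p (by omega) hi
    · exact Nat.pow_pos hp.pos
  · have hz0 := hz.ne_zero (two_le_q p hF)
    have hi0 := pow_ne_zero (p ^ i) hz0
    rw [cs_sq_single ι p hF (by omega) h hz, s2_four hi0, Multiset.insert_eq_cons, Multiset.insert_eq_cons, cs_cons, cs_cons,
      cs_singleton, chB_single k p hp2, chB_single k p (by omega), chB_zero]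

include hF in
theorem sq_6 (hp2 : 12 < p) (hi : i < a) (h : IsV ι p σ (6 * p ^ i)) :
    cf (Sy.{u, v, w} ι p) (Sq σ) = {12 * p ^ i, 8 * p ^ i, 4 * p ^ i, 0} := by
  have hp : p.Prime := Fact.out
  refine cf_of_cs ι p hF ?_ fun z hz => ?_
  · intro b hb
    simp only [Multiset.insert_eq_cons, Multiset.mem_cons, Multiset.mem_singleton] at hb
    rcases hb with rfl | rfl | rfl | rfl
    · exact single_lt p hp2 hi
    · exact single_lt p (by omega) hi
    · exact single_lt p (by omega) hi
    · exact Nat.pow_pos hp.pos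
  · have hz0 := hz.ne_zero (two_le_q p hF)
    have hi0 := pow_ne_zero (p ^ i) hz0
    rw [cs_sq_single ι p hF (by omega) h hz, s2_six hi0, Multiset.insert_eq_cons, Multiset.insert_eq_cons,
      Multiset.insert_eq_cons, cs_cons, cs_cons, cs_cons,
      cs_singleton, chB_single k p hp2, chB_single k p (by omega), chB_single k p (by omega), chB_zero]

include hF in
theorem sq_8 (hp2 : 16 < p) (hi : i < a) (h : IsV ι p σ (8 * p ^ i)) :
    cf (Sy.{u, v, w} ι p) (Sq σ) = {16 * p ^ i, 12 * p ^ i, 8 * p ^ i, 4 * p ^ i, 0} := by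
  have hp : p.Prime := Fact.out
  refine cf_of_cs ι p hF ?_ fun z hz => ?_
  · intro b hb
    simp only [Multiset.insert_eq_cons, Multiset.mem_cons, Multiset.mem_singleton] at hb
    rcases hb with rfl | rfl | rfl | rfl | rfl
    · exact single_lt p hp2 hi
    · exact single_lt p (by omega) hi
    · exact single_lt p (by omega) hi
    · exact single_lt p (by omega) hi
    · exact Nat.pow_pos hp.pos
  · have hz0 := hz.ne_zero (two_le_q p hF)
    have hi0 := pow_ne_zero (p ^ i) hz0
    rw [cs_sq_single ι p hF (by omega) h hz, s2_eight hi0, Multiset.insert_eq_cons, Multiset.insert_eq_cons,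
      Multiset.insert_eq_cons, Multiset.insert_eq_cons, cs_cons, cs_cons, cs_cons, cs_cons,
      cs_singleton, chB_single k p hp2, chB_single k p (by omega), chB_single k p (by omega), chB_single k p (by omega), chB_zero]

end Tab

/-! ## Overflow -/

/-- the factors of the (virtual) `V_{(p + j) p^i}`: `j + 2 ≤ p` -/
def ov (p a i j : ℕ) : Multiset ℕ :=
  if a = 1 then (if j = 0 then {1, p - 2} else {j + 1, j - 1, p - j - 2})
  else {j * p ^ i + p ^ ((i + 1) % a), (p - j - 2) * p ^ i}

theorem ov_lt {i j : ℕ} (hi : i < a) (hj : j + 2 ≤ p) : ∀ b ∈ ov p a i j, b < p ^ a := by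
  have hp : p.Prime := Fact.out
  intro b hb
  unfold ov at hb
  split_ifs at hb with h1 h2
  · subst h1
    simp only [Multiset.insert_eq_cons, Multiset.mem_cons, Multiset.mem_singleton] at hb
    rw [pow_one]
    omega
  · subst h1
    simp only [Multiset.insert_eq_cons, Multiset.mem_cons, Multiset.mem_singleton] at hb
    rw [pow_one]
    omega
  · simp only [Multiset.insert_eq_cons, Multiset.mem_cons, Multiset.mem_singleton] at hb
    rcases hb with rfl | rfl
    · have := pair_lt p (n := j) (m := 1) (by omega) hp.one_lt (succ_mod_ne (a := a) (i := i) (by omega) hi) hi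
        (Nat.mod_lt _ (by omega))
      rwa [one_mul] at this
    · exact single_lt p (by omega) hi

include hF in
/-- **the overflow rule** -/
theorem cs_ov {i j : ℕ} (hi : i < a) (hj : j + 2 ≤ p) {z : ℂ} (hz : Zs (p ^ a) z) :
    cs k (ov p a i j) z = chi (j + p) (z ^ p ^ i) := by
  have hp : p.Prime := Fact.out
  have hz0 := hz.ne_zero (two_le_q p hF)
  have hi0 := pow_ne_zero (p ^ i) hz0
  rw [chi_over j p hj hi0, chi_wrap (two_le_q p hF) 1 hi hz]
  unfold ov
  split_ifs with h1 h2
  · subst h1 h2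
    have hi1 : i = 0 := by omega
    subst hi1
    simp only [pow_zero, pow_one, Nat.mod_self, zero_add]
    rw [Multiset.insert_eq_cons, cs_cons, cs_singleton, chB_small k p hp.one_lt, chB_small k p (by omega), chi_zero, one_mul]
    rfl
  · subst h1
    have hi1 : i = 0 := by omega
    subst hi1
    simp only [pow_zero, pow_one, Nat.mod_one]
    obtain ⟨j, rfl⟩ : ∃ j', j = j' + 1 := ⟨j - 1, by omega⟩
    rw [Multiset.insert_eq_cons, Multiset.insert_eq_cons, cs_cons, cs_cons, cs_singleton, chB_small k p (by omega),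
      chB_small k p (by omega), chB_small k p (by omega), chi_mul_one j hz0, Nat.add_sub_cancel]
    ring
  · have h3 := chB_pair k p (n := j) (m := 1) (by omega) hp.one_lt (succ_mod_ne (a := a) (i := i) (by omega) hi) z
    rw [one_mul] at h3
    rw [Multiset.insert_eq_cons, cs_cons, cs_singleton, h3, chB_single k p (by omega)]

/-- the factors of the (virtual) `V_{n p^i}`, `n ≤ 2 p - 2` -/
def one (p a i n : ℕ) : Multiset ℕ := if n < p then {n * p ^ i} else ov p a i (n - p)

theorem one_lt' {i n : ℕ} (hi : i < a) (hn : n + 2 ≤ 2 * p) : ∀ b ∈ one p a i n, b < p ^ a := by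
  intro b hb
  unfold one at hb
  split_ifs at hb with h
  · rw [Multiset.mem_singleton] at hb
    subst hb
    exact single_lt p h hi
  · exact ov_lt p hi (by omega) b hb

include hF in
theorem cs_one {i n : ℕ} (hi : i < a) (hn : n + 2 ≤ 2 * p) {z : ℂ} (hz : Zs (p ^ a) z) :
    cs k (one p a i n) z = chi n (z ^ p ^ i) := by
  unfold one
  split_ifs with h
  · rw [cs_singleton, chB_single k p h]
  · rw [cs_ov p hF hi (by omega) hz]
    congr 1
    omega

/-- the factors of `S² V_{n p^i}` -/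
def sqs (p a i : ℕ) : ℕ → Multiset ℕ
  | 0 => {0}
  | 1 => one p a i 2
  | n + 2 => one p a i (2 * (n + 2)) + sqs p a i n

theorem sqs_lt {i : ℕ} (hi : i < a) (n : ℕ) (hn : n < p) : ∀ b ∈ sqs p a i n, b < p ^ a := by
  have hp : p.Prime := Fact.out
  induction n using Nat.strong_induction_on with
  | _ n ih =>
    match n, hn, ih with
    | 0, _, _ =>
      intro b hb
      unfold sqs at hb
      rw [Multiset.mem_singleton] at hb
      subst hb
      exact Nat.pow_pos hp.pos
    | 1, hn, _ =>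
      intro b hb
      unfold sqs at hb
      exact one_lt' p hi (by omega) b hb
    | n + 2, hn, ih =>
      intro b hb
      unfold sqs at hb
      rcases Multiset.mem_add.1 hb with h | h
      · exact one_lt' p hi (by omega) b h
      · exact ih n (by omega) (by omega) b h

include hF in
theorem cs_sqs {i : ℕ} (hi : i < a) (n : ℕ) (hn : n < p) {z : ℂ} (hz : Zs (p ^ a) z) :
    cs k (sqs p a i n) z = s2 n (z ^ p ^ i) := by
  have hz0 := hz.ne_zero (two_le_q p hF)
  have hi0 := pow_ne_zero (p ^ i) hz0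
  induction n using Nat.strong_induction_on with
  | _ n ih =>
    match n, hn, ih with
    | 0, _, _ =>
      unfold sqs
      rw [cs_singleton, chB_zero, s2_zero]
    | 1, hn, _ =>
      unfold sqs
      rw [cs_one p hF hi (by omega) hz, s2_one hi0]
    | n + 2, hn, ih =>
      unfold sqs
      rw [cs_add, cs_one p hF hi (by omega) hz, ih n (by omega) (by omega), s2_add_two n hi0]

include hF in
/-- **the symmetric square of `V_{n p^i}`** -/
theorem cf_sq_single {X : Type v} [AddCommGroup X] [Module k X] [FiniteDimensional k X]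
    {σ : Representation k (SpecialLinearGroup (Fin 2) F) X} {n i : ℕ} (hn : n < p) (hi : i < a) (h : IsV ι p σ (n * p ^ i)) :
    cf (Sy.{u, v, w} ι p) (Sq σ) = sqs p a i n :=
  cf_of_cs ι p hF (sqs_lt p hi n hn) fun z hz => by
    rw [cs_sq_single ι p hF hn h hz, cs_sqs p hF hi n hn hz]

end Cfsg.Agent.R2.H28.SL2
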