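import Cfsg.Agent.R2.H28.SL2.TK

/-!
# The type kills, `p ≥ 5` (helper28): the theorem
-/

set_option autoImplicit false
set_option linter.unusedSectionVars false

namespace Cfsg.Agent.R2.H28.SL2

open Matrix Cfsg.Agent.H943.SL2Rel Cfsg.Agent.H943.SL2Mod Cfsg.Agent.H943.RepAdd
open Cfsg.Agent.R2.SL2 (typ tyl coe_tyl typ_step typ_zero listE6 tyl_eq_nil mem_typ tyl_one tyl_two)

universe u v w

variable {k : Type u} [Field k] [DecidableEq k] {F : Type w} [Field F] [Fintype F] [DecidableEq F] (ι : F →+* k)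
variable (p : ℕ) [Fact p.Prime] [CharP k p] [CharP F p] [IsAlgClosed k] {a : ℕ} (hF : Fintype.card F = p ^ a)
variable {V : Type v} [AddCommGroup V] [Module k V] [FiniteDimensional k V]
  {ρ : Representation k (SpecialLinearGroup (Fin 2) F) V} {V' : Type v} [AddCommGroup V'] [Module k V']
  [FiniteDimensional k V'] {ρ' : Representation k (SpecialLinearGroup (Fin 2) F) V'} {P : V →ₗ[k] V' →ₗ[k] k}
  {W : List (List ℕ)}

include hF in
/-- the complements from `L22` -/
theorem compl_22 (L : Lc.{u, v, w} ι p a ρ ρ') (h4 : ∀ c, InSoc ι p ρ' c → tyl p c ≠ [4]) (h5 : 4 < p)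
    {X : Submodule k V} (hX : ∀ g, ∀ x ∈ X, ρ g x ∈ X) {b : ℕ} (hb : IsV ι p (subRep ρ X hX) b) (hbt : tyl p b = [2, 2]) :
    ∃ (K : Submodule k V) (_ : ∀ g, ∀ x ∈ K, ρ g x ∈ K), IsCompl X K := by
  have hbs : InSoc ι p ρ b := ⟨X, hX, hb⟩
  obtain ⟨i, hi, j, hj, hij, rfl⟩ := tyl_pair_inv hbt (cf_lt ι p hF ρ b hbs.mem_cf) (by norm_num) (by norm_num)
  exact L.l22 i hi j hj hij X hX hb (fun h => h4 _ h (tyl_single (by norm_num) h5 i))
    (fun h => h4 _ h (tyl_single (by norm_num) h5 j))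

include hF in
/-- the pattern `[2,2], [4], [12]` -/
theorem kill_p22 (D : Dul ρ ρ' P) (L : Lc.{u, v, w} ι p a ρ ρ') (L' : Lc.{u, v, w} ι p a ρ' ρ)
    (hw : (W : Multiset (List ℕ)) = (cf (Sy.{u, v, w} ι p) ρ).map (tyl p))
    (hw' : (W : Multiset (List ℕ)) = (cf (Sy.{u, v, w} ι p) ρ').map (tyl p))
    (hW : W = [[2, 2], [4], [12]])
    (hs : ∀ c, InSoc ι p ρ c → tyl p c = [2, 2] ∨ tyl p c = [12]) (hs' : ∀ c, InSoc ι p ρ' c → tyl p c = [2, 2] ∨ tyl p c = [12])
    (h5 : 4 < p) : False := by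
  have hcf := cf_dual ι p D
  have h4 : ∀ c, InSoc ι p ρ c → tyl p c ≠ [4] := fun c hc h => by
    rcases hs c hc with h1 | h1 <;> rw [h1] at h <;> simp at h
  have h4' : ∀ c, InSoc ι p ρ' c → tyl p c ≠ [4] := fun c hc h => by
    rcases hs' c hc with h1 | h1 <;> rw [h1] at h <;> simp at h
  have c22 : (W : Multiset (List ℕ)).count [2, 2] = 1 := by rw [hW]; decide
  have c12 : (W : Multiset (List ℕ)).count [12] = 1 := by rw [hW]; decide
  by_cases h22 : (∃ c, InSoc ι p ρ c ∧ tyl p c = [2, 2]) ∨ ∃ c, InSoc ι p ρ' c ∧ tyl p c = [2, 2]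
  · -- both
    have hboth : ∃ b, InSoc ι p ρ b ∧ InSoc ι p ρ' b ∧ tyl p b = [2, 2] := by
      rcases h22 with ⟨c, ⟨X, hX, hc⟩, ht⟩ | ⟨c, ⟨X, hX, hc⟩, ht⟩
      · obtain ⟨K, hK, hXK⟩ := compl_22 ι p hF L h4' h5 hX hc ht
        exact ⟨c, ⟨X, hX, hc⟩, compl_inSoc ι p D hX hK hXK hc, ht⟩
      · obtain ⟨K, hK, hXK⟩ := compl_22 ι p hF L' h4 h5 hX hc ht
        exact ⟨c, compl_inSoc ι p D.flip hX hK hXK hc, ⟨X, hX, hc⟩, ht⟩
    obtain ⟨b, ⟨X, hX, hb⟩, ⟨X', hX', hb'⟩, ht⟩ := hboth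
    -- the `12`
    have key : ∀ {V : Type v} [AddCommGroup V] [Module k V] [FiniteDimensional k V]
        {ρ : Representation k (SpecialLinearGroup (Fin 2) F) V} {V' : Type v} [AddCommGroup V'] [Module k V']
        [FiniteDimensional k V'] {ρ' : Representation k (SpecialLinearGroup (Fin 2) F) V'}
        (_ : Lc.{u, v, w} ι p a ρ ρ')
        (_ : (W : Multiset (List ℕ)) = (cf (Sy.{u, v, w} ι p) ρ).map (tyl p))
        (_ : ∀ c, InSoc ι p ρ c → tyl p c = [2, 2] ∨ tyl p c = [12]) (_ : ∀ c, InSoc ι p ρ' c → tyl p c ≠ [4])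
        {X : Submodule k V} (hX : ∀ g, ∀ x ∈ X, ρ g x ∈ X) (_ : IsV ι p (subRep ρ X hX) b),
        ∃ c, InSoc ι p ρ c ∧ tyl p c = [12] := by
      intro V _ _ _ ρ V' _ _ _ ρ' L hw hs h4' X hX hb
      obtain ⟨K, hK, hXK⟩ := compl_22 ι p hF L h4' h5 hX hb ht
      have hK0 : K ≠ ⊥ := by
        rintro rfl
        have h6 := cf_sup (S := Sy.{u, v, w} ι p) hX hK hXK
        have h7 : cf (Sy.{u, v, w} ι p) (subRep ρ ⊥ hK) = 0 := cf_zero _ _
        rw [h7, add_zero, cf_irr (Sy.{u, v, w} ι p) hb] at h6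
        have h8 : Multiset.card (W : Multiset (List ℕ)) = 3 := by rw [hW]; rfl
        rw [hw, h6, Multiset.map_singleton, Multiset.card_singleton] at h8
        omega
      obtain ⟨c, hc1, hc2⟩ := exists_inSoc_sub ι p hK hK0
      exact ⟨c, hc2, (hs c hc2).resolve_left (compl_typ ι p hw c22 hX hK hXK hb ht hc1.mem_cf)⟩
    obtain ⟨c, hc, hct⟩ := key L hw hs h4' hX hb
    obtain ⟨c', hc', hct'⟩ := key L' hw' hs' h4 hX' hb'
    have hcc := uniq_typ ι p hw c12 hc.mem_cf (by rw [← hcf]; exact hc'.mem_cf) hct hct'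
    rw [← hcc.1] at hc'
    have hall := ss_of_compl ι p _ V ρ le_rfl fun Y hY d hd => by
      have hds : InSoc ι p ρ d := ⟨Y, hY, hd⟩
      rcases hs d hds with h6 | h6
      · exact compl_22 ι p hF L h4' h5 hY hd h6
      · have h7 := uniq_typ ι p hw c12 hc.mem_cf hds.mem_cf hct h6
        rw [h7.1] at hc' h7
        obtain ⟨K, hK, hYK, -⟩ := exists_compl_of_both ι p D hY hd hc' h7.2
        exact ⟨K, hK, hYK⟩
    have h6 : [4] ∈ (W : Multiset (List ℕ)) := by rw [hW]; decide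
    rw [hw] at h6
    obtain ⟨d, hd, hdt⟩ := Multiset.mem_map.1 h6
    exact h4 d (hall d hd) hdt
  · push Not at h22
    refine kt ι p hw D [12] c12 (fun c hc => (hs c hc).resolve_left (h22.1 c hc))
      (fun c hc => (hs' c hc).resolve_left (h22.2 c hc)) ?_
    rw [hW]
    decide

include hF in
/-- patterns with `[2,2]` the only type in the socles -/
theorem kill_22 (L : Lc.{u, v, w} ι p a ρ ρ')
    (hw : (W : Multiset (List ℕ)) = (cf (Sy.{u, v, w} ι p) ρ).map (tyl p))
    (hs : ∀ c, InSoc ι p ρ c → tyl p c = [2, 2]) (hs' : ∀ c, InSoc ι p ρ' c → tyl p c = [2, 2])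
    (h5 : 4 < p) {t : List ℕ} (ht : t ∈ W) (ht' : t ≠ [2, 2]) : False := by
  have h4' : ∀ c, InSoc ι p ρ' c → tyl p c ≠ [4] := fun c hc h => by
    rw [hs' c hc] at h
    simp at h
  have hall := ss_of_compl ι p _ V ρ le_rfl fun Y hY d hd =>
    compl_22 ι p hF L h4' h5 hY hd (hs d ⟨Y, hY, hd⟩)
  have h6 : t ∈ (W : Multiset (List ℕ)) := ht
  rw [hw] at h6
  obtain ⟨d, hd, hdt⟩ := Multiset.mem_map.1 h6
  apply ht'
  rw [← hdt]
  exact hs d (hall d hd)

set_option synthInstance.maxHeartbeats 400000 in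
set_option synthInstance.maxSize 1024 in
/-- the conditions on the types of the factors of the socle, decidable -/
def styb (W : List (List ℕ)) (e7 : Bool) (s : List ℕ) : Bool :=
  decide (s ≠ [2] ∧ s ≠ [1, 1] ∧ (s = [4] → [8] ∈ W ∨ (e7 = true ∧ [1, 1] ∈ W) ∨ [1, 3] ∈ W) ∧
  (s = [6] → [12] ∈ W ∨ [8] ∈ W ∨ [4] ∈ W ∨ [1, 5] ∈ W) ∧
  (s = [8] → ¬ ∀ t ∈ W, t = [8] ∨ t = [2, 2]))

set_option synthInstance.maxHeartbeats 400000 in
set_option synthInstance.maxSize 1024 in
theorem styb_of_sty (hq9 : 9 ≤ p ^ a) {s : List ℕ} (h : Sty p a W s) (e7 : Bool) (h7 : e7 = false → p ≠ 7) :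
    s ∈ W ∧ styb W e7 s = true := by
  obtain ⟨h1, h2, h3, h4, h5, h8⟩ := h
  refine ⟨h1, ?_⟩
  unfold styb
  rw [decide_eq_true_iff]
  refine ⟨h2, h3, fun hs => ?_, fun hs => ?_, h8⟩
  · rcases h4 hs with h | h | h
    · exact Or.inl h.2
    · right; left
      refine ⟨?_, h.2⟩
      by_contra hc
      exact h7 (Bool.eq_false_iff.2 hc) h.1
    · exact Or.inr (Or.inr h.2)
  · rcases h5 hs with h | h | h | h | h
    · exact Or.inl h
    · exact Or.inr (Or.inl h)
    · exact Or.inr (Or.inr (Or.inl h))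
    · exact Or.inr (Or.inr (Or.inr h))
    · exfalso
      rw [h.1, h.2] at hq9
      omega

section Main

variable (D : Dul ρ ρ' P) (L : Lc.{u, v, w} ι p a ρ ρ') (L' : Lc.{u, v, w} ι p a ρ' ρ)
  (hw : (W : Multiset (List ℕ)) = (cf (Sy.{u, v, w} ι p) ρ).map (tyl p))
  (hw' : (W : Multiset (List ℕ)) = (cf (Sy.{u, v, w} ι p) ρ').map (tyl p)) (hq9 : 9 ≤ p ^ a)

include hF L L' hw hw' hq9 in
theorem styb_soc (e7 : Bool) (h7 : e7 = false → p ≠ 7) {c : ℕ}
    (hc : InSoc ι p ρ c) : tyl p c ∈ W ∧ styb W e7 (tyl p c) = true :=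
  styb_of_sty p hq9 (sty ι p hF hw L L' hw' hq9 hc) e7 h7

include hF L L' hw hw' hq9 D in
theorem kt2 (e7 : Bool) (h7 : e7 = false → p ≠ 7) (t : List ℕ)
    (h1 : (W : Multiset (List ℕ)).count t = 1) (hs : ∀ s ∈ W, styb W e7 s = true → s = t) (hc : 2 ≤ W.length) : False :=
  kt ι p hw D t h1
    (fun _ hc => hs _ (styb_soc ι p hF L L' hw hw' hq9 e7 h7 hc).1 (styb_soc ι p hF L L' hw hw' hq9 e7 h7 hc).2)
    (fun _ hc => hs _ (styb_soc ι p hF L' L hw' hw hq9 e7 h7 hc).1 (styb_soc ι p hF L' L hw' hw hq9 e7 h7 hc).2) hc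

include hF L L' hw hw' hq9 in
theorem kt0 (e7 : Bool) (h7 : e7 = false → p ≠ 7)
    (hs : ∀ s ∈ W, styb W e7 s = false) (hc : 2 ≤ W.length) : False := by
  have hnt : Nontrivial V := by
    by_contra h
    have := not_nontrivial_iff_subsingleton.1 h
    rw [cf_zero, Multiset.map_zero] at hw
    have h2 : Multiset.card (W : Multiset (List ℕ)) = W.length := rfl
    rw [← h2, hw, Multiset.card_zero] at hc
    omega
  obtain ⟨c, hc⟩ := exists_inSoc ι p ρ
  have h8 := styb_soc ι p hF L L' hw hw' hq9 e7 h7 hc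
  rw [hs _ h8.1] at h8
  exact absurd h8.2 (by decide)

include hF hw in
theorem two_le_a {t : List ℕ} (ht : t ∈ W) (hl : 2 ≤ t.length) : 2 ≤ a := by
  have h1 : t ∈ (W : Multiset (List ℕ)) := ht
  rw [hw] at h1
  obtain ⟨c, hc, rfl⟩ := Multiset.mem_map.1 h1
  have := Cfsg.Agent.R2.SL2.length_tyl_le (cf_lt ι p hF ρ c hc)
  omega

include hw in
theorem lt_p {t : List ℕ} (ht : t ∈ W) {d : ℕ} (hd : d ∈ t) : d < p := by
  have h1 : t ∈ (W : Multiset (List ℕ)) := ht
  rw [hw] at h1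
  obtain ⟨c, hc, rfl⟩ := Multiset.mem_map.1 h1
  exact lt_of_tyl p hd

end Main

include hF in
/-- **the type kills, `p ≥ 5`, `q ≥ 9`**; remaining: `T`, `E`, and for `p = 11`, `q = 11` one pattern each -/
theorem type_kills (D : Dul ρ ρ' P) (L : Lc.{u, v, w} ι p a ρ ρ') (L' : Lc.{u, v, w} ι p a ρ' ρ)
    (hp5 : 5 ≤ p) (hq9 : 9 ≤ p ^ a) (hfx : ∀ x, (∀ g, ρ g x = x) → x = 0)
    (hco : ∀ f : V →ₗ[k] k, (∀ g x, f (ρ g x) = f x) → f = 0) (hWm : W ∈ listE6)
    (hw : (W : Multiset (List ℕ)) = (cf (Sy.{u, v, w} ι p) ρ).map (tyl p)) :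
    (2 ≤ a ∧ W = [[2, 2], [2, 2], [2, 2]]) ∨ (13 ≤ p ∧ W = [[4], [8], [12]]) ∨
      (p = 11 ∧ 2 ≤ a ∧ W = [[1, 1], [4], [8], [8]]) ∨ (a = 1 ∧ p = 11 ∧ W = [[], [2], [4], [8], [8]]) := by
  have hp : p.Prime := Fact.out
  rcases no_trivial ι p hF hp5 (by omega) hfx hco hWm hw with h0 | h0 | h0
  swap
  · obtain ⟨h1, h2, -⟩ := h0
    rw [h1, h2] at hq9
    omega
  swap
  · exact Or.inr (Or.inr (Or.inr h0))
  have hw' : (W : Multiset (List ℕ)) = (cf (Sy.{u, v, w} ι p) ρ').map (tyl p) := by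
    rw [cf_dual ι p D]
    exact hw
  have key : ∀ W ∈ listE6, [] ∉ W → W ∈ ([[[1, 1], [1, 1], [1, 1], [4], [4], [4]],
    [[1, 1], [1, 1], [2, 2], [4], [4]],
    [[1, 1], [1, 1], [4], [4], [8]],
    [[1, 1], [1, 3], [2], [2], [2], [2], [2]],
    [[1, 1], [2], [2], [2], [2], [2], [2], [4]],
    [[1, 1], [2], [2], [2], [2], [10]],
    [[1, 1], [2, 2], [2, 2], [4]],
    [[1, 1], [2, 2], [4], [8]],
    [[1, 1], [4], [4], [12]],
    [[1, 1], [4], [8], [8]],
    [[1, 1, 2], [2], [2], [2], [2], [2]],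
    [[1, 3], [2], [2], [2], [2], [6]],
    [[1, 5], [2], [2], [2], [2], [2]],
    [[2], [2], [2], [2], [2], [2], [2, 2]],
    [[2], [2], [2], [2], [2], [2], [8]],
    [[2], [2], [2], [2], [2], [4], [6]],
    [[2], [2], [2], [2], [2, 4]],
    [[2], [2], [2], [2], [14]],
    [[2], [2], [2], [6], [10]],
    [[2, 2], [2, 2], [2, 2]],
    [[2, 2], [2, 2], [8]],
    [[2, 2], [4], [12]],
    [[2, 2], [8], [8]],
    [[4], [8], [12]],
    [[8], [8], [8]]] : List (List (List ℕ))) := by decide +kernel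
  have hp8 : 8 < p → 11 ≤ p := by
    intro h
    by_contra hc
    have h9 : p = 9 ∨ p = 10 := by omega
    rcases h9 with rfl | rfl <;> revert hp <;> decide
  have hp12 : 12 < p → 13 ≤ p := id
  have h7t : true = false → p ≠ 7 := fun h => absurd h (by decide)
  have hext : ∀ (W : List (List ℕ)), (W : Multiset (List ℕ)) = (cf (Sy.{u, v, w} ι p) ρ).map (tyl p) → 11 ≤ p → 2 ≤ a →
      (∀ t ∈ W, ∀ e ∈ t, e ≤ 8) → (∀ t ∈ W, t = [8] ∨ ∀ e ∈ t, e < 8) → [1, 1] ∈ W →
      p = 11 ∧ (W : Multiset (List ℕ)).count [1, 1] < (W : Multiset (List ℕ)).count [8] := by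
    intro W hw h11 ha h8 h8' h1
    by_cases hp11 : p = 11
    · refine ⟨hp11, ?_⟩
      have h2 := ext_types ι p hF D (by omega) ha L L' hw (by rw [hp11]; exact h8') h1
      rw [hp11] at h2
      exact h2
    · exfalso
      have h13 : 13 ≤ p := by
        have h12 : p ≠ 12 := by
          rintro rfl
          revert hp
          decide
        omega
      have h2 := ext_types ι p hF D (by omega) ha L L' hw (fun t ht => Or.inr fun e he => by
        have := h8 t ht e he
        omega) h1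
      have h3 : (W : Multiset (List ℕ)).count [p - 3] = 0 := by
        rw [Multiset.count_eq_zero]
        intro h4
        have := h8 _ h4 (p - 3) (List.mem_singleton_self _)
        omega
      omega
  have h := key W hWm h0
  clear key
  simp only [List.mem_cons, List.not_mem_nil, or_false] at h
  rcases h with rfl | rfl | rfl | rfl | rfl | rfl | rfl | rfl | rfl | rfl | rfl | rfl | rfl | rfl | rfl | rfl | rfl | rfl |
    rfl | rfl | rfl | rfl | rfl | rfl | rfl
  -- P1
  · exfalso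
    have ha := two_le_a ι p hF hw (t := [1, 1]) (by decide) (by decide)
    by_cases h7 : p = 7
    · have h2 := ext_types ι p hF D (by omega) ha L L' hw (by rw [h7]; decide) (by decide)
      rw [h7] at h2
      revert h2
      decide
    · exact kt0 ι p hF L L' hw hw' hq9 false (fun _ => h7) (by decide) (by decide)
  -- P2
  · exfalso
    have ha := two_le_a ι p hF hw (t := [1, 1]) (by decide) (by decide)
    by_cases h7 : p = 7
    · have h2 := ext_types ι p hF D (by omega) ha L L' hw (by rw [h7]; decide) (by decide)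
      rw [h7] at h2
      revert h2
      decide
    · exact kt2 ι p hF D L L' hw hw' hq9 false (fun _ => h7) [2, 2] (by decide) (by decide) (by decide)
  -- P3
  · exfalso
    have ha := two_le_a ι p hF hw (t := [1, 1]) (by decide) (by decide)
    have h11 := hp8 (lt_p ι p hw (t := [8]) (by decide) (List.mem_singleton_self _))
    have h2 := (hext _ hw h11 ha (by decide) (by decide) (by decide)).2
    revert h2
    decide
  -- P4
  · exact (kt2 ι p hF D L L' hw hw' hq9 true h7t [1, 3] (by decide) (by decide) (by decide)).elim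
  -- P5
  · exfalso
    have ha := two_le_a ι p hF hw (t := [1, 1]) (by decide) (by decide)
    by_cases h7 : p = 7
    · have h2 := ext_types ι p hF D (by omega) ha L L' hw (by rw [h7]; decide) (by decide)
      rw [h7] at h2
      revert h2
      decide
    · exact kt0 ι p hF L L' hw hw' hq9 false (fun _ => h7) (by decide) (by decide)
  -- P6
  · exact (kt2 ι p hF D L L' hw hw' hq9 true h7t [10] (by decide) (by decide) (by decide)).elim
  -- P7
  · exfalso
    have ha := two_le_a ι p hF hw (t := [1, 1]) (by decide) (by decide)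
    by_cases h7 : p = 7
    · have h2 := ext_types ι p hF D (by omega) ha L L' hw (by rw [h7]; decide) (by decide)
      rw [h7] at h2
      revert h2
      decide
    · have hall : ∀ s ∈ ([[1, 1], [2, 2], [2, 2], [4]] : List (List ℕ)), styb [[1, 1], [2, 2], [2, 2], [4]] false s = true →
          s = [2, 2] := by decide
      exact kill_22 ι p hF L hw
        (fun c hc => hall _ (styb_soc ι p hF L L' hw hw' hq9 false (fun _ => h7) hc).1
          (styb_soc ι p hF L L' hw hw' hq9 false (fun _ => h7) hc).2)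
        (fun c hc => hall _ (styb_soc ι p hF L' L hw' hw hq9 false (fun _ => h7) hc).1
          (styb_soc ι p hF L' L hw' hw hq9 false (fun _ => h7) hc).2) (by omega) (t := [4]) (by decide) (by decide)
  -- P8
  · exfalso
    have ha := two_le_a ι p hF hw (t := [1, 1]) (by decide) (by decide)
    have h11 := hp8 (lt_p ι p hw (t := [8]) (by decide) (List.mem_singleton_self _))
    have h2 := (hext _ hw h11 ha (by decide) (by decide) (by decide)).2
    revert h2
    decide
  -- P9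
  · have h12 := lt_p ι p hw (t := [12]) (by decide) (List.mem_singleton_self _)
    exact (kt2 ι p hF D L L' hw hw' hq9 false (fun _ => by omega) [12] (by decide) (by decide) (by decide)).elim
  -- P10
  · have ha := two_le_a ι p hF hw (t := [1, 1]) (by decide) (by decide)
    have h11 := hp8 (lt_p ι p hw (t := [8]) (by decide) (List.mem_singleton_self _))
    have h2 := (hext _ hw h11 ha (by decide) (by decide) (by decide)).1
    exact Or.inr (Or.inr (Or.inl ⟨h2, ha, rfl⟩))
  -- P11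
  · exact (kt2 ι p hF D L L' hw hw' hq9 true h7t [1, 1, 2] (by decide) (by decide) (by decide)).elim
  -- P12
  · have ha := two_le_a ι p hF hw (t := [1, 3]) (by decide) (by decide)
    exact (kt2 ι p hF D L L' hw hw' hq9 true h7t [1, 3] (by decide) (by decide) (by decide)).elim
  -- P13
  · exact (kt2 ι p hF D L L' hw hw' hq9 true h7t [1, 5] (by decide) (by decide) (by decide)).elim
  -- P14
  · exact (kt2 ι p hF D L L' hw hw' hq9 true h7t [2, 2] (by decide) (by decide) (by decide)).elim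
  -- P15
  · exact (kt2 ι p hF D L L' hw hw' hq9 true h7t [8] (by decide) (by decide) (by decide)).elim
  -- P16
  · exact (kt2 ι p hF D L L' hw hw' hq9 true h7t [6] (by decide) (by decide) (by decide)).elim
  -- P17
  · exact (kt2 ι p hF D L L' hw hw' hq9 true h7t [2, 4] (by decide) (by decide) (by decide)).elim
  -- P18
  · exact (kt2 ι p hF D L L' hw hw' hq9 true h7t [14] (by decide) (by decide) (by decide)).elim
  -- P19
  · have h10 := lt_p ι p hw (t := [10]) (by decide) (List.mem_singleton_self _)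
    exact (kt2 ι p hF D L L' hw hw' hq9 true h7t [10] (by decide) (by decide) (by decide)).elim
  -- P20
  · exact Or.inl ⟨two_le_a ι p hF hw (t := [2, 2]) (by decide) (by decide), rfl⟩
  -- P21
  · exfalso
    have hall : ∀ s ∈ ([[2, 2], [2, 2], [8]] : List (List ℕ)), styb [[2, 2], [2, 2], [8]] true s = true →
        s = [2, 2] := by decide
    exact kill_22 ι p hF L hw
      (fun c hc => hall _ (styb_soc ι p hF L L' hw hw' hq9 true h7t hc).1
        (styb_soc ι p hF L L' hw hw' hq9 true h7t hc).2)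
      (fun c hc => hall _ (styb_soc ι p hF L' L hw' hw hq9 true h7t hc).1
        (styb_soc ι p hF L' L hw' hw hq9 true h7t hc).2) (by omega) (t := [8]) (by decide) (by decide)
  -- P22
  · exfalso
    have hall : ∀ s ∈ ([[2, 2], [4], [12]] : List (List ℕ)), styb [[2, 2], [4], [12]] true s = true →
        s = [2, 2] ∨ s = [12] := by decide
    exact kill_p22 ι p hF D L L' hw hw' rfl
      (fun c hc => hall _ (styb_soc ι p hF L L' hw hw' hq9 true h7t hc).1
        (styb_soc ι p hF L L' hw hw' hq9 true h7t hc).2)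
      (fun c hc => hall _ (styb_soc ι p hF L' L hw' hw hq9 true h7t hc).1
        (styb_soc ι p hF L' L hw' hw hq9 true h7t hc).2) (by omega)
  -- P23
  · exact (kt2 ι p hF D L L' hw hw' hq9 true h7t [2, 2] (by decide) (by decide) (by decide)).elim
  -- P24
  · have h12 := lt_p ι p hw (t := [12]) (by decide) (List.mem_singleton_self _)
    exact Or.inr (Or.inl ⟨h12, rfl⟩)
  -- P25
  · exact (kt0 ι p hF L L' hw hw' hq9 true h7t (by decide) (by decide)).elim

end Cfsg.Agent.R2.H28.SL2
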