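import Cfsg.Agent.R2.H28.SL2.L22
import Cfsg.Agent.R2.H28.SL2.Form2
import Cfsg.Agent.R2.H28.SL2.SplitE

/-!
# Preparations for the pattern `[2,2], [2,2], [2,2]` (helper28), `p ≥ 5`

* `hom_unique` : equivariant maps to an irreducible module of multiplicity one;
* `tri_unique` : invariant trilinear forms, symmetric in two variables;
* `mult22` : the multiplicities of the submodules of type `[2,2]` are one;
* `Fra.three_subs` : three submodules with different labels; `Fra.three22`, `Fra.mixed22` : the trilinear form.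
-/

set_option autoImplicit false
set_option linter.unusedSectionVars false

namespace Cfsg.Agent.R2.H28.SL2

open Matrix Cfsg.Agent.H943.SL2Rel Cfsg.Agent.H943.SL2Mod Cfsg.Agent.H943.RepAdd
open scoped TensorProduct
open Cfsg.Lie
open Cfsg.Agent.ChevalleyStructure Cfsg.Agent.ChevalleyStructure.E6Form.Cubic
  Cfsg.Agent.ChevalleyStructure.E6Form.Table
open Cfsg.Agent.ChevalleyStructure.E6Min.Basic (Zgrp)
open Cfsg.Agent.H952.F4 (sh cr tf)
open Cfsg.Agent.H952.F4.Jord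
open Cfsg.Agent.R2.GEO (Pair crB crB_apply tfB tfB_apply)
open Cfsg.Agent.R2.SL2 (typ tyl coe_tyl typ_step typ_zero listE6 tyl_eq_nil mem_typ tyl_one tyl_two)

universe u v w

section General

variable {k : Type u} [Field k] [DecidableEq k] {F : Type w} [Field F] [Fintype F] [DecidableEq F] (ι : F →+* k)
variable (p : ℕ) [Fact p.Prime] [CharP k p] [CharP F p] [IsAlgClosed k] {a : ℕ} (hF : Fintype.card F = p ^ a)

/-- **Schur's lemma, multiplicity one** -/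
theorem hom_unique {M : Type v} [AddCommGroup M] [Module k M] [FiniteDimensional k M]
    {L : Type v} [AddCommGroup L] [Module k L] [FiniteDimensional k L]
    {ρ : Representation k (SpecialLinearGroup (Fin 2) F) M} {σ : Representation k (SpecialLinearGroup (Fin 2) F) L} {b : ℕ}
    (hL : IsV ι p σ b) (hc : (cf (Sy.{u, v, w} ι p) ρ).count b ≤ 1) (f g : M →ₗ[k] L)
    (hf : ∀ s x, f (ρ s x) = σ s (f x)) (hg : ∀ s x, g (ρ s x) = σ s (g x)) (h0 : f ≠ 0) : ∃ c : k, g = c • f := by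
  obtain ⟨hnt, hirr⟩ := hL.irr
  -- `f` is surjective
  have hsur : Function.Surjective f := by
    rw [← LinearMap.range_eq_top]
    refine (hirr (LinearMap.range f) ?_).resolve_left fun h => h0 (LinearMap.range_eq_bot.1 h)
    rintro s _ ⟨x, rfl⟩
    exact ⟨_, hf s x⟩
  -- the factors of the kernel
  obtain ⟨hk, hr, h1, -⟩ := cf_exact (Sy.{u, v, w} ι p) ρ σ f hf
  have htop : LinearMap.range f = ⊤ := LinearMap.range_eq_top.2 hsur
  have hrb : cf (Sy.{u, v, w} ι p) (subRep σ (LinearMap.range f) hr) = {b} := by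
    refine cf_irr (Sy.{u, v, w} ι p) (IsV.iso ι p (LinearEquiv.ofTop (LinearMap.range f) htop).symm (fun s x => ?_) hL)
    exact Subtype.ext rfl
  have hkb : b ∉ cf (Sy.{u, v, w} ι p) (subRep ρ (LinearMap.ker f) hk) := by
    intro h2
    rw [h1, hrb, Multiset.count_add, Multiset.count_singleton_self] at hc
    have := Multiset.one_le_count_iff_mem.2 h2
    omega
  have hker : ∀ x ∈ LinearMap.ker f, g x = 0 := by
    by_contra hcon
    push Not at hcon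
    obtain ⟨x, hx, hgx⟩ := hcon
    apply hkb
    obtain ⟨hk', hr', h2, -⟩ := cf_exact (Sy.{u, v, w} ι p) (subRep ρ (LinearMap.ker f) hk) σ (g ∘ₗ (LinearMap.ker f).subtype)
      (fun s y => hg s _)
    have htop' : LinearMap.range (g ∘ₗ (LinearMap.ker f).subtype) = ⊤ :=
      (hirr _ hr').resolve_left fun h => hgx (by
        have h3 : g x ∈ LinearMap.range (g ∘ₗ (LinearMap.ker f).subtype) := ⟨⟨x, hx⟩, rfl⟩
        rw [h, Submodule.mem_bot] at h3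
        exact h3)
    have hrb' : cf (Sy.{u, v, w} ι p) (subRep σ (LinearMap.range (g ∘ₗ (LinearMap.ker f).subtype)) hr') = {b} := by
      refine cf_irr (Sy.{u, v, w} ι p) (IsV.iso ι p (LinearEquiv.ofTop _ htop').symm (fun s x => ?_) hL)
      exact Subtype.ext rfl
    rw [h2, hrb']
    exact Multiset.mem_add.2 (Or.inr (Multiset.mem_singleton_self _))
  -- the induced map
  obtain ⟨s₀, hs₀⟩ := f.exists_rightInverse_of_surjective htop
  have hs₀' : ∀ y, f (s₀ y) = y := fun y => LinearMap.congr_fun hs₀ y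
  have hfac : ∀ x, g x = g (s₀ (f x)) := by
    intro x
    have h3 := hker (x - s₀ (f x)) (by rw [LinearMap.mem_ker, map_sub, hs₀', sub_self])
    rw [map_sub, sub_eq_zero] at h3
    exact h3
  obtain ⟨c, hc⟩ := Module.End.exists_eigenvalue (g ∘ₗ s₀ : Module.End k L)
  obtain ⟨y, hy⟩ := hc.exists_hasEigenvector
  have hst : ∀ s, ∀ z ∈ LinearMap.ker (g ∘ₗ s₀ - c • LinearMap.id), σ s z ∈ LinearMap.ker (g ∘ₗ s₀ - c • LinearMap.id) := by
    intro s z hz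
    rw [LinearMap.mem_ker, LinearMap.sub_apply, sub_eq_zero] at hz ⊢
    have hz' : g (s₀ z) = c • z := hz
    show g (s₀ (σ s z)) = c • σ s z
    have h4 : σ s z = f (ρ s (s₀ z)) := by rw [hf, hs₀']
    rw [h4, ← hfac, hg, hz', hf, hs₀', map_smul]
  have hall := (hirr _ hst).resolve_left fun h => by
    apply hy.2
    rw [← Submodule.mem_bot k, ← h, LinearMap.mem_ker, LinearMap.sub_apply, sub_eq_zero]
    exact hy.apply_eq_smul
  refine ⟨c, LinearMap.ext fun x => ?_⟩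
  have h5 : f x ∈ LinearMap.ker (g ∘ₗ s₀ - c • LinearMap.id) := by
    rw [hall]
    trivial
  rw [LinearMap.mem_ker, LinearMap.sub_apply, sub_eq_zero] at h5
  rw [hfac]
  exact h5

/-- **uniqueness of trilinear forms** -/
theorem tri_unique {X : Type v} [AddCommGroup X] [Module k X] [FiniteDimensional k X]
    {σ : Representation k (SpecialLinearGroup (Fin 2) F) X} {b : ℕ} (hb : IsV ι p σ b)
    (hc : (cf (Sy.{u, v, w} ι p) (Sq σ)).count b ≤ 1) (T T' : X →ₗ[k] X →ₗ[k] X →ₗ[k] k)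
    (hs : ∀ x y z, T x y z = T y x z) (hs' : ∀ x y z, T' x y z = T' y x z)
    (he : ∀ g x y z, T (σ g x) (σ g y) (σ g z) = T x y z) (he' : ∀ g x y z, T' (σ g x) (σ g y) (σ g z) = T' x y z)
    (h0 : T ≠ 0) : ∃ c : k, ∀ x y z, T' x y z = c * T x y z := by
  obtain ⟨σ', B, D⟩ := exists_dul σ
  have hb' : IsV ι p σ' b := IsV.dual ι p hb D
  have hinj : Function.Injective B.flip := by
    rw [← LinearMap.ker_eq_bot, LinearMap.ker_eq_bot']
    intro y hy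
    exact D.right y fun x => LinearMap.congr_fun hy x
  let e : X ≃ₗ[k] Module.Dual k X := LinearEquiv.ofInjectiveOfFinrankEq B.flip hinj Subspace.dual_finrank_eq.symm
  have hee : ∀ (φ : Module.Dual k X) x, B x (e.symm φ) = φ x := by
    intro φ x
    have h1 : e (e.symm φ) = φ := e.apply_symm_apply φ
    have h2 : e (e.symm φ) x = B x (e.symm φ) := rfl
    rw [← h2, h1]
  have key : ∀ (T : X →ₗ[k] X →ₗ[k] X →ₗ[k] k), (∀ x y z, T x y z = T y x z) →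
      (∀ g x y z, T (σ g x) (σ g y) (σ g z) = T x y z) →
      ∃ f : ((X ⊗[k] X) ⧸ Alt k X) →ₗ[k] X, (∀ g x, f (Sq σ g x) = σ' g (f x)) ∧
        ∀ x y z, B z (f ((Alt k X).mkQ (x ⊗ₜ y))) = T x y z := by
    intro T hs he
    let β : X →ₗ[k] X →ₗ[k] X := T.compr₂ (e.symm : Module.Dual k X →ₗ[k] X)
    have hβ : ∀ x y z, B z (β x y) = T x y z := fun x y z => hee (T x y) z
    obtain ⟨f, hf1, hf2, -⟩ := exists_sqL (σ := σ) (ρ := σ') β (fun x y => by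
        rw [← sub_eq_zero]
        refine D.right _ fun z => ?_
        rw [map_sub, hβ, hβ, hs, sub_self]) (fun g x y => by
        rw [← sub_eq_zero]
        refine D.right _ fun z => ?_
        have h1 : σ g (σ g⁻¹ z) = z := by
          rw [← Module.End.mul_apply, ← map_mul, mul_inv_cancel, map_one, Module.End.one_apply]
        rw [map_sub, hβ, D.inv', hβ, sub_eq_zero, ← he g x y (σ g⁻¹ z), h1])
    exact ⟨f, hf2, fun x y z => by rw [hf1, hβ]⟩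
  obtain ⟨f, hf1, hf2⟩ := key T hs he
  obtain ⟨f', hf1', hf2'⟩ := key T' hs' he'
  obtain ⟨c, hc⟩ := hom_unique ι p hb' hc f f' hf1 hf1' (by
    rintro rfl
    apply h0
    ext x y z
    rw [← hf2]
    simp)
  refine ⟨c, fun x y z => ?_⟩
  rw [← hf2, ← hf2', hc, LinearMap.smul_apply, map_smul, smul_eq_mul]

end General

section Frame

variable {k : Type u} [Field k] [DecidableEq k] [IsAlgClosed k] {K : Type w} [Field K] [Fintype K] [DecidableEq K]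
  (ι : K →+* k) {p a : ℕ} [Fact p.Prime] [CharP k p] [CharP K p]
  {ψ : SpecialLinearGroup (Fin 2) K →* ↥(Zgrp k)} {ρ ρ' : Representation k ↥(Zgrp k) (I27 → k)}

/-- the trilinear form -/
noncomputable def triC {X : Type*} [AddCommGroup X] [Module k X] (j : X →ₗ[k] (I27 → k)) : X →ₗ[k] X →ₗ[k] X →ₗ[k] k :=
  (((crB k).compr₂ (tfB k)).compl₁₂ j j).compr₂ (LinearMap.lcomp k k j)

theorem triC_apply {X : Type*} [AddCommGroup X] [Module k X] (j : X →ₗ[k] (I27 → k)) (x y z : X) :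
    triC j x y z = tf (cr (j x) (j y)) (j z) := rfl

theorem Fra.tri_inv' (f : Fra p a ψ ρ ρ') (g) (x y z : I27 → k) :
    tf (cr (Rr ρ ψ g x) (Rr ρ ψ g y)) (Rr ρ ψ g z) = tf (cr x y) z := by
  rw [Rr_apply, Rr_apply, Rr_apply, pair_cr f.pair]
  exact pair_tf f.pair.swap (ψ g) _ _

theorem triC_self {X : Type*} [AddCommGroup X] [Module k X] (j : X →ₗ[k] (I27 → k)) (x : X) :
    triC j x x x = 6 * cubicT (j x) := by
  rw [triC_apply, cr_self, tf_smul_left, tf_sh_self]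
  ring

/-- **the multiplicities** -/
theorem Fra.mult22 (f : Fra p a ψ ρ ρ') (hp4 : 4 < p) {i j : ℕ} (hij : i ≠ j) (hi : i < a) (hj : j < a)
    (h4i : ¬ InSoc ι p (Rr ρ' ψ) (4 * p ^ i)) (h4j : ¬ InSoc ι p (Rr ρ' ψ) (4 * p ^ j))
    {X X' : Submodule k (I27 → k)} (hX : ∀ g, ∀ x ∈ X, Rr ρ ψ g x ∈ X) (hX' : ∀ g, ∀ x ∈ X', Rr ρ ψ g x ∈ X')
    (hb : IsV ι p (subRep (Rr ρ ψ) X hX) (2 * p ^ i + 2 * p ^ j))
    (hb' : IsV ι p (subRep (Rr ρ ψ) X' hX') (2 * p ^ i + 2 * p ^ j)) : X ⊓ X' ≠ ⊥ := by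
  intro hinf
  have hp : p.Prime := Fact.out
  have h2 : (2 : k) ≠ 0 := two_ne f.odd
  have h3 : (3 : k) ≠ 0 := three_ne (p := p) (by omega)
  have h6 : (6 : k) ≠ 0 := by
    rw [show (6 : k) = 2 * 3 by norm_num]
    exact mul_ne_zero h2 h3
  obtain ⟨φ, hφ⟩ := hb.eqv ι p hb'
  -- multiplicity one
  have hc : (cf (Sy.{u, u, w} ι p) (Sq (subRep (Rr ρ ψ) X hX))).count (2 * p ^ i + 2 * p ^ j) ≤ 1 := by
    have t22 : tyl p (2 * p ^ i + 2 * p ^ j) = [2, 2] := tyl_pair (by norm_num) (by omega) le_rfl (by omega) hij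
    have t44 : tyl p (4 * p ^ i + 4 * p ^ j) = [4, 4] := tyl_pair (by norm_num) (by omega) le_rfl (by omega) hij
    have t4 : ∀ l, tyl p (4 * p ^ l) = [4] := fun l => tyl_single (by norm_num) (by omega) l
    have t0 : tyl p 0 = [] := tyl_eq_nil.2 rfl
    have e1 : 2 * p ^ i + 2 * p ^ j ≠ 4 * p ^ i + 4 * p ^ j := fun h => by rw [h, t44] at t22; simp at t22
    have e2 : ∀ l, 2 * p ^ i + 2 * p ^ j ≠ 4 * p ^ l := fun l h => by rw [h, t4] at t22; simp at t22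
    have e3 : 2 * p ^ i + 2 * p ^ j ≠ 0 := fun h => by rw [h, t0] at t22; simp at t22
    rw [sq_22 ι p f.card hp4 hij hi hj hb]
    simp only [Multiset.insert_eq_cons, Multiset.count_cons, Multiset.count_singleton, if_neg e1, if_neg (e2 i),
      if_neg (e2 j), if_neg e3]
    simp
  have hjs : ∀ (J : X →ₗ[k] (I27 → k)), (∀ g x, J (subRep (Rr ρ ψ) X hX g x) = Rr ρ ψ g (J x)) → Function.Injective J →
      triC J ≠ 0 := by
    intro J hJ hJi h0
    have hst : ∀ g, ∀ x ∈ LinearMap.range J, Rr ρ ψ g x ∈ LinearMap.range J := by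
      rintro g _ ⟨x, rfl⟩
      exact ⟨_, hJ g x⟩
    obtain ⟨-, x, ⟨y, rfl⟩, hx⟩ := f.l22n ι hp4 hij hi hj (LinearMap.range J) hst
      (IsV.iso ι p (LinearEquiv.ofInjective J hJi) (fun g y => Subtype.ext (hJ g y)) hb) h4i h4j
    have h7 := triC_self J y
    rw [h0] at h7
    exact (mul_ne_zero h6 hx) h7.symm
  have hsym : ∀ (J : X →ₗ[k] (I27 → k)) x y z, triC J x y z = triC J y x z := by
    intro J x y z
    rw [triC_apply, triC_apply, cr_comm]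
  have hinv : ∀ (J : X →ₗ[k] (I27 → k)), (∀ g x, J (subRep (Rr ρ ψ) X hX g x) = Rr ρ ψ g (J x)) → ∀ g x y z,
      triC J (subRep (Rr ρ ψ) X hX g x) (subRep (Rr ρ ψ) X hX g y) (subRep (Rr ρ ψ) X hX g z) = triC J x y z := by
    intro J hJ g x y z
    rw [triC_apply, triC_apply, hJ, hJ, hJ, f.tri_inv']
  let J₁ : X →ₗ[k] (I27 → k) := X'.subtype ∘ₗ (φ : X →ₗ[k] X')
  have hJ₁ : ∀ g x, J₁ (subRep (Rr ρ ψ) X hX g x) = Rr ρ ψ g (J₁ x) := by
    intro g x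
    show ((φ _ : X') : I27 → k) = _
    rw [hφ]
    rfl
  have hJ₁i : Function.Injective J₁ := X'.injective_subtype.comp φ.injective
  have hJ₀ : ∀ g x, X.subtype (subRep (Rr ρ ψ) X hX g x) = Rr ρ ψ g (X.subtype x) := fun _ _ => rfl
  have hT₀ := hjs X.subtype hJ₀ X.injective_subtype
  have hT₁ := hjs J₁ hJ₁ hJ₁i
  obtain ⟨x₀, y₀, z₀, h00⟩ : ∃ x y z, triC X.subtype x y z ≠ 0 := by
    by_contra hcon
    push Not at hcon
    apply hT₀
    ext x y z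
    exact hcon x y z
  obtain ⟨c₁, hc₁⟩ := tri_unique ι p hb hc (triC X.subtype) (triC J₁) (hsym _) (hsym _) (hinv _ hJ₀) (hinv _ hJ₁) hT₀
  have h11 : triC J₁ x₀ y₀ z₀ ≠ 0 := by
    rw [hc₁]
    refine mul_ne_zero (fun h => hT₁ ?_) h00
    ext x y z
    rw [hc₁, h, zero_mul]
    rfl
  -- the pencil
  obtain ⟨s, hs⟩ : ∃ s : k, triC (X.subtype + s • J₁) x₀ y₀ z₀ = 0 := by
    obtain ⟨A, hA⟩ : ∃ A : k, A = triC J₁ x₀ y₀ z₀ := ⟨_, rfl⟩
    obtain ⟨B, hB⟩ : ∃ B : k, B = tf (cr (X.subtype x₀) (J₁ y₀)) (J₁ z₀) + tf (cr (J₁ x₀) (X.subtype y₀)) (J₁ z₀) +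
      tf (cr (J₁ x₀) (J₁ y₀)) (X.subtype z₀) := ⟨_, rfl⟩
    obtain ⟨C, hC⟩ : ∃ C : k, C = tf (cr (X.subtype x₀) (X.subtype y₀)) (J₁ z₀) + tf (cr (X.subtype x₀) (J₁ y₀)) (X.subtype z₀) +
      tf (cr (J₁ x₀) (X.subtype y₀)) (X.subtype z₀) := ⟨_, rfl⟩
    obtain ⟨E, hE⟩ : ∃ E : k, E = triC X.subtype x₀ y₀ z₀ := ⟨_, rfl⟩
    have hpoly : ∀ s : k, triC (X.subtype + s • J₁) x₀ y₀ z₀ = A * s ^ 3 + B * s ^ 2 + C * s + E := by
      intro s
      rw [triC_apply, hA, hB, hC, hE, triC_apply, triC_apply]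
      simp only [LinearMap.add_apply, LinearMap.smul_apply, cr_add_left, cr_add_right, cr_smul_left, cr_smul_right,
        tf_add_left, tf_add_right, tf_smul_left, tf_smul_right]
      ring
    have hA0 : A ≠ 0 := by
      rw [hA]
      exact h11
    obtain ⟨s, hs⟩ := IsAlgClosed.exists_root (Polynomial.C A * Polynomial.X ^ 3 + Polynomial.C B * Polynomial.X ^ 2 +
      Polynomial.C C * Polynomial.X + Polynomial.C E) (by
        rw [Polynomial.degree_cubic hA0]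
        norm_num)
    refine ⟨s, ?_⟩
    rw [Polynomial.IsRoot.def] at hs
    rw [hpoly]
    simpa only [Polynomial.eval_add, Polynomial.eval_mul, Polynomial.eval_C, Polynomial.eval_pow, Polynomial.eval_X] using hs
  have hJs : ∀ g x, (X.subtype + s • J₁) (subRep (Rr ρ ψ) X hX g x) = Rr ρ ψ g ((X.subtype + s • J₁) x) := by
    intro g x
    rw [LinearMap.add_apply, LinearMap.smul_apply, hJ₁, hJ₀, LinearMap.add_apply, LinearMap.smul_apply, map_add, map_smul]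
  obtain ⟨c, hc'⟩ := tri_unique ι p hb hc (triC X.subtype) (triC (X.subtype + s • J₁)) (hsym _) (hsym _) (hinv _ hJ₀)
    (hinv _ hJs) hT₀
  have hc0 : c = 0 := by
    rw [hc'] at hs
    exact (mul_eq_zero.1 hs).resolve_right h00
  refine hjs (X.subtype + s • J₁) hJs ?_ ?_
  · rw [← LinearMap.ker_eq_bot, LinearMap.ker_eq_bot']
    intro x hx
    have h7 : (x : I27 → k) ∈ X ⊓ X' := by
      refine ⟨x.2, ?_⟩
      have h8 : (x : I27 → k) = -(s • J₁ x) := eq_neg_of_add_eq_zero_left hx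
      rw [h8]
      exact X'.neg_mem (X'.smul_mem _ (φ x).2)
    rw [hinf, Submodule.mem_bot] at h7
    exact Subtype.ext h7
  · ext x y z
    rw [hc', hc0, zero_mul]
    rfl

end Frame

section General2

variable {k : Type u} [Field k] [DecidableEq k] {F : Type w} [Field F] [Fintype F] [DecidableEq F] (ι : F →+* k)
variable (p : ℕ) [Fact p.Prime] [CharP k p] [CharP F p] [IsAlgClosed k] {a : ℕ} (hF : Fintype.card F = p ^ a)

/-- trilinear forms as bilinear maps -/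
theorem exists_beta {X : Type*} [AddCommGroup X] [Module k X] {Y : Type*} [AddCommGroup Y] [Module k Y]
    {Z : Type v} [AddCommGroup Z] [Module k Z] [FiniteDimensional k Z]
    (σ : Representation k (SpecialLinearGroup (Fin 2) F) X) (τ : Representation k (SpecialLinearGroup (Fin 2) F) Y)
    {π : Representation k (SpecialLinearGroup (Fin 2) F) Z} {b : ℕ} (hb : IsV ι p π b)
    (T : X →ₗ[k] Y →ₗ[k] Z →ₗ[k] k) (he : ∀ g x y z, T (σ g x) (τ g y) (π g z) = T x y z) :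
    ∃ (π' : Representation k (SpecialLinearGroup (Fin 2) F) Z) (B : Z →ₗ[k] Z →ₗ[k] k) (β : X →ₗ[k] Y →ₗ[k] Z),
      IsV ι p π' b ∧ (∀ x y z, B z (β x y) = T x y z) ∧ (∀ x, (∀ z, B z x = 0) → x = 0) ∧
      ∀ g x y, β (σ g x) (τ g y) = π' g (β x y) := by
  obtain ⟨π', B, D⟩ := exists_dul π
  have hinj : Function.Injective B.flip := by
    rw [← LinearMap.ker_eq_bot, LinearMap.ker_eq_bot']
    intro y hy
    exact D.right y fun x => LinearMap.congr_fun hy x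
  let e : Z ≃ₗ[k] Module.Dual k Z := LinearEquiv.ofInjectiveOfFinrankEq B.flip hinj Subspace.dual_finrank_eq.symm
  have hee : ∀ (φ : Module.Dual k Z) x, B x (e.symm φ) = φ x := by
    intro φ x
    have h1 : e (e.symm φ) = φ := e.apply_symm_apply φ
    have h2 : e (e.symm φ) x = B x (e.symm φ) := rfl
    rw [← h2, h1]
  let β : X →ₗ[k] Y →ₗ[k] Z := T.compr₂ (e.symm : Module.Dual k Z →ₗ[k] Z)
  have hβ : ∀ x y z, B z (β x y) = T x y z := fun x y z => hee (T x y) z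
  refine ⟨π', B, β, IsV.dual ι p hb D, hβ, D.right, fun g x y => ?_⟩
  rw [← sub_eq_zero]
  refine D.right _ fun z => ?_
  have h1 : π g (π g⁻¹ z) = z := by
    rw [← Module.End.mul_apply, ← map_mul, mul_inv_cancel, map_one, Module.End.one_apply]
  rw [map_sub, hβ, D.inv', hβ, sub_eq_zero, ← he g x y (π g⁻¹ z), h1]

/-- the factors of an irreducible socle -/
theorem IsV.soc_eq {V : Type v} [AddCommGroup V] [Module k V] {ρ : Representation k (SpecialLinearGroup (Fin 2) F) V} {b c : ℕ}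
    (h : IsV ι p ρ b) (hc : InSoc ι p ρ c) : c = b := by
  have := h.finite
  have h1 := hc.mem_cf
  rw [cf_irr (Sy.{u, v, w} ι p) h, Multiset.mem_singleton] at h1
  exact h1

/-- the sum of two submodules -/
theorem cf_sum {V : Type v} [AddCommGroup V] [Module k V] [FiniteDimensional k V]
    {ρ : Representation k (SpecialLinearGroup (Fin 2) F) V} {X₁ X₂ : Submodule k V} (hX₁ : ∀ g, ∀ x ∈ X₁, ρ g x ∈ X₁)
    (hX₂ : ∀ g, ∀ x ∈ X₂, ρ g x ∈ X₂) (hdis : X₁ ⊓ X₂ = ⊥) :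
    ∃ hi : ∀ g, ∀ x ∈ X₁ ⊔ X₂, ρ g x ∈ X₁ ⊔ X₂,
    cf (Sy.{u, v, w} ι p) (subRep ρ (X₁ ⊔ X₂) hi) = cf (Sy.{u, v, w} ι p) (subRep ρ X₁ hX₁) +
      cf (Sy.{u, v, w} ι p) (subRep ρ X₂ hX₂) := by
  have hi : ∀ g, ∀ x ∈ X₁ ⊔ X₂, ρ g x ∈ X₁ ⊔ X₂ := by
    intro g x hx
    obtain ⟨y, hy, z, hz, rfl⟩ := Submodule.mem_sup.1 hx
    rw [map_add]
    exact Submodule.add_mem_sup (hX₁ g y hy) (hX₂ g z hz)
  refine ⟨hi, ?_⟩
  have hcm : ∀ {X : Submodule k V} (hX : ∀ g, ∀ x ∈ X, ρ g x ∈ X) (hle : X ≤ X₁ ⊔ X₂),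
      ∃ hX' : ∀ g, ∀ x ∈ X.comap (X₁ ⊔ X₂).subtype, subRep ρ (X₁ ⊔ X₂) hi g x ∈ X.comap (X₁ ⊔ X₂).subtype,
      cf (Sy.{u, v, w} ι p) (subRep ρ X hX) =
        cf (Sy.{u, v, w} ι p) (subRep (subRep ρ (X₁ ⊔ X₂) hi) (X.comap (X₁ ⊔ X₂).subtype) hX') := by
    intro X hX hle
    refine ⟨fun g x hx => hX g _ hx, ?_⟩
    exact cf_iso (Sy.{u, v, w} ι p) ⟨(Submodule.comapSubtypeEquivOfLe hle).symm, fun g x => rfl⟩
  obtain ⟨hY₁, hV₁⟩ := hcm hX₁ le_sup_left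
  obtain ⟨hY₂, hV₂⟩ := hcm hX₂ le_sup_right
  have hcomp : IsCompl (X₁.comap (X₁ ⊔ X₂).subtype) (X₂.comap (X₁ ⊔ X₂).subtype) := by
    rw [isCompl_iff, disjoint_iff, codisjoint_iff]
    constructor
    · rw [← Submodule.comap_inf, hdis, eq_bot_iff]
      intro x hx
      exact Subtype.ext hx
    · rw [eq_top_iff]
      rintro ⟨x, hx⟩ -
      obtain ⟨y, hy, z, hz, rfl⟩ := Submodule.mem_sup.1 hx
      have h4 : (⟨y + z, hx⟩ : ↥(X₁ ⊔ X₂)) = ⟨y, le_sup_left (a := X₁) hy⟩ + ⟨z, le_sup_right (a := X₁) hz⟩ := rfl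
      rw [h4]
      exact Submodule.add_mem_sup hy hz
  rw [cf_sup (S := Sy.{u, v, w} ι p) hY₁ hY₂ hcomp, hV₁, hV₂]

/-- complements in submodules -/
theorem compl_sub {V : Type v} [AddCommGroup V] [Module k V] {ρ : Representation k (SpecialLinearGroup (Fin 2) F) V}
    (hall : ∀ (X : Submodule k V) (hX : ∀ g, ∀ x ∈ X, ρ g x ∈ X) (b : ℕ), IsV ι p (subRep ρ X hX) b →
      ∃ (K : Submodule k V) (_ : ∀ g, ∀ x ∈ K, ρ g x ∈ K), IsCompl X K)
    {K : Submodule k V} (hK : ∀ g, ∀ x ∈ K, ρ g x ∈ K) (X : Submodule k K) (hX : ∀ g, ∀ x ∈ X, subRep ρ K hK g x ∈ X) (b : ℕ)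
    (hb : IsV ι p (subRep (subRep ρ K hK) X hX) b) :
    ∃ (L : Submodule k K) (_ : ∀ g, ∀ x ∈ L, subRep ρ K hK g x ∈ L), IsCompl X L := by
  obtain ⟨hX', e, he⟩ := eqv_map (subRep ρ K hK) ρ K.subtype (fun _ _ => rfl) K.injective_subtype X hX
  obtain ⟨M, hM, hc⟩ := hall (X.map K.subtype) hX' b (IsV.iso ι p e he hb)
  refine ⟨M.comap K.subtype, fun g x hx => hM g _ hx, ?_⟩
  rw [isCompl_iff, disjoint_iff, codisjoint_iff]
  constructor
  · rw [eq_bot_iff]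
    rintro x ⟨h1, h2⟩
    have h3 : (x : V) ∈ X.map K.subtype ⊓ M := ⟨⟨x, h1, rfl⟩, h2⟩
    rw [hc.inf_eq_bot, Submodule.mem_bot] at h3
    exact (Submodule.mem_bot k).2 (Subtype.ext h3)
  · rw [eq_top_iff]
    rintro x -
    have h1 : (x : V) ∈ X.map K.subtype ⊔ M := by
      rw [hc.sup_eq_top]
      trivial
    obtain ⟨y, ⟨y', hy', hyy⟩, z, hz, hyz⟩ := Submodule.mem_sup.1 h1
    have hzK : z ∈ K := by
      have h2 : z = (x : V) - K.subtype y' := by rw [hyy, ← hyz]; abel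
      rw [h2]
      exact K.sub_mem x.2 y'.2
    have h3 : x = y' + ⟨z, hzK⟩ := by
      apply Subtype.ext
      rw [← hyz, ← hyy]
      rfl
    rw [h3]
    exact Submodule.add_mem_sup hy' hz

include hF in
/-- the factors of a tensor product, no overflow -/
theorem cf_tprod {X : Type v} [AddCommGroup X] [Module k X] [FiniteDimensional k X] {Y : Type v} [AddCommGroup Y] [Module k Y]
    [FiniteDimensional k Y] {σ : Representation k (SpecialLinearGroup (Fin 2) F) X}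
    {τ : Representation k (SpecialLinearGroup (Fin 2) F) Y} {b c : ℕ} (hb : IsV ι p σ b) (hc : IsV ι p τ c)
    (hb' : b < p ^ a) (hc' : c < p ^ a) (hov : ∀ l < a, b / p ^ l % p + c / p ^ l % p < p) :
    cf (Sy.{u, v, w} ι p) (σ.tprod τ) = cg p a b c := by
  have hp : p.Prime := Fact.out
  exact cf_of_cs ι p hF (fun d hd => (mem_cg hp.pos a hov hd).1) fun z hz => by
    rw [cs_tens ι p hF _ _ hz, cf_irr (Sy.{u, v, w} ι p) hb, cf_irr (Sy.{u, v, w} ι p) hc, cs_singleton, cs_singleton,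
      cs_cg k p a hb' hc' hov (hz.ne_zero (two_le_q p hF))]

include hF in
/-- **equivariant bilinear maps to an irreducible module** -/
theorem mem_cg_of_bilin {X : Type v} [AddCommGroup X] [Module k X] [FiniteDimensional k X] {Y : Type v} [AddCommGroup Y]
    [Module k Y] [FiniteDimensional k Y] {Z : Type v} [AddCommGroup Z] [Module k Z] [FiniteDimensional k Z]
    {σ : Representation k (SpecialLinearGroup (Fin 2) F) X} {τ : Representation k (SpecialLinearGroup (Fin 2) F) Y}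
    {π : Representation k (SpecialLinearGroup (Fin 2) F) Z} {b c d : ℕ} (hb : IsV ι p σ b) (hc : IsV ι p τ c)
    (hd : IsV ι p π d) (hb' : b < p ^ a) (hc' : c < p ^ a) (hov : ∀ l < a, b / p ^ l % p + c / p ^ l % p < p)
    (β : X →ₗ[k] Y →ₗ[k] Z) (he : ∀ g x y, β (σ g x) (τ g y) = π g (β x y)) (h0 : β ≠ 0) : d ∈ cg p a b c := by
  have hTe : ∀ g t, TensorProduct.lift β ((σ.tprod τ) g t) = π g (TensorProduct.lift β t) := by
    intro g t
    induction t using TensorProduct.induction_on with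
    | zero => rw [map_zero, map_zero, map_zero]
    | tmul x y => rw [Representation.tprod_apply, TensorProduct.map_tmul, TensorProduct.lift.tmul, TensorProduct.lift.tmul, he]
    | add x y hx hy => rw [map_add, map_add, map_add, hx, hy, map_add]
  obtain ⟨hk, hr, h3, -⟩ := cf_exact (Sy.{u, v, w} ι p) (σ.tprod τ) π (TensorProduct.lift β) hTe
  have htop : LinearMap.range (TensorProduct.lift β) = ⊤ := by
    refine (hd.irr.2 _ hr).resolve_left fun h => h0 ?_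
    rw [LinearMap.range_eq_bot] at h
    ext x y
    rw [← TensorProduct.lift.tmul, h]
    rfl
  have hrb : cf (Sy.{u, v, w} ι p) (subRep π (LinearMap.range (TensorProduct.lift β)) hr) = {d} := by
    refine cf_irr (Sy.{u, v, w} ι p) (IsV.iso ι p (LinearEquiv.ofTop _ htop).symm (fun s x => ?_) hd)
    exact Subtype.ext rfl
  rw [← cf_tprod ι p hF hb hc hb' hc' hov, h3, hrb]
  exact Multiset.mem_add.2 (Or.inr (Multiset.mem_singleton_self _))

end General2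

/-- the digits of a sum of two digits -/
theorem dg_pr {p n m i j : ℕ} (hp : 1 < p) (hn : n < p) (hm : m < p) (hij : i ≠ j) (l : ℕ) :
    (n * p ^ i + m * p ^ j) / p ^ l % p = if l = i then n else if l = j then m else 0 := by
  have h1 : ∀ m n : ℕ, m < p ^ n → ∀ d l : ℕ, (m + d * p ^ n) / p ^ l % p =
      if l < n then m / p ^ l % p else d / p ^ (l - n) % p := by
    intro m n hm d l
    split_ifs with h
    · obtain ⟨e, rfl⟩ : ∃ e, n = l + (e + 1) := ⟨n - l - 1, by omega⟩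
      have h2 : m + d * p ^ (l + (e + 1)) = m + p ^ l * (d * p ^ e * p) := by ring
      rw [h2, Nat.add_mul_div_left _ _ (Nat.pow_pos (by omega)), Nat.add_mul_mod_self_right]
    · obtain ⟨e, rfl⟩ : ∃ e, l = n + e := ⟨l - n, by omega⟩
      rw [pow_add, ← Nat.div_div_eq_div_mul, Nat.add_mul_div_right _ _ (Nat.pow_pos (by omega)),
        Nat.div_eq_of_lt hm, zero_add, Nat.add_sub_cancel_left]
  have key : ∀ {n m i j : ℕ}, n < p → m < p → i < j →
      (n * p ^ i + m * p ^ j) / p ^ l % p = if l = i then n else if l = j then m else 0 := by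
    intro n m i j hn hm hij
    have h2 : n * p ^ i < p ^ j := by
      calc n * p ^ i < p * p ^ i := Nat.mul_lt_mul_of_pos_right hn (Nat.pow_pos (by omega))
        _ = p ^ (i + 1) := by rw [pow_succ, mul_comm]
        _ ≤ p ^ j := Nat.pow_le_pow_right (by omega) (by omega)
    rw [h1 (n * p ^ i) j h2 m l, dg_single hp hn]
    by_cases hlj : l < j
    · rw [if_pos hlj]
      by_cases hli : l = i
      · rw [if_pos hli, if_pos hli]
      · rw [if_neg hli, if_neg hli, if_neg (by omega)]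
    · rw [if_neg hlj, if_neg (show l ≠ i by omega)]
      have h4 := dg_single hp hm 0 (l - j)
      rw [pow_zero, mul_one] at h4
      rw [h4]
      by_cases hl : l = j
      · rw [if_pos hl, if_pos (by omega)]
      · rw [if_neg hl, if_neg (by omega)]
  rcases Nat.lt_or_gt_of_ne hij with h | h
  · exact key hn hm h
  · rw [add_comm, key hm hn h]
    by_cases h2 : l = i
    · rw [if_pos h2, if_neg (by omega), if_pos h2]
    · rw [if_neg h2, if_neg h2]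

section Frame2

variable {k : Type u} [Field k] [DecidableEq k] [IsAlgClosed k] {K : Type w} [Field K] [Fintype K] [DecidableEq K]
  (ι : K →+* k) {p a : ℕ} [Fact p.Prime] [CharP k p] [CharP K p]
  {ψ : SpecialLinearGroup (Fin 2) K →* ↥(Zgrp k)} {ρ ρ' : Representation k ↥(Zgrp k) (I27 → k)}

theorem tri_s23 {k : Type u} [Field k] (x y z : I27 → k) : tf (cr x y) z = tf (cr x z) y := by
  rw [cr_comm x y, tf_cr, tf_comm]

theorem tri_s13 {k : Type u} [Field k] (x y z : I27 → k) : tf (cr x y) z = tf (cr y z) x := by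
  rw [tf_cr, tf_comm]

/-- the trilinear form on three submodules -/
noncomputable def triD (X Y Z : Submodule k (I27 → k)) : X →ₗ[k] Y →ₗ[k] Z →ₗ[k] k :=
  (((crB k).compr₂ (tfB k)).compl₁₂ X.subtype Y.subtype).compr₂ (LinearMap.lcomp k k Z.subtype)

theorem triD_apply (X Y Z : Submodule k (I27 → k)) (x : X) (y : Y) (z : Z) :
    triD X Y Z x y z = tf (cr (x : I27 → k) y) (z : I27 → k) := rfl

/-- **mixed products** -/
theorem Fra.mixed22 (f : Fra p a ψ ρ ρ') (hp4 : 4 < p) {i j : ℕ} (hij : i ≠ j) (hi : i < a) (hj : j < a)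
    {X Y : Submodule k (I27 → k)} (hX : ∀ g, ∀ x ∈ X, Rr ρ ψ g x ∈ X) (hY : ∀ g, ∀ x ∈ Y, Rr ρ ψ g x ∈ Y)
    (hb : IsV ι p (subRep (Rr ρ ψ) X hX) (2 * p ^ i + 2 * p ^ j)) {d : ℕ} (hd : IsV ι p (subRep (Rr ρ ψ) Y hY) d)
    (hdt : tyl p d = [2, 2]) (hne : d ≠ 2 * p ^ i + 2 * p ^ j) :
    ∀ x ∈ X, ∀ x' ∈ X, ∀ y ∈ Y, tf (cr x x') y = 0 := by
  by_contra hcon
  push Not at hcon
  obtain ⟨x, hx, x', hx', y, hy, hxy⟩ := hcon
  obtain ⟨π', B, β, hπ, hβ, hnd, hβe⟩ := exists_beta ι p (subRep (Rr ρ ψ) X hX) (subRep (Rr ρ ψ) X hX) hd (triD X X Y)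
    (fun g x y z => f.tri_inv' g _ _ _)
  obtain ⟨c, hc1, hc2⟩ := soc_of_sq ι p (σ := subRep (Rr ρ ψ) X hX) (ρ := π') β (fun x y => by
      rw [← sub_eq_zero]
      refine hnd _ fun z => ?_
      rw [map_sub, hβ, hβ, triD_apply, triD_apply, cr_comm, sub_self]) hβe (fun h0 => hxy (by
      have h1 := hβ ⟨x, hx⟩ ⟨x', hx'⟩ ⟨y, hy⟩
      rw [h0] at h1
      rw [triD_apply] at h1
      rw [← h1]
      simp))
  have hcd : c = d := hπ.soc_eq ι p hc2
  subst hcd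
  have t44 : tyl p (4 * p ^ i + 4 * p ^ j) = [4, 4] := tyl_pair (by norm_num) (by omega) le_rfl (by omega) hij
  have t4 : ∀ l, tyl p (4 * p ^ l) = [4] := fun l => tyl_single (by norm_num) (by omega) l
  have t0 : tyl p 0 = [] := tyl_eq_nil.2 rfl
  rw [sq_22 ι p f.card hp4 hij hi hj hb] at hc1
  simp only [Multiset.insert_eq_cons, Multiset.mem_cons, Multiset.mem_singleton] at hc1
  rcases hc1 with h | h | h | h | h
  · rw [h, t44] at hdt
    simp at hdt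
  · rw [h, t4] at hdt
    simp at hdt
  · rw [h, t4] at hdt
    simp at hdt
  · exact hne h
  · rw [h, t0] at hdt
    simp at hdt

/-- **three different types** -/
theorem Fra.three22 (f : Fra p a ψ ρ ρ') (hp4 : 4 < p) {i₀ j₀ i₁ j₁ i₂ j₂ : ℕ} (h0 : i₀ ≠ j₀) (h1 : i₁ ≠ j₁) (h2 : i₂ ≠ j₂)
    (hi₀ : i₀ < a) (hj₀ : j₀ < a) (hi₁ : i₁ < a) (hj₁ : j₁ < a)
    {X₀ X₁ X₂ : Submodule k (I27 → k)} (hX₀ : ∀ g, ∀ x ∈ X₀, Rr ρ ψ g x ∈ X₀) (hX₁ : ∀ g, ∀ x ∈ X₁, Rr ρ ψ g x ∈ X₁)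
    (hX₂ : ∀ g, ∀ x ∈ X₂, Rr ρ ψ g x ∈ X₂)
    (hb₀ : IsV ι p (subRep (Rr ρ ψ) X₀ hX₀) (2 * p ^ i₀ + 2 * p ^ j₀))
    (hb₁ : IsV ι p (subRep (Rr ρ ψ) X₁ hX₁) (2 * p ^ i₁ + 2 * p ^ j₁))
    (hb₂ : IsV ι p (subRep (Rr ρ ψ) X₂ hX₂) (2 * p ^ i₂ + 2 * p ^ j₂)) (hne : ∃ x ∈ X₀, ∃ y ∈ X₁, ∃ z ∈ X₂, tf (cr x y) z ≠ 0) :
    ∀ l < a, (if l = i₂ then 2 else if l = j₂ then 2 else 0) ≤
        (if l = i₀ then 2 else if l = j₀ then 2 else 0) + (if l = i₁ then 2 else if l = j₁ then 2 else 0) ∧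
      (if l = i₀ then 2 else if l = j₀ then 2 else 0) ≤
        (if l = i₁ then 2 else if l = j₁ then 2 else 0) + (if l = i₂ then 2 else if l = j₂ then 2 else 0) ∧
      (if l = i₁ then 2 else if l = j₁ then 2 else 0) ≤
        (if l = i₀ then 2 else if l = j₀ then 2 else 0) + (if l = i₂ then 2 else if l = j₂ then 2 else 0) := by
  have hp : p.Prime := Fact.out
  obtain ⟨x, hx, y, hy, z, hz, hxyz⟩ := hne
  obtain ⟨π', B, β, hπ, hβ, hnd, hβe⟩ := exists_beta ι p (subRep (Rr ρ ψ) X₀ hX₀) (subRep (Rr ρ ψ) X₁ hX₁) hb₂ (triD X₀ X₁ X₂)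
    (fun g x y z => f.tri_inv' g _ _ _)
  have hov : ∀ l < a, (2 * p ^ i₀ + 2 * p ^ j₀) / p ^ l % p + (2 * p ^ i₁ + 2 * p ^ j₁) / p ^ l % p < p := by
    intro l _
    rw [dg_pr hp.one_lt (by omega) (by omega) h0, dg_pr hp.one_lt (by omega) (by omega) h1]
    split_ifs <;> omega
  have hmem : 2 * p ^ i₂ + 2 * p ^ j₂ ∈ cg p a (2 * p ^ i₀ + 2 * p ^ j₀) (2 * p ^ i₁ + 2 * p ^ j₁) :=
    mem_cg_of_bilin ι p f.card hb₀ hb₁ hπ (pair_lt p (by omega) (by omega) h0 hi₀ hj₀)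
      (pair_lt p (by omega) (by omega) h1 hi₁ hj₁) hov β hβe fun h => hxyz (by
        have h4 := hβ ⟨x, hx⟩ ⟨y, hy⟩ ⟨z, hz⟩
        rw [h] at h4
        rw [triD_apply] at h4
        rw [← h4]
        simp)
  intro l hl
  have h5 := (mem_cg hp.pos a hov hmem).2 l hl
  rw [dg_pr hp.one_lt (by omega) (by omega) h0, dg_pr hp.one_lt (by omega) (by omega) h1,
    dg_pr hp.one_lt (by omega) (by omega) h2] at h5
  exact ⟨h5.1, h5.2.1, h5.2.2.1⟩

/-- the pattern `[2,2], [2,2], [2,2]` : three submodules -/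
theorem Fra.three_subs (f : Fra p a ψ ρ ρ') (hp4 : 4 < p) {W : List (List ℕ)} (hW : W = [[2, 2], [2, 2], [2, 2]])
    (hw : (W : Multiset (List ℕ)) = (cf (Sy.{u, u, w} ι p) (Rr ρ ψ)).map (tyl p)) :
    ∃ (i₀ j₀ i₁ j₁ i₂ j₂ : ℕ) (X₀ X₁ X₂ : Submodule k (I27 → k)) (hX₀ : ∀ g, ∀ x ∈ X₀, Rr ρ ψ g x ∈ X₀)
      (hX₁ : ∀ g, ∀ x ∈ X₁, Rr ρ ψ g x ∈ X₁) (hX₂ : ∀ g, ∀ x ∈ X₂, Rr ρ ψ g x ∈ X₂),
      i₀ ≠ j₀ ∧ i₁ ≠ j₁ ∧ i₂ ≠ j₂ ∧ i₀ < a ∧ j₀ < a ∧ i₁ < a ∧ j₁ < a ∧ i₂ < a ∧ j₂ < a ∧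
      IsV ι p (subRep (Rr ρ ψ) X₀ hX₀) (2 * p ^ i₀ + 2 * p ^ j₀) ∧
      IsV ι p (subRep (Rr ρ ψ) X₁ hX₁) (2 * p ^ i₁ + 2 * p ^ j₁) ∧
      IsV ι p (subRep (Rr ρ ψ) X₂ hX₂) (2 * p ^ i₂ + 2 * p ^ j₂) ∧
      2 * p ^ i₀ + 2 * p ^ j₀ ≠ 2 * p ^ i₁ + 2 * p ^ j₁ ∧ 2 * p ^ i₀ + 2 * p ^ j₀ ≠ 2 * p ^ i₂ + 2 * p ^ j₂ ∧
      2 * p ^ i₁ + 2 * p ^ j₁ ≠ 2 * p ^ i₂ + 2 * p ^ j₂ ∧ X₁ ⊓ X₂ = ⊥ ∧ X₀ ⊔ (X₁ ⊔ X₂) = ⊤ := by
  have hp : p.Prime := Fact.out
  have hlt := cf_lt ι p f.card (Rr ρ ψ)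
  have hty : ∀ d ∈ cf (Sy.{u, u, w} ι p) (Rr ρ ψ), tyl p d = [2, 2] := by
    intro d hd
    have h1 : tyl p d ∈ (cf (Sy.{u, u, w} ι p) (Rr ρ ψ)).map (tyl p) := Multiset.mem_map_of_mem _ hd
    rw [← hw, hW] at h1
    simpa using h1
  have t4 : ∀ l, tyl p (4 * p ^ l) = [4] := fun l => tyl_single (by norm_num) (by omega) l
  have h4 : ∀ l, ¬ InSoc ι p (Rr ρ' ψ) (4 * p ^ l) := by
    intro l h
    have h1 := h.mem_cf
    rw [f.cf_eq ι] at h1
    have h2 := hty _ h1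
    rw [t4] at h2
    simp at h2
  have hcompl : ∀ (X : Submodule k (I27 → k)) (hX : ∀ g, ∀ x ∈ X, Rr ρ ψ g x ∈ X) (b : ℕ), IsV ι p (subRep (Rr ρ ψ) X hX) b →
      ∃ (M : Submodule k (I27 → k)) (_ : ∀ g, ∀ x ∈ M, Rr ρ ψ g x ∈ M), IsCompl X M := by
    intro X hX b hb
    have h1 : b ∈ cf (Sy.{u, u, w} ι p) (Rr ρ ψ) := InSoc.mem_cf ι p ⟨X, hX, hb⟩
    obtain ⟨i, hi, j, hj, hij, rfl⟩ := tyl_pair_inv (hty b h1) (hlt b h1) (by norm_num) (by norm_num)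
    exact f.l22 ι hp4 hij hi hj X hX hb (h4 i) (h4 j)
  have hsoc := ss_of_compl ι p _ (I27 → k) (Rr ρ ψ) le_rfl hcompl
  -- the multiplicities
  have hcnt : ∀ b ∈ cf (Sy.{u, u, w} ι p) (Rr ρ ψ), (cf (Sy.{u, u, w} ι p) (Rr ρ ψ)).count b = 1 := by
    intro b hb
    have h1 := Multiset.one_le_count_iff_mem.2 hb
    by_contra hne
    obtain ⟨X, hX, hV⟩ := hsoc b hb
    obtain ⟨M, hM, hc⟩ := hcompl X hX b hV
    have h2 := cf_sup (S := Sy.{u, u, w} ι p) hX hM hc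
    rw [cf_irr (Sy.{u, u, w} ι p) hV] at h2
    have h3 : b ∈ cf (Sy.{u, u, w} ι p) (subRep (Rr ρ ψ) M hM) := by
      rw [h2, Multiset.count_add, Multiset.count_singleton_self] at hne
      rw [h2, Multiset.count_add, Multiset.count_singleton_self] at h1
      rw [← Multiset.one_le_count_iff_mem]
      omega
    obtain ⟨Y, hY, hVY⟩ := ss_of_compl ι p _ M (subRep (Rr ρ ψ) M hM) le_rfl (compl_sub ι p hcompl hM) b h3
    obtain ⟨hY', e, he⟩ := eqv_map (subRep (Rr ρ ψ) M hM) (Rr ρ ψ) M.subtype (fun _ _ => rfl) M.injective_subtype Y hY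
    have hVY' := IsV.iso ι p e he hVY
    obtain ⟨i, hi, j, hj, hij, rfl⟩ := tyl_pair_inv (hty b hb) (hlt b hb) (by norm_num) (by norm_num)
    refine f.mult22 ι hp4 hij hi hj (h4 i) (h4 j) hX hY' hV hVY' ?_
    rw [eq_bot_iff, ← hc.inf_eq_bot]
    exact inf_le_inf_left _ (Submodule.map_subtype_le M Y)
  -- the labels
  have e : (W : Multiset (List ℕ)) = [2, 2] ::ₘ [2, 2] ::ₘ [2, 2] ::ₘ 0 := by
    rw [hW]
    rfl
  rw [e] at hw
  obtain ⟨b₀, s₀, hs₀, ht₀, hw⟩ := map_cons_inv _ hw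
  obtain ⟨b₁, s₁, hs₁, ht₁, hw⟩ := map_cons_inv _ hw
  obtain ⟨b₂, s₂, hs₂, ht₂, hw⟩ := map_cons_inv _ hw
  have hs5 : s₂ = 0 := Multiset.map_eq_zero.1 hw.symm
  subst hs5 hs₂ hs₁
  have m₀ : b₀ ∈ cf (Sy.{u, u, w} ι p) (Rr ρ ψ) := by rw [hs₀]; simp
  have m₁ : b₁ ∈ cf (Sy.{u, u, w} ι p) (Rr ρ ψ) := by rw [hs₀]; simp
  have m₂ : b₂ ∈ cf (Sy.{u, u, w} ι p) (Rr ρ ψ) := by rw [hs₀]; simp
  have n01 : b₀ ≠ b₁ := by
    intro h
    have h1 := hcnt b₀ m₀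
    rw [hs₀, h, Multiset.count_cons_self, Multiset.count_cons_self] at h1
    omega
  have n02 : b₀ ≠ b₂ := by
    intro h
    have h1 := hcnt b₀ m₀
    rw [hs₀, h, Multiset.count_cons_self, Multiset.count_cons_of_ne (by rw [← h]; exact n01), Multiset.count_cons_self] at h1
    omega
  have n12 : b₁ ≠ b₂ := by
    intro h
    have h1 := hcnt b₁ m₁
    rw [hs₀, h, Multiset.count_cons_of_ne (by rw [← h]; exact n01.symm), Multiset.count_cons_self, Multiset.count_cons_self] at h1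
    omega
  obtain ⟨X₀, hX₀, hV₀⟩ := hsoc b₀ m₀
  obtain ⟨X₁, hX₁, hV₁⟩ := hsoc b₁ m₁
  obtain ⟨X₂, hX₂, hV₂⟩ := hsoc b₂ m₂
  obtain ⟨i₀, hi₀, j₀, hj₀, h₀, rfl⟩ := tyl_pair_inv ht₀ (hlt b₀ m₀) (by norm_num) (by norm_num)
  obtain ⟨i₁, hi₁, j₁, hj₁, h₁, rfl⟩ := tyl_pair_inv ht₁ (hlt b₁ m₁) (by norm_num) (by norm_num)
  obtain ⟨i₂, hi₂, j₂, hj₂, h₂, rfl⟩ := tyl_pair_inv ht₂ (hlt b₂ m₂) (by norm_num) (by norm_num)
  have hd : X₁ ⊓ X₂ = ⊥ := by
    refine (hV₁.inf_or_le ι p hX₂).resolve_right fun hle => n12 ?_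
    have h1 := mem_cf_of_le ι p hV₁ hX₂ hle
    rw [cf_irr (Sy.{u, u, w} ι p) hV₂, Multiset.mem_singleton] at h1
    exact h1
  obtain ⟨hi, hcs⟩ := cf_sum ι p hX₁ hX₂ hd
  have hd0 : X₀ ⊓ (X₁ ⊔ X₂) = ⊥ := by
    refine (hV₀.inf_or_le ι p hi).resolve_right fun hle => ?_
    have h1 := mem_cf_of_le ι p hV₀ hi hle
    rw [hcs, cf_irr (Sy.{u, u, w} ι p) hV₁, cf_irr (Sy.{u, u, w} ι p) hV₂, Multiset.mem_add, Multiset.mem_singleton,
      Multiset.mem_singleton] at h1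
    rcases h1 with h1 | h1
    · exact n01 h1
    · exact n02 h1
  refine ⟨i₀, j₀, i₁, j₁, i₂, j₂, X₀, X₁, X₂, hX₀, hX₁, hX₂, h₀, h₁, h₂, hi₀, hj₀, hi₁, hj₁, hi₂, hj₂, hV₀, hV₁, hV₂,
    n01, n02, n12, hd, ?_⟩
  apply Submodule.eq_top_of_finrank_eq
  have e1 := hV₀.dim_pair ι f.card (by omega) (by omega) h₀ hi₀ hj₀
  have e2 := hV₁.dim_pair ι f.card (by omega) (by omega) h₁ hi₁ hj₁
  have e3 := hV₂.dim_pair ι f.card (by omega) (by omega) h₂ hi₂ hj₂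
  have e4 := Submodule.finrank_sup_add_finrank_inf_eq X₁ X₂
  have e5 := Submodule.finrank_sup_add_finrank_inf_eq X₀ (X₁ ⊔ X₂)
  rw [hd, finrank_bot] at e4
  rw [hd0, finrank_bot] at e5
  have e6 : Module.finrank k (I27 → k) = 27 := by
    rw [Module.finrank_fintype_fun_eq_card]
    rfl
  omega

end Frame2

end Cfsg.Agent.R2.H28.SL2
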