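import Cfsg.Agent.R2.H28.SL2.Both
import Cfsg.Agent.R2.SL2.Bridge

/-!
# Types of labels and strict pressure for patterns (helper28)

`tyl_single`, `tyl_pair` : the types of the labels with one or two digits; `hb_le_typ` : the exceptional labels have the
type `[1, p - 2]` (`[p - 3]` for `q = p`); `no_trivial` : for `p ≥ 5` a pattern of the list with a trivial factor does not
occur, except two patterns for `q = 7` and `q = 11`.
-/

set_option autoImplicit false
set_option linter.unusedSectionVars false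

namespace Cfsg.Agent.R2.H28.SL2

open Matrix Cfsg.Agent.H943.SL2Rel Cfsg.Agent.H943.SL2Mod Cfsg.Agent.H943.RepAdd
open Cfsg.Agent.R2.SL2 (typ tyl coe_tyl typ_step typ_zero listE6 tyl_eq_nil mem_typ)

universe u v w

section labels

variable {p : ℕ} [Fact p.Prime]

theorem tyl_eq {b : ℕ} {l : List ℕ} (hl : l.Pairwise (· ≤ ·)) (h : typ p b = l) : tyl p b = l := by
  have h1 : (tyl p b).Perm l := by
    rw [← Multiset.coe_eq_coe, coe_tyl, h]
  exact h1.eq_of_pairwise' (r := (· ≤ ·)) (Multiset.pairwise_sort _ _) hl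

theorem typ_mul (b : ℕ) : typ p (p * b) = typ p b := by
  have hp : p.Prime := Fact.out
  rcases Nat.eq_zero_or_pos b with rfl | hb
  · rw [mul_zero]
  · rw [typ_step hp.one_lt (Nat.mul_pos hp.pos hb).ne', Nat.mul_mod_right, if_pos rfl, zero_add, Nat.mul_div_cancel_left _ hp.pos]

theorem typ_pow (b i : ℕ) : typ p (b * p ^ i) = typ p b := by
  induction i with
  | zero => rw [pow_zero, mul_one]
  | succ i ih => rw [show b * p ^ (i + 1) = p * (b * p ^ i) by ring, typ_mul, ih]

theorem typ_add {c n : ℕ} (h0 : 0 < n) (hn : n < p) : typ p (p * c + n) = {n} + typ p c := by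
  have hp : p.Prime := Fact.out
  rw [typ_step hp.one_lt (by omega), Nat.mul_add_mod, Nat.mod_eq_of_lt hn, if_neg h0.ne', Nat.mul_add_div hp.pos,
    Nat.div_eq_of_lt hn, add_zero]

theorem typ_single {n : ℕ} (h0 : 0 < n) (hn : n < p) (i : ℕ) : typ p (n * p ^ i) = {n} := by
  have h := typ_add (c := 0) h0 hn
  rw [mul_zero, zero_add, typ_zero, add_zero] at h
  rw [typ_pow, h]

theorem tyl_single {n : ℕ} (h0 : 0 < n) (hn : n < p) (i : ℕ) : tyl p (n * p ^ i) = [n] :=
  tyl_eq (List.pairwise_singleton _ _) (typ_single h0 hn i)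

theorem typ_pair {n m : ℕ} (h0 : 0 < n) (hn : n < p) (h0' : 0 < m) (hm : m < p) {i j : ℕ} (hij : i ≠ j) :
    typ p (n * p ^ i + m * p ^ j) = {n, m} := by
  have key : ∀ {n m : ℕ}, 0 < n → n < p → 0 < m → m < p → ∀ i j : ℕ, i < j →
      typ p (n * p ^ i + m * p ^ j) = {n, m} := by
    intro n m h0 hn h0' hm i j hij
    obtain ⟨d, rfl⟩ : ∃ d, j = i + (d + 1) := ⟨j - i - 1, by omega⟩
    rw [show n * p ^ i + m * p ^ (i + (d + 1)) = (p * (m * p ^ d) + n) * p ^ i by ring, typ_pow, typ_add h0 hn,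
      typ_single h0' hm]
    rfl
  rcases Nat.lt_or_gt_of_ne hij with h | h
  · exact key h0 hn h0' hm i j h
  · rw [add_comm, key h0' hm h0 hn j i h, Multiset.pair_comm]

theorem tyl_pair {n m : ℕ} (h0 : 0 < n) (hn : n < p) (hnm : n ≤ m) (hm : m < p) {i j : ℕ} (hij : i ≠ j) :
    tyl p (n * p ^ i + m * p ^ j) = [n, m] :=
  tyl_eq (List.pairwise_pair.2 hnm) (typ_pair h0 hn (by omega) hm hij)

theorem tyl_pair' {n m : ℕ} (h0 : 0 < n) (hn : n < p) (hnm : n ≤ m) (hm : m < p) {i j : ℕ} (hij : i ≠ j) :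
    tyl p (m * p ^ i + n * p ^ j) = [n, m] := by
  rw [add_comm]
  exact tyl_pair h0 hn hnm hm (Ne.symm hij)

/-- the type of the exceptional labels -/
def hty (p a : ℕ) : List ℕ := if a = 1 then [p - 3] else [1, p - 2]

theorem hb_le_typ (hp5 : 5 ≤ p) {a b : ℕ} (hlt : b < p ^ a) (h9 : p ^ a ≠ 9) :
    hb p a b ≤ if tyl p b = hty p a then 1 else 0 := by
  have hp : p.Prime := Fact.out
  split_ifs with h
  · exact hb_le_one hp hlt h9
  · rw [Nat.le_zero]
    unfold hb
    rw [Finset.card_eq_zero, Finset.filter_eq_empty_iff]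
    intro i hi hE
    rw [Finset.mem_range] at hi
    apply h
    unfold hty
    rcases exc_odd hp (by omega) hi hlt hE with ⟨h1, h2⟩ | ⟨h1, h2⟩
    · rw [if_pos h1, h2]
      have := tyl_single (p := p) (n := p - 3) (by omega) (by omega) 0
      rwa [pow_zero, mul_one] at this
    · rw [if_neg (by omega), h2]
      have := tyl_pair' (p := p) (n := 1) (m := p - 2) (by omega) (by omega) (by omega) (by omega) (succ_mod_ne h1 hi)
      rwa [one_mul] at this

theorem Hs_le_count (hp5 : 5 ≤ p) {a : ℕ} (h9 : p ^ a ≠ 9) {s : Multiset ℕ} (hlt : ∀ b ∈ s, b < p ^ a) :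
    Hs p a s ≤ (s.map (tyl p)).count (hty p a) := by
  induction s using Multiset.induction with
  | empty => simp [Hs]
  | cons b s ih =>
    have h1 := ih fun c hc => hlt c (Multiset.mem_cons_of_mem hc)
    have h2 := hb_le_typ hp5 (hlt b (Multiset.mem_cons_self b s)) h9
    unfold Hs at h1 ⊢
    rw [Multiset.map_cons, Multiset.sum_cons, Multiset.map_cons, Multiset.count_cons]
    have h3 : (if tyl p b = hty p a then 1 else 0) = if hty p a = tyl p b then 1 else 0 := by
      by_cases h : tyl p b = hty p a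
      · rw [if_pos h, if_pos h.symm]
      · rw [if_neg h, if_neg (Ne.symm h)]
    omega

end labels

variable {k : Type u} [Field k] [DecidableEq k] {F : Type w} [Field F] [Fintype F] [DecidableEq F] (ι : F →+* k)
variable (p : ℕ) [Fact p.Prime] [CharP k p] [CharP F p] [IsAlgClosed k] {a : ℕ} (hF : Fintype.card F = p ^ a)

theorem ne_nine (hp5 : 5 ≤ p) (a : ℕ) : p ^ a ≠ 9 := by
  have hp : p.Prime := Fact.out
  intro h
  rcases Nat.eq_zero_or_pos a with rfl | ha
  · norm_num at h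
  · have h1 : p ∣ 9 := by
      rw [← h]
      exact dvd_pow_self p ha.ne'
    have h2 : p ∣ 3 := hp.dvd_of_dvd_pow (show p ∣ 3 ^ 2 from h1)
    have h3 := Nat.le_of_dvd (by norm_num) h2
    omega

include hF in
/-- **no trivial factors** -/
theorem no_trivial {V : Type v} [AddCommGroup V] [Module k V] [FiniteDimensional k V]
    {ρ : Representation k (SpecialLinearGroup (Fin 2) F) V} (hp5 : 5 ≤ p) (hq7 : 7 ≤ p ^ a) (hfx : ∀ x, (∀ g, ρ g x = x) → x = 0)
    (hco : ∀ f : V →ₗ[k] k, (∀ g x, f (ρ g x) = f x) → f = 0) {W : List (List ℕ)} (hW : W ∈ listE6)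
    (hw : (W : Multiset (List ℕ)) = (cf (Sy.{u, v, w} ι p) ρ).map (tyl p)) :
    [] ∉ W ∨ (a = 1 ∧ p = 7 ∧ W = [[], [], [2], [4], [4], [4], [6]]) ∨ (a = 1 ∧ p = 11 ∧ W = [[], [2], [4], [8], [8]]) := by
  have hp : p.Prime := Fact.out
  by_cases hmem : [] ∉ W
  · exact Or.inl hmem
  right
  rw [not_not] at hmem
  have ha := ha_pos p hF
  have h9 := ne_nine p hp5 a
  have h0 : hb p a 0 = 0 := by
    have h1 := hb_le_typ (p := p) hp5 (a := a) (b := 0) (Nat.pow_pos hp.pos) h9
    rw [tyl_eq_nil.2 rfl, if_neg] at h1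
    · omega
    · unfold hty
      split_ifs <;> simp
  -- the count of `[]`
  have h2 : (W : Multiset (List ℕ)).count [] = (cf (Sy.{u, v, w} ι p) ρ).count 0 := by
    rw [hw, Multiset.count_map, Multiset.count_eq_card_filter_eq]
    congr 1
    refine Multiset.filter_congr fun b _ => ?_
    rw [eq_comm, tyl_eq_nil, eq_comm]
  have h3 : 0 < (cf (Sy.{u, v, w} ι p) ρ).count 0 := by
    rw [← h2]
    exact Multiset.count_pos.2 hmem
  have h4 := strict_pressure ι p hF h0 hfx hco h3
  have h5 := Hs_le_count (p := p) hp5 h9 (cf_lt ι p hF ρ)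
  rw [← hw] at h5
  rw [← h2] at h4
  have h6 : (W : Multiset (List ℕ)).count [] < (W : Multiset (List ℕ)).count (hty p a) := lt_of_lt_of_le h4 h5
  by_cases ha1 : a = 1
  · -- labels below `p`
    have h7 : ∀ t ∈ W, t.length ≤ 1 ∧ ∀ d ∈ t, d < p := by
      intro t ht
      have h8 : t ∈ (cf (Sy.{u, v, w} ι p) ρ).map (tyl p) := by
        rw [← hw]
        exact ht
      obtain ⟨b, hb, rfl⟩ := Multiset.mem_map.1 h8
      have h9 := cf_lt ι p hF ρ b hb
      refine ⟨?_, fun d hd => (Cfsg.Agent.R2.SL2.tyl_mem hd).2⟩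
      have := Cfsg.Agent.R2.SL2.length_tyl_le h9
      omega
    have key : ∀ W ∈ listE6, [] ∈ W → (∀ t ∈ W, t.length ≤ 1) → ∀ n ∈ List.range 30, 4 ≤ n → (∀ t ∈ W, ∀ d ∈ t, d < n + 3) →
        (W : Multiset (List ℕ)).count [] < (W : Multiset (List ℕ)).count [n] → (n = 4 ∧ W = [[], [], [2], [4], [4], [4], [6]]) ∨ (n = 8 ∧ W = [[], [2], [4], [8], [8]]) := by
      decide +kernel
    have key2 : ∀ W ∈ listE6, ∀ t ∈ W, ∀ d ∈ t, d < 30 := by decide +kernel
    have h8 : hty p a = [p - 3] := by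
      unfold hty
      rw [if_pos ha1]
    rw [h8] at h6
    have h10' : 0 < (W : Multiset (List ℕ)).count [p - 3] := by omega
    have h10 : [p - 3] ∈ W := Multiset.count_pos.1 h10'
    have h11 := key2 W hW _ h10 (p - 3) (List.mem_singleton_self _)
    rw [ha1, pow_one] at hq7
    rcases key W hW hmem (fun t ht => (h7 t ht).1) (p - 3) (List.mem_range.2 h11) (by omega) (fun t ht d hd => by
      have := (h7 t ht).2 d hd
      omega) h6 with ⟨h12, h13⟩ | ⟨h12, h13⟩
    · exact Or.inl ⟨ha1, by omega, h13⟩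
    · exact Or.inr ⟨ha1, by omega, h13⟩
  · exfalso
    have h8 : hty p a = [1, p - 2] := by
      unfold hty
      rw [if_neg ha1]
    rw [h8] at h6
    have key : ∀ W ∈ listE6, [] ∈ W → ∀ n ∈ List.range 30, 3 ≤ n → ¬ (W : Multiset (List ℕ)).count [] < (W : Multiset (List ℕ)).count [1, n] := by decide +kernel
    have key2 : ∀ W ∈ listE6, ∀ t ∈ W, ∀ d ∈ t, d < 30 := by decide +kernel
    have h10' : 0 < (W : Multiset (List ℕ)).count [1, p - 2] := by omega
    have h10 : [1, p - 2] ∈ W := Multiset.count_pos.1 h10'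
    have h11 := key2 W hW _ h10 (p - 2) (by simp)
    exact key W hW hmem (p - 2) (List.mem_range.2 h11) (by omega) h6

end Cfsg.Agent.R2.H28.SL2
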